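import Cfsg.Agent.LargeExt10.Golay.Family

/-!
# The centraliser of the totally singular subspace is elementary abelian of order `2 ^ 11`
-/

set_option autoImplicit false

namespace Cfsg.Agent.CoGolay

open QuadraticMap Cfsg.Agent.Reflections Cfsg.Agent.LargeExtraspecial Cfsg.Agent.LargeExt10
open Cfsg.Agent.LargeExt10.Co
open Cfsg.Agent.OrthCohom (bilB)

variable {G : Type*} [Group G] [Finite G] {z : G} {Q : Subgroup G}

/-- The centraliser of the preimage of `U₀`. -/
def AG (D : Co z Q) : Subgroup G := Subgroup.centralizer {x | x ∈ Q ∧ ∃ k < 16, D.c x = vc k}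

/-- The product of the elements selected by the bits. -/
def cg : List G → ℕ → G
  | [], _ => 1
  | b :: r, m => (if m.testBit 0 then b else 1) * cg r (m / 2)

theorem cg_mem {H : Subgroup G} : ∀ (L : List G) (m : ℕ), (∀ b ∈ L, b ∈ H) → cg L m ∈ H
  | [], _, _ => one_mem H
  | b :: r, m, h => by
    rw [cg]
    refine mul_mem ?_ (cg_mem r _ fun x hx => h x (List.mem_cons_of_mem _ hx))
    split
    exacts [h b List.mem_cons_self, one_mem H]

theorem cg_hom : ∀ (L : List G) (m m' : ℕ), (∀ a ∈ L, a * a = 1 ∧ ∀ b ∈ L, Commute a b) →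
    cg L (m ^^^ m') = cg L m * cg L m'
  | [], _, _, _ => (one_mul 1).symm
  | b :: r, m, m', h => by
    have hr : ∀ a ∈ r, a * a = 1 ∧ ∀ c ∈ r, Commute a c := fun a ha =>
      ⟨(h a (List.mem_cons_of_mem _ ha)).1, fun c hc =>
        (h a (List.mem_cons_of_mem _ ha)).2 c (List.mem_cons_of_mem _ hc)⟩
    have hb : ∀ k, Commute b (cg r k) := fun k => Subgroup.mem_centralizer_singleton_iff.1
      (cg_mem (H := Subgroup.centralizer ({b} : Set G)) r k fun c hc =>
        Subgroup.mem_centralizer_singleton_iff.2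
          ((h b List.mem_cons_self).2 c (List.mem_cons_of_mem _ hc)).symm.eq) |>.symm
    rw [cg, cg, cg, Nat.testBit_xor, Nat.xor_div_two, cg_hom r _ _ hr]
    have hbb := (h b List.mem_cons_self).1
    cases m.testBit 0 <;> cases m'.testBit 0 <;> simp only [Bool.xor_false, Bool.xor_true, Bool.not_false,
      Bool.not_true, if_true, one_mul, Bool.false_eq_true, if_false]
    · rw [← mul_assoc, ← mul_assoc, (hb _).eq]
    · rw [mul_assoc]
    · rw [mul_assoc b, ← mul_assoc (cg r (m / 2)) b, ← (hb _).eq, mul_assoc b (cg r (m / 2)), ← mul_assoc b b,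
        hbb, one_mul]

variable {D : Co z Q}

theorem Q_of_low {k : ℕ} (hk : k < 16) : qm k = false :=
  (show ∀ k : Fin 16, qm k.1 = false by decide +kernel) ⟨k, hk⟩

theorem mem_AG {g : G} : g ∈ AG D ↔ ∀ x ∈ Q, ∀ k < 16, D.c x = vc k → Commute g x := by
  rw [AG, Subgroup.mem_centralizer_iff]
  exact ⟨fun h x hx k hk hc => (h x ⟨hx, k, hk, hc⟩).symm,
    fun h x ⟨hx, k, hk, hc⟩ => (h x hx k hk hc).symm⟩

theorem AG_cz {g : G} (hg : g ∈ AG D) : Commute g z :=
  mem_AG.1 hg z D.setup.z_mem 0 (by norm_num) (by rw [D.c_z, vc_zero])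

theorem mem_AG_Q {x : G} (hx : x ∈ Q) : x ∈ AG D ↔ ∃ k < 16, D.c x = vc k := by
  obtain ⟨k, hk, e⟩ := vc_surj (D.c x)
  have hc := List.all_eq_true.1 u0_ok k (List.mem_range.2 hk)
  rw [beq_iff_eq] at hc
  constructor
  · intro h
    refine ⟨k, ?_, e.symm⟩
    have : ((List.range 16).all fun j => orth k j) = true := List.all_eq_true.2 fun j hj => by
      have hj' : j < 16 := List.mem_range.1 hj
      obtain ⟨w, hw, hcw⟩ := D.coords.surj (vc j)
      refine orth_true hk (by omega) ?_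
      rw [e, ← hcw]
      exact (D.commute_iff hx hw).1 (mem_AG.1 h w hw j hj' hcw)
    rw [this] at hc
    simpa using hc
  · rintro ⟨k', hk', e'⟩
    obtain rfl : k = k' := vc_inj hk (by omega) (e.trans e')
    rw [decide_eq_true hk'] at hc
    refine mem_AG.2 fun w hw j hj hcw => (D.commute_iff hx hw).2 ?_
    rw [← e, hcw]
    exact B_of_orth hk (by omega) (List.all_eq_true.1 hc.symm j (List.mem_range.2 hj))

theorem p6_lin {p : ℕ} (hp : p < 64) : ∀ k < 256, p6 p k = xl (imgs8.map (p6 p)) k ∧ p6 p k < 256 :=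
  fun k hk => by
    have h := List.all_eq_true.1 (List.all_eq_true.1 p6_linear p (List.mem_range.2 hp)) k
      (List.mem_range.2 hk)
    simpa using h

theorem acts_p6_mul {a b : G} {p q : ℕ} (hp : p < 64) (hq : q < 64) (ha : Acts D a (p6 p))
    (hb : Acts D b (p6 q)) : Acts D (a * b) (p6 (p ^^^ q)) := by
  have hpq : p ^^^ q < 64 := Nat.xor_lt_two_pow (n := 6) hp hq
  refine ⟨ha.cz.mul_left hb.cz, Rep.of_basis (p6_lin hpq) fun v hv => ?_⟩
  have h := List.all_eq_true.1 (List.all_eq_true.1 (List.all_eq_true.1 p6_add p (List.mem_range.2 hp)) q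
    (List.mem_range.2 hq)) v hv
  rw [((ha.mul hb).rep v (imgs8_lt v hv)).2, ← beq_iff_eq.1 h]
  rfl

theorem acts_zero {x : G} (hx : x ∈ Q) : Acts D x (p6 0) :=
  (acts_Q hx).congr fun k hk => by
    have h := (show ∀ L : List ℕ, xl L 0 = 0 from fun L => by
      induction L with
      | nil => rfl
      | cons b r ih => simpa [xl, Cfsg.Agent.Golay.combAux] using ih) (tpCols k)
    rw [p6, h, Nat.xor_zero]

/-- Elements with the same map differ by an element of `Q`. -/
theorem Acts.quot {a b : G} {f : ℕ → ℕ} (ha : Acts D a f) (hb : Acts D b f) : a⁻¹ * b ∈ Q :=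
  (D.ρ_ker (ha.cz.inv_left.mul_left hb.cz)).1 (by
    rw [D.ρ_mul ha.cz.inv_left hb.cz, D.rho_inv ha.cz, inv_mul_eq_one]
    exact ha.rep.ext hb.rep fun b _ => rfl)

/-- An element fixing `U₀` pointwise acts by the transvection of a form. -/
theorem fix_acts {a : G} (hz : Commute a z) (hfix : ∀ j < 16, act (D.ρ a) (vc j) = vc j) :
    ∃ p < 64, Acts D a (p6 p) := by
  have key : ∀ b, b < 256 → ∃ c < 16, act (D.ρ a) (vc b) = vc (b ^^^ c) := fun b hb => by
    obtain ⟨x, hx, e⟩ := vc_surj (act (D.ρ a) (vc b))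
    have hl : b ^^^ x < 256 := Nat.xor_lt_two_pow (n := 8) hb hx
    have hc := List.all_eq_true.1 u0_ok (b ^^^ x) (List.mem_range.2 hl)
    rw [beq_iff_eq] at hc
    have : ((List.range 16).all fun j => orth (b ^^^ x) j) = true := List.all_eq_true.2 fun j hj => by
      have hj' : j < 16 := List.mem_range.1 hj
      refine orth_true hl (by omega) ?_
      have h1 : B8 (vc x) (vc j) = B8 (vc b) (vc j) := by
        rw [e]; conv_lhs => rw [← hfix j hj']
        exact act_polar _ _ _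
      rw [vc_xor, B8, polar_add_left]
      show B8 (vc b) (vc j) + B8 (vc x) (vc j) = 0
      rw [h1, zadd2]
    rw [this] at hc
    refine ⟨b ^^^ x, by simpa using hc, ?_⟩
    rw [← Nat.xor_assoc, Nat.xor_self, Nat.zero_xor, e]
  obtain ⟨c0, hc0, e0⟩ := key 16 (by norm_num)
  obtain ⟨c1, hc1, e1⟩ := key 32 (by norm_num)
  obtain ⟨c2, hc2, e2⟩ := key 64 (by norm_num)
  obtain ⟨c3, hc3, e3⟩ := key 128 (by norm_num)
  have lt : ∀ {c : ℕ} (b : ℕ), b < 256 → c < 16 → b ^^^ c < 256 := fun b hb hc =>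
    Nat.xor_lt_two_pow (n := 8) hb (by omega)
  have qf : ∀ {b c : ℕ}, b < 256 → c < 16 → qm b = false → act (D.ρ a) (vc b) = vc (b ^^^ c) →
      qm (b ^^^ c) = false := fun {b c} hb hc hq e =>
    qm_false (lt b hb hc) (by rw [← e, act_Q]; exact Q_of (e := false) hb hq)
  have bf : ∀ {b c b' c' : ℕ}, b < 256 → c < 16 → b' < 256 → c' < 16 → bilB qm b b' = false →
      act (D.ρ a) (vc b) = vc (b ^^^ c) → act (D.ρ a) (vc b') = vc (b' ^^^ c') →
      bilB qm (b ^^^ c) (b' ^^^ c') = false := fun {b c b' c'} hb hc hb' hc' hq e e' => by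
    have h : B8 (vc (b ^^^ c)) (vc (b' ^^^ c')) = B8 (vc b) (vc b') := by
      rw [← e, ← e']; exact act_polar _ _ _
    rw [B_bil (lt b hb hc) (lt b' hb' hc'), B_bil hb hb', hq] at h
    cases hh : bilB qm (b ^^^ c) (b' ^^^ c')
    · rfl
    · simp [hh] at h
  have hp := fixU0B_ok
  simp only [fixU0B, List.all_eq_true, List.mem_range, Bool.or_eq_true] at hp
  have q0 := qf (by norm_num) hc0 (by decide +kernel) e0
  have q1 := qf (by norm_num) hc1 (by decide +kernel) e1
  have q2 := qf (by norm_num) hc2 (by decide +kernel) e2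
  have q3 := qf (by norm_num) hc3 (by decide +kernel) e3
  have b01 := bf (by norm_num) hc0 (by norm_num) hc1 (by decide +kernel) e0 e1
  have b02 := bf (by norm_num) hc0 (by norm_num) hc2 (by decide +kernel) e0 e2
  have b03 := bf (by norm_num) hc0 (by norm_num) hc3 (by decide +kernel) e0 e3
  have b12 := bf (by norm_num) hc1 (by norm_num) hc2 (by decide +kernel) e1 e2
  have b13 := bf (by norm_num) hc1 (by norm_num) hc3 (by decide +kernel) e1 e3
  have b23 := bf (by norm_num) hc2 (by norm_num) hc3 (by decide +kernel) e2 e3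
  have hp' := hp c0 hc0
  simp only [q0, Bool.false_eq_true, false_or] at hp'
  have hp'' := hp' c1 hc1
  simp only [q1, b01, Bool.false_eq_true, false_or] at hp''
  have hp3 := hp'' c2 hc2
  simp only [q2, b02, b12, Bool.false_eq_true, false_or] at hp3
  have hp4 := hp3 c3 hc3
  simp only [q3, b03, b13, b23, Bool.false_eq_true, false_or, List.any_eq_true, List.mem_range,
    Bool.and_eq_true, beq_iff_eq] at hp4
  obtain ⟨p, hp5, ⟨⟨p0, p1⟩, p2⟩, p3⟩ := hp4
  refine ⟨p, hp5, hz, Rep.of_basis (p6_lin hp5) ?_⟩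
  have low : ∀ j : Fin 16, ∀ q : Fin 64, p6 q.1 j.1 = j.1 := by decide +kernel
  have low' : ∀ j < 16, act (D.ρ a) (vc j) = vc (p6 p j) := fun j hj => by
    rw [low ⟨j, hj⟩ ⟨p, hp5⟩]; exact hfix j hj
  intro b hb
  simp only [imgs8, List.mem_cons, List.not_mem_nil, or_false] at hb
  rcases hb with rfl | rfl | rfl | rfl | rfl | rfl | rfl | rfl
  · exact low' 1 (by norm_num)
  · exact low' 2 (by norm_num)
  · exact low' 4 (by norm_num)
  · exact low' 8 (by norm_num)
  · rw [p0]; exact e0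
  · rw [p1]; exact e1
  · rw [p2]; exact e2
  · rw [p3]; exact e3

/-- An element of the centraliser acts by the transvection of a form. -/
theorem AG_acts {a : G} (ha : a ∈ AG D) : ∃ p < 64, Acts D a (p6 p) :=
  fix_acts (AG_cz ha) fun j hj => by
    obtain ⟨x, hx, hcx⟩ := D.coords.surj (vc j)
    rw [← hcx, D.ρ_act (AG_cz ha) hx, (mem_AG.1 ha x hx j hj hcx).eq, mul_inv_cancel_right]

theorem exists_invol {t0 : G} (ht : Acts D t0 gs) (h2 : t0 * t0 = 1) {p : ℕ}
    (hp : p ∈ conjWords.map Prod.fst) : p < 64 ∧ ∃ m ∈ AG D, m * m = 1 ∧ Acts D m (p6 p) := by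
  obtain ⟨⟨p', L⟩, hw, rfl⟩ := List.mem_map.1 hp
  have hc := List.all_eq_true.1 conj_ok _ hw
  simp only [Bool.and_eq_true, List.all_eq_true, List.any_eq_true, decide_eq_true_eq, beq_iff_eq,
    List.mem_range] at hc
  obtain ⟨⟨⟨hL, hlt⟩, hb⟩, himg⟩ := hc
  obtain ⟨g, hg⟩ := exists_acts (D := D) L hL
  have hm : Acts D (g * t0 * g⁻¹) (p6 p') :=
    hg.conj ht (p6_lin hlt) fun b hb' => ⟨(hb b hb').1.1, (hb b hb').1.2, (hb b hb').2⟩
  have hm2 : g * t0 * g⁻¹ * (g * t0 * g⁻¹) = 1 := by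
    rw [show g * t0 * g⁻¹ * (g * t0 * g⁻¹) = g * (t0 * t0) * g⁻¹ by group, h2]; group
  refine ⟨hlt, _, mem_AG.2 fun x hx j hj hcx => ?_, hm2, hm⟩
  obtain ⟨k, hk, rfl⟩ := himg j hj
  exact commute_image hm hm2 hx hk hcx (Q_of_low hj)

/-- Six commuting involutions over a basis of the forms. -/
theorem exists_six {t0 : G} (ht : Acts D t0 gs) (h2 : t0 * t0 = 1) :
    ∃ L : List G, L.length = 6 ∧ (∀ a ∈ L, a ∈ AG D ∧ a * a = 1 ∧ ∀ b ∈ L, Commute a b) ∧
      ∀ m, Acts D (cg L m) (p6 (xl six m)) := by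
  classical
  have hs := six_ok
  simp only [Bool.and_eq_true, List.all_eq_true, beq_iff_eq, Bool.or_eq_true,
    List.contains_iff_mem] at hs
  obtain ⟨⟨⟨hlen, hmem⟩, hsum⟩, -⟩ := hs
  let m : ℕ → G := fun p => if h : p ∈ conjWords.map Prod.fst then (exists_invol ht h2 h).2.choose else 1
  have hm : ∀ p ∈ six, p < 64 ∧ m p ∈ AG D ∧ m p * m p = 1 ∧ Acts D (m p) (p6 p) := fun p hp => by
    have h := hmem p hp
    simp only [m, dif_pos h]
    exact ⟨(exists_invol ht h2 h).1, (exists_invol ht h2 h).2.choose_spec⟩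
  have hcomm : ∀ p ∈ six, ∀ q ∈ six, Commute (m p) (m q) := by
    intro p hp q hq
    rcases hsum p hp q hq with e | e
    · rw [e]
    obtain ⟨hplt, hpA, hp2, hpa⟩ := hm p hp
    obtain ⟨hqlt, hqA, hq2, hqa⟩ := hm q hq
    obtain ⟨-, m', hm'A, hm'2, hm'a⟩ := exists_invol ht h2 e
    set u := m'⁻¹ * (m p * m q) with hu
    have huQ : u ∈ Q := hm'a.quot (acts_p6_mul hplt hqlt hpa hqa)
    have huA : u ∈ AG D := mul_mem (inv_mem hm'A) (mul_mem hpA hqA)
    obtain ⟨k, hk, hck⟩ := (mem_AG_Q huQ).1 huA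
    have hu2 : u * u = 1 :=
      (D.sq_eq_one huQ).2 (by rw [hck]; exact Q_of (e := false) (by omega) (Q_of_low hk))
    have hcu : Commute m' u := mem_AG.1 hm'A u huQ k hk hck
    have e1 : m p * m q = m' * u := by rw [hu, mul_inv_cancel_left]
    have h3 : (m p * m q)⁻¹ = m p * m q := inv_eq_of_mul_eq_one_left (by
      rw [e1, show m' * u * (m' * u) = m' * (u * m') * u by group, ← hcu.eq,
        show m' * (m' * u) * u = (m' * m') * (u * u) by group, hm'2, hu2, one_mul])
    show m p * m q = m q * m p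
    rw [← h3, mul_inv_rev, inv_eq_of_mul_eq_one_left hp2, inv_eq_of_mul_eq_one_left hq2]
  refine ⟨six.map m, by rw [List.length_map]; exact hlen, fun a ha => ?_, ?_⟩
  · obtain ⟨p, hp, rfl⟩ := List.mem_map.1 ha
    refine ⟨(hm p hp).2.1, (hm p hp).2.2.1, fun b hb => ?_⟩
    obtain ⟨q, hq, rfl⟩ := List.mem_map.1 hb
    exact hcomm p hp q hq
  · have key : ∀ (L : List ℕ), (∀ p ∈ L, p ∈ six) → ∀ k, Acts D (cg (L.map m) k) (p6 (xl L k)) := by
      intro L
      induction L with
      | nil => exact fun _ k => acts_zero (one_mem Q)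
      | cons p r ih =>
        intro hL k
        have hr := ih (fun x hx => hL x (List.mem_cons_of_mem _ hx)) (k / 2)
        have hlt : xl r (k / 2) < 64 := xl_lt r _ 6 fun x hx => (hm x (hL x (List.mem_cons_of_mem _ hx))).1
        simp only [List.map_cons, cg, xl, Cfsg.Agent.Golay.combAux]
        obtain ⟨hplt, -, -, hpa⟩ := hm p (hL p List.mem_cons_self)
        cases k.testBit 0
        · simpa using hr
        · simpa using acts_p6_mul hplt hlt hpa hr
    exact key six fun p hp => hp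

theorem exists_code {t0 : G} (ht : Acts D t0 gs) (h2 : t0 * t0 = 1) :
    (∀ a ∈ AG D, a * a = 1 ∧ ∀ b ∈ AG D, Commute a b) ∧ ∀ p < 64, ∃ a ∈ AG D, Acts D a (p6 p) := by
  obtain ⟨L, -, hL, hacts⟩ := exists_six ht h2
  have hspan : ∀ p < 64, ∃ k, xl six k = p := fun p hp => by
    have hs := six_ok
    simp only [Bool.and_eq_true, List.all_eq_true, List.any_eq_true, beq_iff_eq, List.mem_range] at hs
    obtain ⟨k, -, hk⟩ := hs.2 p hp
    exact ⟨k, hk⟩
  have hdec : ∀ a ∈ AG D, ∃ k u, a = cg L k * u ∧ u ∈ Q ∧ u ∈ AG D := fun a ha => by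
    obtain ⟨p, hp, hap⟩ := AG_acts ha
    obtain ⟨k, rfl⟩ := hspan p hp
    exact ⟨k, (cg L k)⁻¹ * a, (mul_inv_cancel_left _ _).symm, (hacts k).quot hap,
      mul_mem (inv_mem (cg_mem L k fun x hx => (hL x hx).1)) ha⟩
  have hQu : ∀ u ∈ Q, u ∈ AG D → ∀ b ∈ AG D, Commute b u := fun u hu huA b hb => by
    obtain ⟨j, hj, hcj⟩ := (mem_AG_Q hu).1 huA
    exact mem_AG.1 hb u hu j hj hcj
  have hhom := fun k k' => cg_hom L k k' fun a ha => ⟨(hL a ha).2.1, (hL a ha).2.2⟩
  have hcomm : ∀ a ∈ AG D, ∀ b ∈ AG D, Commute a b := fun a ha b hb => by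
    obtain ⟨k, u, rfl, hu, huA⟩ := hdec a ha
    obtain ⟨k', u', rfl, hu', huA'⟩ := hdec b hb
    have hk : ∀ k, cg L k ∈ AG D := fun k => cg_mem L k fun x hx => (hL x hx).1
    have hcc : Commute (cg L k) (cg L k') := by
      show _ = _
      rw [← hhom, ← hhom, Nat.xor_comm]
    have h1 : Commute (cg L k) (cg L k' * u') := hcc.mul_right (hQu u' hu' huA' _ (hk k))
    have h2 : Commute u (cg L k' * u') := (hQu u hu huA _ (mul_mem (hk k') huA')).symm
    exact h1.mul_left h2
  refine ⟨fun a ha => ⟨?_, hcomm a ha⟩, fun p hp => ?_⟩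
  · obtain ⟨k, u, rfl, hu, huA⟩ := hdec a ha
    obtain ⟨j, hj, hcj⟩ := (mem_AG_Q hu).1 huA
    have hu2 : u * u = 1 :=
      (D.sq_eq_one hu).2 (by rw [hcj]; exact Q_of (e := false) (by omega) (Q_of_low hj))
    have hk2 : cg L k * cg L k = 1 := by
      rw [← hhom, Nat.xor_self]
      have : ∀ L : List G, cg L 0 = 1 := fun L => by
        induction L with
        | nil => rfl
        | cons b r ih => simpa [cg] using ih
      exact this L
    calc cg L k * u * (cg L k * u) = cg L k * (u * cg L k) * u := by group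
      _ = (cg L k * cg L k) * (u * u) := by
          rw [(hQu u hu huA _ (cg_mem L k fun x hx => (hL x hx).1)).symm.eq]; group
      _ = 1 := by rw [hk2, hu2, one_mul]
  · obtain ⟨k, rfl⟩ := hspan p hp
    exact ⟨_, cg_mem L k fun x hx => (hL x hx).1, hacts k⟩

end Cfsg.Agent.CoGolay
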