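import Cfsg.Agent.LargeExt10.Golay.Data

/-!
# The finite checks
-/

set_option autoImplicit false
set_option maxRecDepth 40000

namespace Cfsg.Agent.CoGolay

open Cfsg.Agent.LargeExt10.Co (qm orth rf)
open Cfsg.Agent.OrthCohom (bilB)

theorem orbB_ok : orbB = true := by decide +kernel
theorem fixU0B_ok : fixU0B = true := by decide +kernel
theorem colsX_ok : colsOK (wd wordX) colsX = true := by decide +kernel
theorem colsY_ok : colsOK (wd wordY) colsY = true := by decide +kernel
theorem rels_ok : ((List.range 64).filter relsHold) = [0, 26] := by decide +kernel

theorem rels_words : (rels.all fun p => imgs8.all fun k =>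
    evW (wd wordX) (wd wordY) p.1 k == evW (wd wordX) (wd wordY) p.2 k) = true := by decide +kernel

theorem gauge_ok : ((List.range 64).all fun e => (List.range 64).any fun a => (List.range 6).all fun t =>
    ((xl [1, 1, 1, 1, 1, 1] (a &&& (colsX.getD (5 + t) 0 / 32)) + (if a.testBit t then 1 else 0) +
      (if e.testBit t then 1 else 0)) % 2 == 0)) = true := by decide +kernel

theorem flip_ok : (([0, 1].flatMap fun a => [0, 2].map fun b => 72 ^^^ a ^^^ b).all fun n =>
    wk 4 (xl (withEta colsY 0) (wk 4 n)) != n ^^^ 1) = true := by decide +kernel

theorem six_ok : (six.length == 6 && six.all (fun p => (conjWords.map Prod.fst).contains p) &&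
    (six.all fun p => six.all fun q => p == q || (conjWords.map Prod.fst).contains (p ^^^ q)) &&
    (List.range 64).all (fun p => (List.range 64).any fun m => xl six m == p)) = true := by decide +kernel

theorem conj_ok : (conjWords.all fun w => evenWord w.2 && decide (w.1 < 64) &&
    (imgs8.all fun b => decide (wd w.2.reverse b < 256) && wd w.2 (wd w.2.reverse b) == b &&
      wd w.2 (gs (wd w.2.reverse b)) == p6 w.1 b) &&
    (List.range 16).all fun j => (List.range 256).any fun k => p6 w.1 k ^^^ k == j) = true := by decide +kernel

theorem p6_add : ((List.range 64).all fun p => (List.range 64).all fun q => imgs8.all fun v =>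
    p6 p (p6 q v) == p6 (p ^^^ q) v) = true := by decide +kernel

theorem p6_faithful : ((List.range 64).all fun p => p == 0 || imgs8.any fun v => p6 p v != v) = true := by
  decide +kernel

theorem u0_ok : ((List.range 256).all fun k =>
    decide (k < 16) == (List.range 16).all fun j => orth k j) = true := by decide +kernel

theorem low_ok : ((List.range 2048).all fun n => xl [0, 0, 0, 0, 0, 1, 2, 4, 8, 16, 32] n == n / 32 &&
    (decide (32 ≤ n) || xl [0, 1, 2, 4, 8, 0, 0, 0, 0, 0, 0] n == n / 2) &&
    xl [1, 2, 4, 8, 16, 32, 64, 128, 256, 512, 1024] n == n) = true := by decide +kernel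

theorem levels_ok : (levels.length == 4 && (List.range 4).all fun i =>
    (levels.getD i []).length == [15, 14, 12, 8].getD i 0 &&
      ((levels.getD i []).all fun L => evenWord L && presB (wd L) &&
        (List.range i).all fun j => wd L (2 ^ j) == 2 ^ j) &&
      decide ((levels.getD i []).map fun L => wd L (2 ^ i)).Nodup) = true := by decide +kernel

theorem p6_linear : ((List.range 64).all fun p => (List.range 256).all fun v =>
    p6 p v == xl (imgs8.map (p6 p)) v && decide (p6 p v < 256)) = true := by decide +kernel

theorem bits_ok : ((List.range 256).all fun k => xl imgs8 k == k) = true := by decide +kernel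

end Cfsg.Agent.CoGolay
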