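import Cfsg.Agent.LargeExt10.Golay.Data

/-!
# Checks for the elements normalising both subspaces
-/

set_option autoImplicit false
set_option maxRecDepth 40000

namespace Cfsg.Agent.CoGolay

/-- The change of the first coordinate given by six bits. -/
def etaCols (e : ℕ) : List ℕ :=
  (List.range 11).map fun b => if decide (5 ≤ b) && e.testBit (b - 5) then 1 else 0

/-- The inverse images of the unit vectors. -/
def preU (L : List ℕ) : List ℕ := (List.range 4).map fun i => wd L.reverse (2 ^ i)

def preW (L : List ℕ) : List ℕ := (List.range 4).map fun i => wd L.reverse (16 * 2 ^ i) / 16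

/-- A word preserving both subspaces. -/
def levB (L : List ℕ) : Bool :=
  evenWord L && presB (wd L) &&
  (List.range 4).all (fun i => decide (wd L.reverse (2 ^ i) < 16) && wd L (wd L.reverse (2 ^ i)) == 2 ^ i &&
    decide ((preW L).getD i 0 < 16) && wd L (16 * (preW L).getD i 0) == 16 * 2 ^ i) &&
  (List.range 32).all (fun m => xl (1 :: (preU L).map (2 * ·)) (gu (wd L) m) == m && decide (gu (wd L) m < 32)) &&
  (List.range 16).all (fun k => xl (preW L) (wd L (16 * k) / 16) == k)

theorem lev_words : (levB wordX && levB wordY && simpleWords.all levB && pairWords.all (fun p => levB p.2.2.2) &&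
    levB [] && levB [50, 57, 162, 169, 50, 53, 98, 101, 68, 71, 116, 119, 68, 69, 100, 101]) = true := by
  decide +kernel

theorem gauge2_ok : ((List.range 64).all fun e => (List.range 64).any fun a => (List.range 11).all fun b =>
    xl (withEta colsX e) (2 ^ b ^^^ xl (etaCols a) (2 ^ b)) ==
      xl colsX (2 ^ b) ^^^ xl (etaCols a) (xl colsX (2 ^ b))) = true := by decide +kernel

theorem eta_low : ((List.range 64).all fun a => (List.range 32).all fun d => xl (etaCols a) d == 0) = true := by
  decide +kernel

theorem flip2_ok : ((List.range 2048).all fun n => !(n / 32 == 2) ||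
    !(wk 2 n == n) || !(wk 4 n == n ^^^ 3) || !(wk 8 n == n) ||
      (List.range 16).all fun k => xl (withEta colsY 0) (wk k n) != n ^^^ 1) = true := by decide +kernel

theorem wordY_eich : (imgs8.all fun b => wd wordY b == eich 1 64 b) = true := by decide +kernel

theorem eich_p6 : (imgs8.all fun b => eich 1 4 b == p6 2 b) = true := by decide +kernel

theorem p6_inj : ((List.range 64).all fun p => p == 2 || imgs8.any fun v => p6 p v != p6 2 v) = true := by
  decide +kernel

end Cfsg.Agent.CoGolay
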