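import Cfsg.Agent.LargeExt10.Golay.Data

/-!
# Checks for the orbits
-/

set_option autoImplicit false
set_option maxRecDepth 40000

namespace Cfsg.Agent.CoGolay

open Cfsg.Agent.LargeExt10.Co (orth)

theorem std_ok : ((List.range 2048).all fun n => !(n / 32 == 1) || !(wk 2 n == n ^^^ 3) ||
    !(wk 4 n == n) || !(wk 8 n == n) || inOrb 4 (n ^^^ 8)) = true := by decide +kernel

theorem small_ok : ((List.range 2048).all fun n =>
    (!(inOrb 1 n || inOrb 2 n) || decide (n < 32)) && (!decide (2 ≤ n ∧ n < 32) || inOrb 2 n) &&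
    (!(inOrb 4 n) || (!(inOrb 1 n) && !(inOrb 2 n) && !(inOrb 0 n)))) = true := by decide +kernel

theorem reps_ok : (inOrb 1 1 && inOrb 2 2 && inOrb 2 3 && inOrb 4 40 && inOrb 5 384 && inOrb 0 0) = true := by
  decide +kernel

theorem u0_basis : ((List.range 256).all fun c =>
    !(orth c 1 && orth c 2 && orth c 4 && orth c 8) || decide (c < 16)) = true := by decide +kernel

theorem perm_ok : ((List.range 2048).all fun n =>
    decide ((List.range 7).countP (fun i => inOrb i n) = 1)) = true := by decide +kernel

end Cfsg.Agent.CoGolay
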