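import Cfsg.Agent.LargeExt10.Golay.Data

/-!
# The finite checks on the classes
-/

set_option autoImplicit false
set_option maxRecDepth 40000

namespace Cfsg.Agent.CoGolay

open Cfsg.Agent.LargeExt10.Co (qm orth rf)
open Cfsg.Agent.OrthCohom (bilB)

theorem opt_ok : (([(1, 2), (2, 2), (3, 384), (4, 2), (6, 384), (7, 2)] : List (ℕ × ℕ)).all fun p =>
    inOpt p.1 p.2 && cnt (inOpt p.1) (inOpt p.1) 1 != cnt (inOpt p.1) (inOpt p.1) p.2) = true := by
  decide +kernel

theorem split_ok : (inO 2 && cnt inO (inOrb 4) 1 != cnt inO (inOrb 4) 2) = true := by decide +kernel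

theorem counters_ok : oList.foldr (fun n cs => addm cs (xl colMasks n)) [] = counters := by decide +kernel

theorem duad_ok : ((List.range 2048).all fun k =>
    duad (xl dualCols k) == Cfsg.Agent.LFType10.TM.testBit k) = true := by decide +kernel

end Cfsg.Agent.CoGolay
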