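import Cfsg.Agent.LargeExt10.Golay.Abelian

/-!
# Coordinates on the abelian subgroup and the action of the complement `W`
-/

set_option autoImplicit false

namespace Cfsg.Agent.CoGolay

open QuadraticMap Cfsg.Agent.Reflections Cfsg.Agent.LargeExtraspecial Cfsg.Agent.LargeExt10
open Cfsg.Agent.LargeExt10.Co

variable {G : Type*} [Group G] [Finite G] {z : G} {Q : Subgroup G}

/-- Coordinates of the subgroup and of a complement in `Q`. -/
structure Crd {D : Co z Q} (F : Frame D) where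
  psi : ℕ → G
  w : ℕ → G
  mem : ∀ n < 2048, psi n ∈ AG D
  surj : ∀ a ∈ AG D, ∃ n < 2048, psi n = a
  hom : ∀ a b, psi (a ^^^ b) = psi a * psi b
  inj : ∀ a b, a < 2048 → b < 2048 → psi a = psi b → a = b
  psi_z : psi 1 = z
  psi_s : psi 2 = F.s
  low : ∀ n < 32, psi n ∈ Q ∧ D.c (psi n) = vc (n / 2)
  acts : ∀ n < 2048, Acts D (psi n) (p6 (n / 32))
  w_mem : ∀ k < 16, w k ∈ Q ∧ D.c (w k) = vc (16 * k)
  w_hom : ∀ a b, w (a ^^^ b) = w a * w b
  w_y : w 1 = F.y
  conj_w : ∀ k < 16, ∀ n < 2048, w k * psi n * (w k)⁻¹ = psi (wk k n)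

theorem cg_map_hom {f : ℕ → G} (h : ∀ a b, f (a ^^^ b) = f a * f b) :
    ∀ (L : List ℕ) (n : ℕ), f (xl L n) = cg (L.map f) n
  | [], _ => by
    have := h 0 0
    simp only [Nat.xor_self] at this
    simpa [xl, cg, Cfsg.Agent.Golay.combAux] using right_eq_mul.1 this
  | b :: r, n => by
    simp only [xl, Cfsg.Agent.Golay.combAux, List.map_cons, cg]
    rw [h, cg_map_hom h r (n / 2)]
    cases n.testBit 0
    · have := h 0 0
      simp only [Nat.xor_self] at this
      simp [right_eq_mul.1 this]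
    · simp

theorem xl_pows {n : ℕ} (hn : n < 2048) :
    xl [1, 2, 4, 8, 16, 32, 64, 128, 256, 512, 1024] n = n := by
  have h := List.all_eq_true.1 low_ok n (List.mem_range.2 hn)
  simp only [Bool.and_eq_true, beq_iff_eq] at h
  exact h.2

/-- Conjugation composed on coordinates. -/
theorem conj_cg {g : G} : ∀ (L : List G) (n : ℕ),
    g * cg L n * g⁻¹ = cg (L.map fun x => g * x * g⁻¹) n
  | [], _ => by simp [cg]
  | b :: r, n => by
    simp only [List.map_cons, cg]
    rw [← conj_cg r (n / 2)]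
    cases n.testBit 0 <;> simp [mul_assoc]

theorem bit_code : ∀ f : Fin 4 → ZMod 2, ∃ d : Fin 16, ∀ i : Fin 4,
    (if d.1.testBit i.1 then (1 : ZMod 2) else 0) = f i := by decide +kernel

theorem dual_bit : ∀ i j : Fin 4, (if OrthCohom.bilB qm (16 * 2 ^ i.1) (2 ^ j.1) then (1 : ZMod 2) else 0) =
    if i = j then 1 else 0 := by decide +kernel

theorem bil_bit : ∀ (i : Fin 4) (k : Fin 16),
    OrthCohom.bilB qm (16 * 2 ^ i.1) k.1 = k.1.testBit i.1 := by decide +kernel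

theorem form_row : ∀ (t : Fin 6) (i : Fin 4), 16 * 2 ^ i.1 ^^^ p6 (2 ^ t.1) (16 * 2 ^ i.1) =
    xl [0, 1, 2, 4, 8] (w1 i.1 (2 ^ (5 + t.1)) ^^^ 2 ^ (5 + t.1)) := by decide +kernel

theorem form_low : ∀ (t : Fin 6) (i : Fin 4),
    w1 i.1 (2 ^ (5 + t.1)) ^^^ 2 ^ (5 + t.1) < 32 := by decide +kernel

theorem unit_row : ∀ i j : Fin 4,
    w1 i.1 (2 ^ (1 + j.1)) = (if i = j then 1 else 0) ^^^ 2 ^ (1 + j.1) ∧ w1 i.1 1 = 1 := by decide +kernel

theorem w1_bounds : ∀ i : Fin 4, (∀ b ∈ dl i.1, b < 2 ^ 11) ∧ xl (dl i.1) 0 = 0 := by decide +kernel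

theorem cg_two_pow : ∀ (L : List G) (b : ℕ), cg L (2 ^ b) = L.getD b 1
  | [], _ => by simp [cg]
  | x :: r, 0 => by
    have h0 : ∀ L : List G, cg L 0 = 1 := fun L => by
      induction L with
      | nil => rfl
      | cons c r ih => simpa [cg] using ih
    simp [cg, h0 r]
  | x :: r, b + 1 => by
    simp only [cg, pow_succ, List.getD_cons_succ]
    rw [Nat.mul_div_cancel _ (by norm_num : 0 < 2), cg_two_pow r b]
    simp [Nat.testBit_zero]

variable {D : Co z Q}

theorem acts_cg : ∀ (M : List (G × ℕ)), (∀ m ∈ M, m.2 < 64 ∧ Acts D m.1 (p6 m.2)) →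
    ∀ n, Acts D (cg (M.map Prod.fst) n) (p6 (xl (M.map Prod.snd) n))
  | [], _, _ => acts_zero (one_mem Q)
  | m :: r, h, n => by
    have hr := acts_cg r (fun x hx => h x (List.mem_cons_of_mem _ hx)) (n / 2)
    have hlt : xl (r.map Prod.snd) (n / 2) < 64 := xl_lt _ _ 6 fun x hx => by
      obtain ⟨y, hy, rfl⟩ := List.mem_map.1 hx
      exact (h y (List.mem_cons_of_mem _ hy)).1
    simp only [List.map_cons, cg, xl, Cfsg.Agent.Golay.combAux]
    obtain ⟨hm, hma⟩ := h m List.mem_cons_self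
    cases n.testBit 0
    · simpa using hr
    · simpa using acts_p6_mul hm hlt hma hr

theorem c_cg : ∀ (M : List (G × ℕ)), (∀ m ∈ M, m.1 ∈ Q ∧ D.c m.1 = vc m.2) →
    ∀ n, cg (M.map Prod.fst) n ∈ Q ∧ D.c (cg (M.map Prod.fst) n) = vc (xl (M.map Prod.snd) n)
  | [], _, _ => ⟨one_mem Q, by
      show D.c 1 = vc 0
      rw [D.coords.c_one, vc_zero]⟩
  | m :: r, h, n => by
    obtain ⟨h1, h2⟩ := c_cg r (fun x hx => h x (List.mem_cons_of_mem _ hx)) (n / 2)
    obtain ⟨hm, hmc⟩ := h m List.mem_cons_self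
    simp only [List.map_cons, cg, xl, Cfsg.Agent.Golay.combAux]
    cases n.testBit 0
    · simpa using ⟨h1, h2⟩
    · simp only [if_true]
      exact ⟨mul_mem hm h1, by rw [D.coords.mul _ hm _ h1, hmc, h2, vc_xor]⟩

theorem cg_zero : ∀ L : List G, cg L 0 = 1
  | [] => rfl
  | b :: r => by simpa [cg] using cg_zero r

set_option maxHeartbeats 800000 in
theorem exists_crd (F : Frame D) {t0 : G} (ht : Acts D t0 gs) (h2 : t0 * t0 = 1) :
    Nonempty (Crd F) := by
  classical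
  obtain ⟨hel, hall⟩ := exists_code ht h2
  have hq : ∀ k < 256, ∃ x ∈ Q, D.c x = vc k := fun k _ => D.coords.surj (vc k)
  obtain ⟨u1, hu1, cu1⟩ := hq 2 (by norm_num)
  obtain ⟨u2, hu2, cu2⟩ := hq 4 (by norm_num)
  obtain ⟨u3, hu3, cu3⟩ := hq 8 (by norm_num)
  obtain ⟨w1', hw1, cw1⟩ := hq 32 (by norm_num)
  obtain ⟨w2', hw2, cw2⟩ := hq 64 (by norm_num)
  obtain ⟨w3', hw3, cw3⟩ := hq 128 (by norm_num)
  set UL : List G := [F.s, u1, u2, u3] with hUL
  set WL : List G := [F.y, w1', w2', w3'] with hWL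
  have huL : ∀ i : Fin 4, UL.getD i.1 1 ∈ Q ∧ D.c (UL.getD i.1 1) = vc (2 ^ i.1) := by
    intro i
    fin_cases i <;> simp [UL, F.pair.mem, F.hs, hu1, hu2, hu3, cu1, cu2, cu3]
  have hwL : ∀ i : Fin 4, WL.getD i.1 1 ∈ Q ∧ D.c (WL.getD i.1 1) = vc (16 * 2 ^ i.1) := by
    intro i
    fin_cases i <;> simp [WL, F.hy, F.hcy, hw1, hw2, hw3, cw1, cw2, cw3]
  set u : Fin 4 → G := fun i => UL.getD i.1 1 with hu
  set wv : Fin 4 → G := fun i => WL.getD i.1 1 with hwv
  have uA : ∀ i, u i ∈ AG D := fun i => (mem_AG_Q (huL i).1).2 ⟨_, by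
    fin_cases i <;> norm_num, (huL i).2⟩
  have wcomm : ∀ i j, Commute (wv i) (wv j) ∧ wv i * wv i = 1 := fun i j =>
    ⟨(D.commute_iff (hwL i).1 (hwL j).1).2 (by
      rw [(hwL i).2, (hwL j).2]
      refine B_of_orth (by fin_cases i <;> norm_num) (by fin_cases j <;> norm_num) ?_
      revert i j; decide +kernel),
     (D.sq_eq_one (hwL i).1).2 (by
      rw [(hwL i).2]
      refine Q_of (e := false) (by fin_cases i <;> norm_num) ?_
      revert i; decide +kernel)⟩
  have wu : ∀ i j, wv i * u j * (wv i)⁻¹ = pw z (if i = j then 1 else 0) * u j := fun i j => by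
    have e := D.coords.comm _ (hwL i).1 _ (huL j).1
    have hb : B8 (D.c (wv i)) (D.c (u j)) = if i = j then 1 else 0 := by
      show B8 (D.c (WL.getD i.1 1)) (D.c (UL.getD j.1 1)) = _
      rw [(hwL i).2, (huL j).2, B_bil (by fin_cases i <;> norm_num) (by fin_cases j <;> norm_num)]
      exact dual_bit i j
    rw [show polar (⇑Q8) (D.c (wv i)) (D.c (u j)) = _ from hb] at e
    exact mul_inv_eq_iff_eq_mul.1 e
  -- normalised lifts of the forms
  have hnorm : ∀ t : Fin 6, ∃ T ∈ AG D, Acts D T (p6 (2 ^ t.1)) ∧ ∀ i : Fin 4,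
      wv i * T * (wv i)⁻¹ = cg ([z] ++ List.ofFn u) (w1 i.1 (2 ^ (5 + t.1)) ^^^ 2 ^ (5 + t.1)) * T := by
    intro t
    have htlt : 2 ^ t.1 < 64 := by fin_cases t <;> norm_num
    obtain ⟨T, hTA, hT⟩ := hall _ htlt
    have key : ∀ i : Fin 4, ∃ d : ZMod 2, wv i * T * (wv i)⁻¹ =
        pw z d * cg ([z] ++ List.ofFn u) (w1 i.1 (2 ^ (5 + t.1)) ^^^ 2 ^ (5 + t.1)) * T := by
      intro i
      obtain ⟨hwQ, hwc⟩ := hwL i
      have hwlt : 16 * 2 ^ i.1 < 256 := by fin_cases i <;> norm_num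
      obtain ⟨hmem, hc⟩ := hT.c_conj hwQ hwlt hwc
      have he : wv i * T * (wv i)⁻¹ * T⁻¹ = wv i * (T * wv i * T⁻¹)⁻¹ := by group
      have heQ : wv i * (T * wv i * T⁻¹)⁻¹ ∈ Q := mul_mem hwQ (inv_mem hmem)
      set tgt := cg ([z] ++ List.ofFn u) (w1 i.1 (2 ^ (5 + t.1)) ^^^ 2 ^ (5 + t.1))
      have htg := c_cg (D := D) [(z, 0), (u 0, 1), (u 1, 2), (u 2, 4), (u 3, 8)] (fun m hm => by
        simp only [List.mem_cons, List.not_mem_nil, or_false] at hm
        rcases hm with rfl | rfl | rfl | rfl | rfl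
        · exact ⟨D.setup.z_mem, by rw [D.c_z, vc_zero]⟩
        exacts [huL 0, huL 1, huL 2, huL 3]) (w1 i.1 (2 ^ (5 + t.1)) ^^^ 2 ^ (5 + t.1))
      have hL : [(z, 0), (u 0, 1), (u 1, 2), (u 2, 4), (u 3, 8)].map Prod.fst = [z] ++ List.ofFn u := by
        simp [List.ofFn_succ]
      rw [hL] at htg
      have hce : D.c (wv i * (T * wv i * T⁻¹)⁻¹) = D.c tgt := by
        show D.c (WL.getD i.1 1 * (T * WL.getD i.1 1 * T⁻¹)⁻¹) = _
        rw [D.coords.mul _ hwQ _ (inv_mem hmem), D.coords.c_inv hmem, hc, hwc, htg.2, ← vc_xor]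
        simp only [List.map_cons, List.map_nil]
        rw [form_row t i]
      rcases D.setup.zpowers_cases ((D.coords.eq_iff htg.1 heQ).1 hce.symm) with e | e
      · refine ⟨0, ?_⟩
        have e0 : tgt = wv i * (T * wv i * T⁻¹)⁻¹ := inv_mul_eq_one.1 e
        rw [pw_zero, one_mul, e0, ← he, inv_mul_cancel_right]
      · refine ⟨1, ?_⟩
        rw [pw_one]
        have e' : wv i * (T * wv i * T⁻¹)⁻¹ = tgt * z := inv_mul_eq_iff_eq_mul.1 e
        rw [← (D.setup.z_commute htg.1).symm.eq, ← e', ← he, inv_mul_cancel_right]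
    choose d hd using key
    obtain ⟨k, hk⟩ := bit_code d
    refine ⟨cg (List.ofFn u) k.1 * T, mul_mem (cg_mem _ _ fun b hb => ?_) hTA, ?_, fun i => ?_⟩
    · obtain ⟨i, rfl⟩ := List.mem_ofFn.1 hb
      exact uA i
    · have hQ' : cg (List.ofFn u) k.1 ∈ Q := cg_mem _ _ fun b hb => by
        obtain ⟨i, rfl⟩ := List.mem_ofFn.1 hb
        exact (huL i).1
      have h := acts_p6_mul (by norm_num) htlt (acts_zero hQ') hT
      rwa [Nat.zero_xor] at h
    · have hU : wv i * cg (List.ofFn u) k.1 * (wv i)⁻¹ = pw z (d i) * cg (List.ofFn u) k.1 := by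
        have hz4 : ∀ (c : ZMod 2) (x : G), x ∈ Q → Commute x (pw z c) := fun c x hx => by
          rcases pw_cases z c with ⟨-, e⟩ | ⟨-, e⟩ <;> rw [e]
          exacts [Commute.one_right _, (D.setup.z_commute hx).symm]
        obtain ⟨hQU, hcU⟩ := c_cg (D := D) [(u 0, 1), (u 1, 2), (u 2, 4), (u 3, 8)] (fun m hm => by
          simp only [List.mem_cons, List.not_mem_nil, or_false] at hm
          rcases hm with rfl | rfl | rfl | rfl
          exacts [huL 0, huL 1, huL 2, huL 3]) k.1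
        have hL4 : [(u 0, 1), (u 1, 2), (u 2, 4), (u 3, 8)].map Prod.fst = List.ofFn u := by
          simp [List.ofFn_succ]
        have hxl : xl [1, 2, 4, 8] k.1 = k.1 :=
          (show ∀ k : Fin 16, xl [1, 2, 4, 8] k.1 = k.1 by decide +kernel) k
        rw [hL4] at hQU hcU
        simp only [List.map_cons, List.map_nil, hxl] at hcU
        have e := D.coords.comm _ (hwL i).1 _ hQU
        rw [hcU, (hwL i).2, show polar (⇑Q8) (vc (16 * 2 ^ i.1)) (vc k.1) = d i by
          rw [show polar (⇑Q8) (vc (16 * 2 ^ i.1)) (vc k.1) = B8 (vc (16 * 2 ^ i.1)) (vc k.1) from rfl,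
            B_bil (by fin_cases i <;> norm_num) (by omega), bil_bit, hk i]] at e
        exact mul_inv_eq_iff_eq_mul.1 e
      rw [show wv i * (cg (List.ofFn u) k.1 * T) * (wv i)⁻¹ =
        (wv i * cg (List.ofFn u) k.1 * (wv i)⁻¹) * (wv i * T * (wv i)⁻¹) by group, hU, hd]
      set U := cg (List.ofFn u) k.1
      set tgt := cg ([z] ++ List.ofFn u) (w1 i.1 (2 ^ (5 + t.1)) ^^^ 2 ^ (5 + t.1))
      have hU' : U ∈ AG D := cg_mem _ _ fun b hb => by
        obtain ⟨i, rfl⟩ := List.mem_ofFn.1 hb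
        exact uA i
      have htA : tgt ∈ AG D := cg_mem _ _ fun b hb => by
        rcases List.mem_append.1 hb with hb | hb
        · rw [List.mem_singleton.1 hb]
          exact (mem_AG_Q D.setup.z_mem).2 ⟨0, by norm_num, by rw [D.c_z, vc_zero]⟩
        · obtain ⟨i, rfl⟩ := List.mem_ofFn.1 hb
          exact uA i
      have hcz : Commute U (pw z (d i)) := commute_pw (AG_cz hU') _
      rw [show pw z (d i) * U * (pw z (d i) * tgt * T) = pw z (d i) * (U * pw z (d i)) * tgt * T by group,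
        hcz.eq, ← mul_assoc, pw_mul D.setup.z_mul_self, zadd2, pw_zero, one_mul,
        ((hel U hU').2 tgt htA).eq, mul_assoc]
  choose T hTA hTact hTw using hnorm
  set L : List G := [z] ++ List.ofFn u ++ List.ofFn T with hL
  have hzA : z ∈ AG D := (mem_AG_Q D.setup.z_mem).2 ⟨0, by norm_num, by rw [D.c_z, vc_zero]⟩
  have hLA : ∀ b ∈ L, b ∈ AG D := fun b hb => by
    simp only [hL, List.mem_append, List.mem_singleton, List.mem_ofFn] at hb
    rcases hb with (rfl | ⟨i, rfl⟩) | ⟨i, rfl⟩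
    exacts [hzA, uA i, hTA i]
  have hL11 : L = [z, u 0, u 1, u 2, u 3, T 0, T 1, T 2, T 3, T 4, T 5] := by
    simp [hL, List.ofFn_succ]
  let ψ : ℕ → G := cg L
  have hom : ∀ a b, ψ (a ^^^ b) = ψ a * ψ b := fun a b =>
    cg_hom L a b fun x hx => ⟨(hel x (hLA x hx)).1, fun y hy => (hel x (hLA x hx)).2 y (hLA y hy)⟩
  have hlow : ∀ n, n < 32 → ψ n = cg ([z] ++ List.ofFn u) n := fun n hn => by
    simp only [ψ, hL11, List.ofFn_succ, List.ofFn_zero, List.singleton_append, cg, Nat.div_div_eq_div_mul]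
    simp [Nat.div_eq_of_lt hn, Nat.div_eq_of_lt (show n < 2 * 2 * 2 * 2 * 2 * 2 by omega),
      Nat.div_eq_of_lt (show n < 2 * 2 * 2 * 2 * 2 * 2 * 2 by omega),
      Nat.div_eq_of_lt (show n < 2 * 2 * 2 * 2 * 2 * 2 * 2 * 2 by omega),
      Nat.div_eq_of_lt (show n < 2 * 2 * 2 * 2 * 2 * 2 * 2 * 2 * 2 by omega),
      Nat.div_eq_of_lt (show n < 2 * 2 * 2 * 2 * 2 * 2 * 2 * 2 * 2 * 2 by omega)]
  have hlowc : ∀ n < 32, ψ n ∈ Q ∧ D.c (ψ n) = vc (n / 2) := fun n hn => by
    have h := c_cg (D := D) [(z, 0), (u 0, 1), (u 1, 2), (u 2, 4), (u 3, 8)] (fun m hm => by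
      simp only [List.mem_cons, List.not_mem_nil, or_false] at hm
      rcases hm with rfl | rfl | rfl | rfl | rfl
      · exact ⟨D.setup.z_mem, by rw [D.c_z, vc_zero]⟩
      exacts [huL 0, huL 1, huL 2, huL 3]) n
    rw [hlow n hn]
    have hc : xl [0, 1, 2, 4, 8] n = n / 2 :=
      (show ∀ n : Fin 32, xl [0, 1, 2, 4, 8] n.1 = n.1 / 2 by decide +kernel) ⟨n, hn⟩
    simpa [List.ofFn_succ, hc] using h
  have hacts : ∀ n < 2048, Acts D (ψ n) (p6 (n / 32)) := fun n hn => by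
    have h := acts_cg (D := D) [(z, 0), (u 0, 0), (u 1, 0), (u 2, 0), (u 3, 0), (T 0, 1), (T 1, 2), (T 2, 4),
      (T 3, 8), (T 4, 16), (T 5, 32)] (fun m hm => by
      simp only [List.mem_cons, List.not_mem_nil, or_false] at hm
      rcases hm with rfl | rfl | rfl | rfl | rfl | rfl | rfl | rfl | rfl | rfl | rfl
      exacts [⟨by norm_num, acts_zero D.setup.z_mem⟩, ⟨by norm_num, acts_zero (huL 0).1⟩,
        ⟨by norm_num, acts_zero (huL 1).1⟩, ⟨by norm_num, acts_zero (huL 2).1⟩,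
        ⟨by norm_num, acts_zero (huL 3).1⟩, ⟨by norm_num, hTact 0⟩, ⟨by norm_num, hTact 1⟩,
        ⟨by norm_num, hTact 2⟩, ⟨by norm_num, hTact 3⟩, ⟨by norm_num, hTact 4⟩, ⟨by norm_num, hTact 5⟩]) n
    have hc := List.all_eq_true.1 low_ok n (List.mem_range.2 hn)
    simp only [Bool.and_eq_true, beq_iff_eq] at hc
    simpa [ψ, hL11, hc.1.1] using h
  let w : ℕ → G := cg (List.ofFn wv)
  have whom : ∀ a b, w (a ^^^ b) = w a * w b := fun a b => cg_hom _ a b fun x hx => by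
    obtain ⟨i, rfl⟩ := List.mem_ofFn.1 hx
    refine ⟨(wcomm i i).2, fun y hy => ?_⟩
    obtain ⟨j, rfl⟩ := List.mem_ofFn.1 hy
    exact (wcomm i j).1
  have hgen : ∀ (i : Fin 4) (n : ℕ), n < 2048 → wv i * ψ n * (wv i)⁻¹ = ψ (w1 i.1 n) := by
    intro i n hn
    have hlin : w1 i.1 n = xl ([1, 2, 4, 8, 16, 32, 64, 128, 256, 512, 1024].map (w1 i.1)) n := by
      have : ∀ (L : List ℕ) (m : ℕ), xl (L.map (w1 i.1)) m = w1 i.1 (xl L m) := by
        intro L
        induction L with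
        | nil => intro m; simp [xl, Cfsg.Agent.Golay.combAux, w1, show Cfsg.Agent.Golay.combAux (dl i.1) 0 = 0
            from (w1_bounds i).2]
        | cons b r ih =>
          intro m
          simp only [List.map_cons, xl, Cfsg.Agent.Golay.combAux] at ih ⊢
          rw [ih]
          simp only [w1, xl, Cfsg.Agent.Golay.combAux_xor]
          cases m.testBit 0
          · simp only [Bool.false_eq_true, if_false, Nat.zero_xor,
              show Cfsg.Agent.Golay.combAux (dl i.1) 0 = 0 from (w1_bounds i).2]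
          · simp only [if_true]
            ac_rfl
      rw [this, xl_pows hn]
    rw [hlin, cg_map_hom hom]
    conv_lhs => rw [← xl_pows hn, cg_map_hom hom, conj_cg]
    simp only [List.map_map]
    have hget : ∀ b, ψ (2 ^ b) = L.getD b 1 := fun b => cg_two_pow L b
    have hz1 : ψ 1 = z := by rw [show (1 : ℕ) = 2 ^ 0 from rfl, hget, hL11]; rfl
    have row : ∀ b : Fin 11, wv i * ψ (2 ^ b.1) * (wv i)⁻¹ = ψ (w1 i.1 (2 ^ b.1)) := by
      have hTrow : ∀ t : Fin 6, wv i * ψ (2 ^ (5 + t.1)) * (wv i)⁻¹ = ψ (w1 i.1 (2 ^ (5 + t.1))) := by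
        intro t
        have hψT : ψ (2 ^ (5 + t.1)) = T t := by rw [hget, hL11]; fin_cases t <;> rfl
        rw [hψT, hTw t i, ← hlow _ (form_low t i), ← hψT, ← hom, Nat.xor_assoc, Nat.xor_self, Nat.xor_zero]
      have hUrow : ∀ j : Fin 4, wv i * ψ (2 ^ (1 + j.1)) * (wv i)⁻¹ = ψ (w1 i.1 (2 ^ (1 + j.1))) := by
        intro j
        have hψU : ψ (2 ^ (1 + j.1)) = u j := by rw [hget, hL11]; fin_cases j <;> rfl
        rw [(unit_row i j).1, hom, hψU, wu]
        congr 1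
        split
        · rw [pw_one, hz1]
        · rw [pw_zero]; exact (cg_zero L).symm
      intro b
      fin_cases b
      · show wv i * ψ 1 * (wv i)⁻¹ = ψ (w1 i.1 1)
        rw [(unit_row i i).2, hz1, (D.setup.z_commute (hwL i).1).symm.eq, mul_inv_cancel_right]
      exacts [hUrow 0, hUrow 1, hUrow 2, hUrow 3, hTrow 0, hTrow 1, hTrow 2, hTrow 3, hTrow 4, hTrow 5]
    refine congrArg (cg · n) (List.map_congr_left fun x hx => ?_)
    simp only [List.mem_cons, List.not_mem_nil, or_false] at hx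
    rcases hx with rfl | rfl | rfl | rfl | rfl | rfl | rfl | rfl | rfl | rfl | rfl
    exacts [row 0, row 1, row 2, row 3, row 4, row 5, row 6, row 7, row 8, row 9, row 10]
  have hw1lt : ∀ i : Fin 4, ∀ n, n < 2048 → w1 i.1 n < 2048 := fun i n hn =>
    Nat.xor_lt_two_pow (n := 11) hn (xl_lt _ _ 11 (w1_bounds i).1)
  refine ⟨{
    psi := ψ
    w := w
    mem := fun n _ => cg_mem L n hLA
    hom := hom
    low := hlowc
    acts := hacts
    psi_z := by simp [ψ, hL11, cg]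
    psi_s := by simp [ψ, hL11, cg, u, UL]
    w_hom := whom
    w_y := by simp [w, List.ofFn_succ, cg, wv, WL]
    w_mem := ?wm
    conj_w := ?cw
    surj := ?sj
    inj := ?ij }⟩
  case wm =>
    intro k hk
    have h := c_cg (D := D) [(wv 0, 16), (wv 1, 32), (wv 2, 64), (wv 3, 128)] (fun m hm => by
      simp only [List.mem_cons, List.not_mem_nil, or_false] at hm
      rcases hm with rfl | rfl | rfl | rfl
      exacts [hwL 0, hwL 1, hwL 2, hwL 3]) k
    have hc : xl [16, 32, 64, 128] k = 16 * k :=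
      (show ∀ k : Fin 16, xl [16, 32, 64, 128] k.1 = 16 * k.1 by decide +kernel) ⟨k, hk⟩
    simpa [w, List.ofFn_succ, hc] using h
  case cw =>
    intro k hk n hn
    have step : ∀ (b : Bool) (i : Fin 4) (X : G) (m : ℕ), m < 2048 → X * ψ n * X⁻¹ = ψ m →
        ((if b then wv i else 1) * X) * ψ n * ((if b then wv i else 1) * X)⁻¹ =
          ψ (if b then w1 i.1 m else m) ∧ (if b then w1 i.1 m else m) < 2048 := by
      intro b i X m hm h
      cases b
      · simpa using ⟨h, hm⟩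
      · simp only [if_true]
        refine ⟨?_, hw1lt i m hm⟩
        rw [show wv i * X * ψ n * (wv i * X)⁻¹ = wv i * (X * ψ n * X⁻¹) * (wv i)⁻¹ by group, h, hgen i m hm]
    have s0 : (1 : G) * ψ n * (1 : G)⁻¹ = ψ n := by group
    obtain ⟨s3, l3⟩ := step (k.testBit 3) 3 1 n hn s0
    obtain ⟨s2, l2⟩ := step (k.testBit 2) 2 _ _ l3 s3
    obtain ⟨s1, l1⟩ := step (k.testBit 1) 1 _ _ l2 s2
    obtain ⟨s, -⟩ := step (k.testBit 0) 0 _ _ l1 s1
    have ew : w k = (if k.testBit 0 then wv 0 else 1) * ((if k.testBit 1 then wv 1 else 1) *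
        ((if k.testBit 2 then wv 2 else 1) * ((if k.testBit 3 then wv 3 else 1) * 1))) := by
      simp only [w, List.ofFn_succ, List.ofFn_zero, cg, Nat.testBit_div_two]
      rfl
    rw [ew, s]
    rfl
  case sj =>
    intro a ha
    obtain ⟨p, hp, hap⟩ := AG_acts ha
    have hn : 32 * p < 2048 := by omega
    have h1 := hacts _ hn
    rw [Nat.mul_div_cancel_left p (by norm_num)] at h1
    have huQ := h1.quot hap
    obtain ⟨j, hj, hcj⟩ := (mem_AG_Q huQ).1 (mul_mem (inv_mem (cg_mem L _ hLA)) ha)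
    have hj2 : 2 * j < 32 := by omega
    obtain ⟨hjQ, hjc⟩ := hlowc (2 * j) hj2
    rw [Nat.mul_div_cancel_left j (by norm_num)] at hjc
    have hfin : ∀ m, m < 32 → (ψ (32 * p))⁻¹ * a = ψ m → ∃ n < 2048, ψ n = a := fun m hm e =>
      ⟨32 * p ^^^ m, Nat.xor_lt_two_pow (n := 11) hn (by omega), by rw [hom, ← e, mul_inv_cancel_left]⟩
    rcases D.setup.zpowers_cases ((D.coords.eq_iff hjQ huQ).1 (hjc.trans hcj.symm)) with e | e
    · exact hfin _ hj2 (inv_mul_eq_one.1 e).symm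
    · refine hfin (2 * j ^^^ 1) (Nat.xor_lt_two_pow (n := 5) hj2 (by norm_num)) ?_
      rw [hom, inv_mul_eq_iff_eq_mul.1 e]
      congr 1
      simp [ψ, hL11, cg]
  case ij =>
    intro a b ha hb e
    have hd : a ^^^ b < 2048 := Nat.xor_lt_two_pow (n := 11) ha hb
    have e1 : ψ (a ^^^ b) = 1 := by
      rw [hom, e, ← hom, Nat.xor_self]
      exact cg_zero L
    have hp : (a ^^^ b) / 32 = 0 := by
      have h := (hacts _ hd).rep
      rw [e1, D.rho_one] at h
      have hf := List.all_eq_true.1 p6_faithful ((a ^^^ b) / 32) (List.mem_range.2 (by omega))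
      simp only [Bool.or_eq_true, beq_iff_eq, List.any_eq_true, bne_iff_ne, ne_eq] at hf
      rcases hf with h0 | ⟨v, hv, hne⟩
      · exact h0
      · obtain ⟨hl, he⟩ := h v (imgs8_lt v hv)
        rw [OrthCohom.act_one'] at he
        exact absurd (vc_inj (imgs8_lt v hv) hl he).symm hne
    have hlt : a ^^^ b < 32 := by omega
    obtain ⟨-, hc⟩ := hlowc _ hlt
    rw [e1, D.coords.c_one, ← vc_zero] at hc
    have h0 : (a ^^^ b) / 2 = 0 := (vc_inj (by norm_num) (by omega) hc).symm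
    have : a ^^^ b = 0 ∨ a ^^^ b = 1 := by omega
    rcases this with h | h
    · exact Nat.xor_eq_zero_iff.1 h
    · rw [h] at e1
      exact absurd (by simpa [ψ, hL11, cg] using e1) D.setup.z_ne_one

end Cfsg.Agent.CoGolay
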