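import Cfsg.Agent.LargeExt10.Co.Model
import Cfsg.Agent.LargeExt10.Golay.Tables
import Cfsg.Agent.Lib.Golay.Code
import Cfsg.Agent.LFType10.PointData

/-!
# Computations for the subgroup of order `2 ^ 11` in a group of Conway type

Codes below 256 are vectors of the eight-dimensional space; `U₀` is the set of codes below 16 and
`U₁` the set of multiples of 16. Codes below 2048 are elements of the subgroup: bit 0 stands for the
central involution, bits 1-4 for a basis of `U₀` and bits 5-10 for the six alternating forms.
-/

set_option autoImplicit false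

namespace Cfsg.Agent.CoGolay

open Cfsg.Agent.LargeExt10.Co (qm orth rf)
open Cfsg.Agent.OrthCohom (bilB)

/-- The exclusive or of the entries selected by the bits. -/
abbrev xl : List ℕ → ℕ → ℕ := Cfsg.Agent.Golay.combAux

/-- A word of reflections on codes. -/
def wd : List ℕ → ℕ → ℕ
  | [], u => u
  | c :: r, u => rf c (wd r u)

/-- A word of an even number of reflections. -/
def evenWord : List ℕ → Bool
  | [] => true
  | [_] => false
  | c :: d :: r => qm c && decide (c < 256) && qm d && decide (d < 256) && evenWord r

/-- An Eichler transformation with singular parameters. -/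
def eich (u a k : ℕ) : ℕ :=
  k ^^^ (if bilB qm a k then u else 0) ^^^ (if bilB qm u k then a else 0)

/-- The six pairs of coordinates. -/
def tp : List (ℕ × ℕ) := [(0, 1), (0, 2), (0, 3), (1, 2), (1, 3), (2, 3)]

/-- The values of the six forms at a code. -/
def tpCols (v : ℕ) : List ℕ :=
  tp.map fun q => (if v.testBit (4 + q.1) then 2 ^ q.2 else 0) ^^^ (if v.testBit (4 + q.2) then 2 ^ q.1 else 0)

/-- The transvection of a form, fixing `U₀` pointwise. -/
def p6 (p v : ℕ) : ℕ := v ^^^ xl (tpCols v) p

/-- The model element of rank four. -/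
def gs : ℕ → ℕ := p6 33

/-- The commutators with the `i`-th unit vector of `U₁`. -/
def dl (i : ℕ) : List ℕ :=
  [0] ++ (List.range 4).map (fun j => if j == i then 1 else 0) ++
    tp.map fun q => if q.1 == i then 2 ^ (1 + q.2) else if q.2 == i then 2 ^ (1 + q.1) else 0

/-- Conjugation by the `i`-th unit vector of `U₁`. -/
def w1 (i n : ℕ) : ℕ := n ^^^ xl (dl i) n

/-- Conjugation by a vector of `U₁`. -/
def wk (k n : ℕ) : ℕ :=
  (List.range 4).foldr (fun i m => if k.testBit i then w1 i m else m) n

/-- The commutator with a vector of `U₁`. -/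
def dd (k n : ℕ) : ℕ := n ^^^ wk k n

/-- A map of `U₀` on the first five coordinates. -/
def gu (f : ℕ → ℕ) (m : ℕ) : ℕ := m % 2 ^^^ 2 * f (m / 2 % 16)

/-- The image of the `i`-th unit vector of `U₁`, as a vector of four bits. -/
def wimg (f : ℕ → ℕ) (i : ℕ) : ℕ := f (16 * 2 ^ i) / 16

/-- Columns with a change of the first coordinate on the six forms. -/
def withEta (cols : List ℕ) (e : ℕ) : List ℕ :=
  (List.range 11).map fun b => cols.getD b 0 ^^^ (if decide (5 ≤ b) && e.testBit (b - 5) then 1 else 0)

def mapX : ℕ → ℕ := xl colsX
def mapY : ℕ → ℕ := xl (withEta colsY 26)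

/-- Whether a map preserves both `U₀` and `U₁`. -/
def presB (f : ℕ → ℕ) : Bool :=
  (List.range 16).all fun k => decide (f k < 16) && f (16 * k) % 16 == 0 && decide (f (16 * k) < 256)

/-- Whether the columns describe the map on the coordinates. -/
def colsOK (f : ℕ → ℕ) (cols : List ℕ) : Bool :=
  cols.length == 11 && cols.all (fun c => decide (c < 2048)) &&
  (List.range 11).all (fun b => (List.range 4).all fun j =>
    dd (wimg f j) (cols.getD b 0) == gu f (dd (2 ^ j) (2 ^ b))) &&
  (List.range 5).all (fun b => cols.getD b 0 == gu f (2 ^ b)) &&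
  (List.range 2048).all (fun d => decide (d < 2) || (List.range 4).any fun j => dd (wimg f j) d != 0)

/-- A word in the two maps. -/
def evW (F G : ℕ → ℕ) : List Bool → ℕ → ℕ
  | [], n => n
  | b :: r, n => (if b then G else F) (evW F G r n)

/-- The three relations: `true` stands for the transvection. -/
def rels : List (List Bool × List Bool) :=
  let X := false
  let Y := true
  [([Y, Y], []),
   ([Y, X, X, X, Y, X, X, X, Y, X, X], [X, X, X, Y, X, X, X, Y, X, X, Y]),
   ([Y, X, X, X, Y, X, X, X, Y, X, Y, X], [X, X, X, Y, X, X, X, Y, X, Y, X, Y])]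

/-- The relations hold on the coordinates for a given change of the first coordinate. -/
def relsHold (e : ℕ) : Bool :=
  rels.all fun p => (List.range 11).all fun b =>
    evW (xl colsX) (xl (withEta colsY e)) p.1 (2 ^ b) == evW (xl colsX) (xl (withEta colsY e)) p.2 (2 ^ b)

/-- The six forms as images of the unit vectors. -/
def sixSpan (m : ℕ) : ℕ := xl six m

/-- The image of a code under the unit vector images. -/
def imgs8 : List ℕ := [1, 2, 4, 8, 16, 32, 64, 128]

/-- An isometry fixing `U₀` pointwise is one of the transvections of forms. -/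
def fixU0B : Bool :=
  (List.range 16).all fun k0 => qm (16 ^^^ k0) || (List.range 16).all fun k1 =>
    qm (32 ^^^ k1) || bilB qm (16 ^^^ k0) (32 ^^^ k1) || (List.range 16).all fun k2 =>
      qm (64 ^^^ k2) || bilB qm (16 ^^^ k0) (64 ^^^ k2) || bilB qm (32 ^^^ k1) (64 ^^^ k2) ||
        (List.range 16).all fun k3 =>
          qm (128 ^^^ k3) || bilB qm (16 ^^^ k0) (128 ^^^ k3) || bilB qm (32 ^^^ k1) (128 ^^^ k3) ||
            bilB qm (64 ^^^ k2) (128 ^^^ k3) || (List.range 64).any fun p =>
              p6 p 16 == 16 ^^^ k0 && p6 p 32 == 32 ^^^ k1 && p6 p 64 == 64 ^^^ k2 && p6 p 128 == 128 ^^^ k3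

/-- The class of a code on the coordinates. -/
def inOrb (i n : ℕ) : Bool := (orbMask.getD i 0).testBit n

/-- The first elements of the classes. -/
def orbRep : List ℕ := [0, 1, 2, 32, 40, 384, 385]

/-- The maps generating the local group on the coordinates. -/
def gens : List (ℕ → ℕ) := [w1 0, w1 1, w1 2, w1 3, mapX, mapY]

/-- The distance from the first element of the class. -/
def dist (n : ℕ) : ℕ := distPack / 2 ^ (6 * n) % 64

/-- The classes are closed and connected. -/
def orbB : Bool :=
  (List.range 2048).all fun n => (List.range 7).all (fun i => !inOrb i n || (n == orbRep.getD i 0) ||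
      gens.any fun g => inOrb i (g n) && decide (dist (g n) < dist n) && decide (g n < 2048)) &&
    (List.range 7).any fun i => inOrb i n

/-- A possible union of classes containing the first two: bits for 280, 448, 448. -/
def inOpt (m n : ℕ) : Bool :=
  inOrb 1 n || inOrb 2 n || (m.testBit 0 && inOrb 3 n) || (m.testBit 1 && inOrb 5 n) ||
    (m.testBit 2 && inOrb 6 n)

/-- The chosen class of the central involution. -/
def inO (n : ℕ) : Bool := inOpt 5 n

/-- The pairs in a class with prescribed sum. -/
def cnt (S T : ℕ → Bool) (a : ℕ) : ℕ :=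
  ((List.range 2048).filter fun b => S b && T (a ^^^ b)).length

/-- The class as a list. -/
def oList : List ℕ := (List.range 2048).filter inO

/-- Whether a functional, given as a code, does not vanish at a code. -/
def odd (n k : ℕ) : Bool := (xl colMasks n).testBit k

/-- Adding one bit in each lane. -/
def addm : List ℕ → ℕ → List ℕ
  | [], c => if c = 0 then [] else [c]
  | x :: r, c => (x ^^^ c) :: addm r (x &&& c)

/-- The value in a lane. -/
def lane : List ℕ → ℕ → ℕ
  | [], _ => 0
  | x :: r, k => (if x.testBit k then 1 else 0) + 2 * lane r k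

/-- Whether a functional misses exactly 352 elements of the class. -/
def duad (k : ℕ) : Bool := lane counters k == 352

end Cfsg.Agent.CoGolay
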