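import Cfsg.Agent.LargeExt10.Golay.Data
import Cfsg.Agent.LargeExt10.Golay.Counts

/-!
# Functionals on the coordinates
-/

set_option autoImplicit false
set_option maxRecDepth 40000

namespace Cfsg.Agent.CoGolay

theorem colMasks_bit : ((List.range 11).all fun b => (List.range 2048).all fun k =>
    odd (2 ^ b) k == k.testBit b) = true := by decide +kernel

theorem dual_inj : ((List.range 2048).all fun k => k == 0 || xl dualCols k != 0) = true := by decide +kernel

theorem dual_lt : ∀ b ∈ dualCols, b < 2 ^ 11 := by decide +kernel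

theorem odd_xor (m n k : ℕ) : odd (m ^^^ n) k = xor (odd m k) (odd n k) := by
  rw [odd, odd, odd, xl, Cfsg.Agent.Golay.combAux_xor, Nat.testBit_xor]

theorem odd_bit {b k : ℕ} (hb : b < 11) (hk : k < 2048) : odd (2 ^ b) k = k.testBit b :=
  beq_iff_eq.1 (List.all_eq_true.1 (List.all_eq_true.1 colMasks_bit b (List.mem_range.2 hb)) k
    (List.mem_range.2 hk))

theorem lane_addm : ∀ (cs : List ℕ) (c k : ℕ),
    lane (addm cs c) k = lane cs k + if c.testBit k then 1 else 0
  | [], c, k => by
    rw [addm]
    by_cases h : c = 0
    · simp [h, lane]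
    · simp [h, lane]
  | x :: r, c, k => by
    rw [addm, lane, lane_addm r (x &&& c) k, lane, Nat.testBit_xor, Nat.testBit_and]
    cases x.testBit k <;> cases c.testBit k <;> simp <;> omega

theorem lane_foldr (k : ℕ) : ∀ L : List ℕ,
    lane (L.foldr (fun n cs => addm cs (xl colMasks n)) []) k = (L.filter fun n => odd n k).length
  | [] => rfl
  | n :: r => by
    rw [List.foldr_cons, lane_addm, lane_foldr k r, List.filter_cons]
    unfold odd
    by_cases h : (xl colMasks n).testBit k <;> simp [h]

theorem duad_iff {k : ℕ} : duad k = true ↔ (oList.filter fun n => odd n k).length = 352 := by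
  rw [duad, beq_iff_eq, ← counters_ok, lane_foldr]

end Cfsg.Agent.CoGolay
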