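import Cfsg.Agent.LargeExt10.Golay.Checks2

/-!
# Checks for the Sylow complement
-/

set_option autoImplicit false
set_option maxRecDepth 40000

namespace Cfsg.Agent.CoGolay

open Cfsg.Agent.LargeExt10.Co (qm orth)

/-- The six transvections, in the order of the pairs. -/
def tv (i : ℕ) : ℕ → ℕ := eich (2 ^ (tp.getD i (0, 0)).1) (16 * 2 ^ (tp.getD i (0, 0)).2)

/-- The index of a pair written `4 i + j`. -/
def tIdx (c : ℕ) : ℕ := [1, 2, 3, 6, 7, 11].findIdx (· == c)

/-- Words carrying the transvection to the six. -/
def tvWords : List (List ℕ) :=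
  [[17, 23, 113, 119], [], [17, 29, 209, 221], [68, 71, 116, 119], [17, 29, 209, 221, 68, 71, 116, 119],
    [34, 43, 178, 187, 34, 39, 114, 119]]

/-- The product of two skew transvections. -/
def sk (v : ℕ) : ℕ := tv 0 (tv 5 v)

theorem tv_linear : ((List.range 6).all fun i => (List.range 256).all fun v =>
    tv i v == xl (imgs8.map (tv i)) v && decide (tv i v < 256)) = true := by decide +kernel

theorem tv_pres : ((List.range 6).all fun i => (List.range 16).all fun k =>
    decide (tv i k < 16) && tv i (16 * k) % 16 == 0 && tv i (tv i k) == k &&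
      tv i (tv i (16 * k)) == 16 * k) = true := by decide +kernel

theorem tv_words : ((List.range 6).all fun i => levB (tvWords.getD i []) && levB (tvWords.getD i []).reverse &&
    imgs8.all fun b => wd (tvWords.getD i []) (tv 1 (wd (tvWords.getD i []).reverse b)) == tv i b &&
      wd (tvWords.getD i []) (wd (tvWords.getD i []).reverse b) == b) = true := by decide +kernel

theorem pair_words : (pairWords.all fun p => levB p.2.2.2 && levB p.2.2.2.reverse &&
    imgs8.all fun b =>
      wd p.2.2.2 (if p.2.2.1 then sk (wd p.2.2.2.reverse b) else tv 1 (wd p.2.2.2.reverse b)) ==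
        tv (tIdx p.1) (tv (tIdx p.2.1) b) && wd p.2.2.2 (wd p.2.2.2.reverse b) == b) = true := by decide +kernel

theorem pair_codes : pairWords.map (fun p => (tIdx p.1, tIdx p.2.1)) =
    [(2, 4), (2, 5), (4, 5), (0, 2), (0, 5), (1, 2), (1, 4), (3, 2), (3, 4), (1, 3), (0, 1)] := by
  decide +kernel

theorem tv_comm : (imgs8.all fun b => tv 0 (tv 3 (tv 0 (tv 3 b))) == tv 1 b &&
    tv 3 (tv 5 (tv 3 (tv 5 b))) == tv 4 b && tv 0 (tv 4 (tv 0 (tv 4 b))) == tv 2 b &&
    wd wordY b == tv 1 b && wd [34, 136] (gs (wd [136, 34] b)) == sk b &&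
    wd [34, 136] (wd [136, 34] b) == b && decide (wd [136, 34] b < 256)) = true := by decide +kernel

theorem sk_fix : ((List.range 16).all fun j => (List.range 16).all fun k =>
    !(sk j == j) || !(sk (16 * k) == 16 * k) || orth j (16 * k)) = true := by decide +kernel

theorem wk_low : ((List.range 16).all fun k => (List.range 32).all fun m =>
    wk k m == m ^^^ (if orth (m / 2) (16 * k) then 0 else 1)) = true := by decide +kernel

theorem y_fix : ((List.range 16).all fun j =>
    !(orth j 32 && orth j 64 && orth j 128) || decide (j < 2)) = true := by decide +kernel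

/-- The products of the transvections in normal form, on `U₀`. -/
def nf (n v : ℕ) : ℕ :=
  let e := fun (b i : ℕ) (v : ℕ) => if n.testBit b then tv i v else v
  e 0 0 (e 1 1 (e 2 3 (e 3 2 (e 4 4 (e 5 5 v)))))

theorem nf_inj : decide ((List.range 64).map fun n => [1, 2, 4, 8].map (nf n)).Nodup = true := by decide +kernel

end Cfsg.Agent.CoGolay
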