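import Cfsg.Agent.LargeExt10.Golay.Model
import Cfsg.Agent.LargeExt10.Golay.SplitData

/-!
# Involutions among the exact elements
-/

set_option autoImplicit false

namespace Cfsg.Agent.CoGolay

open QuadraticMap Cfsg.Agent.Reflections Cfsg.Agent.LargeExtraspecial Cfsg.Agent.LargeExt10
open Cfsg.Agent.LargeExt10.Co Cfsg.Agent.LargeExt10.Co.Frame

variable {G : Type*} [Group G] [Finite G] {z : G} {Q : Subgroup G} {D : Co z Q} {F : Frame D} {C : Crd F}

theorem IsLev.congr {g : G} {f f' : ℕ → ℕ} (h : IsLev C g f) (e : ∀ k < 256, f k = f' k) : IsLev C g f' := by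
  refine ⟨h.acts.congr e, fun k hk => ?_, fun m hm => ?_, fun k hk => ?_⟩
  · rw [← e k (by omega), ← e (16 * k) (by omega)]; exact h.pres k hk
  · rw [show gu f' m = gu f m by
      rw [gu, gu, e _ (lt_trans (Nat.mod_lt _ (by norm_num)) (by norm_num))]]
    exact h.hu m hm
  · rw [← e (16 * k) (by omega)]; exact h.hw k hk

theorem IsLev.congr_basis {g : G} {f f' : ℕ → ℕ} (h : IsLev C g f)
    (hl : ∀ k < 256, f' k = xl (imgs8.map f') k ∧ f' k < 256) (e : ∀ b ∈ imgs8, f b = f' b) :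
    IsLev C g f' := by
  have h' : Rep (D.ρ g) f' := Rep.of_basis hl fun b hb => by
    rw [(h.acts.rep b (imgs8_lt b hb)).2, e b hb]
  exact h.congr fun k hk => vc_inj (h.acts.rep k hk).1 (h' k hk).1
    (by rw [← (h.acts.rep k hk).2, (h' k hk).2])

theorem lev_z {a : ℕ} (ha : a < 2) : IsLev C (C.psi a) (fun k => k) ∧ ∀ x, Commute x z → Commute (C.psi a) x := by
  rcases (show a = 0 ∨ a = 1 by omega) with rfl | rfl
  · rw [C.psi_zero]; exact ⟨isLev_one, fun x _ => Commute.one_left x⟩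
  · rw [C.psi_z]
    refine ⟨⟨acts_Q D.setup.z_mem, (isLev_one (C := C)).pres, fun m hm => ?_, fun k hk => ?_⟩,
      fun x hx => hx.symm⟩
    · have e : gu (fun k => k) m = m :=
        (show ∀ m : Fin 32, gu (fun k => k) m.1 = m.1 by decide +kernel) ⟨m, hm⟩
      rw [e]
      exact ⟨hm, by rw [(D.setup.z_commute (C.low m hm).1).eq, mul_inv_cancel_right]⟩
    · rw [Nat.mul_div_cancel_left k (by norm_num), (D.setup.z_commute (C.w_mem k hk).1).eq,
        mul_inv_cancel_right]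

/-- An exact element with the identity map lies in `⟨z⟩`. -/
theorem lev_id {x : G} {f : ℕ → ℕ} (h : IsLev C x f) (e : ∀ b ∈ imgs8, f b = b) :
    ∃ a < 2, x = C.psi a := by
  have hQ : x ∈ Q := (D.ρ_ker h.acts.cz).1 (h.acts.rep.ext rep_one e)
  have heq : ∀ k < 256, f k = k := fun k hk => by
    have h1 := (h.acts.rep k hk).2
    rw [(D.ρ_ker h.acts.cz).2 hQ, OrthCohom.act_one'] at h1
    exact (vc_inj hk (h.acts.rep k hk).1 h1).symm
  have hcu : ∀ m < 32, Commute x (C.psi m) := fun m hm => by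
    refine mul_inv_eq_iff_eq_mul.1 ?_
    rw [(h.hu m hm).2, gu, heq _ (lt_trans (Nat.mod_lt _ (by norm_num)) (by norm_num))]
    congr 1
    exact (show ∀ m : Fin 32, gu (fun k => k) m.1 = m.1 by decide +kernel) ⟨m, hm⟩
  have hcw : ∀ k < 16, Commute x (C.w k) := fun k hk => by
    refine mul_inv_eq_iff_eq_mul.1 ?_
    rw [h.hw k hk, heq (16 * k) (by omega), Nat.mul_div_cancel_left k (by norm_num)]
  have hA : x ∈ AG D := mem_AG.2 fun y hy j hj hyc => by
    obtain ⟨a, ha, rfl⟩ := C.psi_low_eq hy hj hyc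
    exact hcu _ (Nat.xor_lt_two_pow (n := 5) (by omega) (by omega))
  obtain ⟨j, hj, hjc⟩ := (mem_AG_Q hQ).1 hA
  have key : ∀ j : Fin 16, (∀ i : Fin 4, orth j.1 (16 * 2 ^ i.1) = true) → j.1 = 0 := by decide +kernel
  have hj0 : j = 0 := key ⟨j, hj⟩ fun i => by
    have hi : 2 ^ i.1 < 16 := by fin_cases i <;> norm_num
    refine orth_true (by omega) (by omega) ?_
    rw [← hjc, ← (C.w_mem _ hi).2]
    exact (D.commute_iff hQ (C.w_mem _ hi).1).1 (hcw _ hi)
  subst hj0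
  obtain ⟨a, ha, ea⟩ := C.psi_low_eq hQ (by norm_num) hjc
  exact ⟨a, ha, by rw [ea, Nat.mul_zero, Nat.zero_xor]⟩

theorem IsLev.inv {g h : G} {f f' : ℕ → ℕ} (hg : IsLev C g f) (hh : IsLev C h f')
    (e : ∀ b ∈ imgs8, f (f' b) = b) : IsLev C g⁻¹ f' := by
  obtain ⟨a, ha, ea⟩ := lev_id (hg.mul hh) e
  have hg' : g⁻¹ = h * (C.psi a)⁻¹ := by rw [← ea]; group
  have hi : (C.psi a)⁻¹ = C.psi a := inv_eq_of_mul_eq_one_left (by rw [← C.hom, Nat.xor_self, C.psi_zero])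
  rw [hg', hi]
  exact (hh.mul (lev_z ha).1).congr fun k _ => rfl

/-- Every exact element with the map is an involution. -/
def AllInv (C : Crd F) (f : ℕ → ℕ) : Prop := ∀ g, IsLev C g f → g * g = 1

theorem allInv_of {g0 : G} {f : ℕ → ℕ} (h0 : IsLev C g0 f) (h2 : g0 * g0 = 1)
    (hf : ∀ b ∈ imgs8, f (f b) = b) : AllInv C f := fun g hg => by
  obtain ⟨a, ha, e⟩ := lev_id (hg.mul h0) hf
  have hi : (C.psi a)⁻¹ = C.psi a := inv_eq_of_mul_eq_one_left (by rw [← C.hom, Nat.xor_self, C.psi_zero])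
  have hg0 : g0⁻¹ = g0 := inv_eq_of_mul_eq_one_left h2
  have eg : g = C.psi a * g0 := by rw [← e, mul_assoc, h2, mul_one]
  rw [eg, show C.psi a * g0 * (C.psi a * g0) = C.psi a * (g0 * C.psi a) * g0 by group,
    ← ((lev_z ha).2 g0 h0.acts.cz).eq, ← mul_assoc, ← C.hom, Nat.xor_self, C.psi_zero, one_mul, h2]

/-- An exact element is an involution if an involution has its map and a suitable parameter. -/
theorem inv_of_invol {g t : G} {f : ℕ → ℕ} (hg : IsLev C g f) (ht : Acts D t f) (ht2 : t * t = 1)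
    (hf : ∀ b ∈ imgs8, f (f b) = b)
    (ortho : ∀ m < 32, ∀ k < 16, t = g * (C.psi m * C.w k) → f (16 * k) = 16 * k →
      (gu f m ^^^ wk k m) < 2 → orth (m / 2) (16 * k) = true) : g * g = 1 := by
  obtain ⟨a, ha, ea⟩ := lev_id (hg.mul hg) hf
  have hQ : g⁻¹ * t ∈ Q := hg.acts.quot ht
  obtain ⟨c, hc, hcc⟩ := vc_surj (D.c (g⁻¹ * t))
  have hk : c / 16 < 16 := by omega
  obtain ⟨hwm, hwc⟩ := C.w_mem (c / 16) hk
  have hlow : g⁻¹ * t * (C.w (c / 16))⁻¹ ∈ Q := mul_mem hQ (inv_mem hwm)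
  have hlc : D.c (g⁻¹ * t * (C.w (c / 16))⁻¹) = vc (c % 16) := by
    rw [D.coords.mul _ hQ _ (inv_mem hwm), D.coords.c_inv hwm, ← hcc, hwc, ← vc_xor]
    congr 1
    exact (show ∀ c : Fin 256, c.1 ^^^ 16 * (c.1 / 16) = c.1 % 16 by decide +kernel) ⟨c, hc⟩
  obtain ⟨b, hb, eb⟩ := C.psi_low_eq hlow (Nat.mod_lt _ (by norm_num)) hlc
  set m := 2 * (c % 16) ^^^ b with hm
  set k := c / 16
  have hm32 : m < 32 := Nat.xor_lt_two_pow (n := 5) (by omega) (by omega)
  have et : t = g * (C.psi m * C.w k) := by rw [← eb]; group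
  obtain ⟨hgl, hge⟩ := hg.hu m hm32
  obtain ⟨k', hk', ek⟩ := (hg.pres k hk).2
  have hgw := hg.hw k hk
  rw [ek, Nat.mul_div_cancel_left k' (by norm_num)] at hgw
  have hq : C.psi (gu f m ^^^ wk k' m) * C.w (k' ^^^ k) = C.psi a := by
    have hconj := C.conj_w k' hk' m (by omega)
    have hz := (lev_z (C := C) ha).2 g hg.acts.cz
    have h1 : g * (C.psi m * C.w k) * g⁻¹ * (g * g) * (C.psi m * C.w k) = 1 := by
      rw [← ht2, et]; group
    rw [show g * g = C.psi a from ea, show g * (C.psi m * C.w k) * g⁻¹ =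
      (g * C.psi m * g⁻¹) * (g * C.w k * g⁻¹) by group, hge, hgw] at h1
    have hcq : Commute (C.psi a) (C.psi m * C.w k) := (lev_z (C := C) ha).2 _
      (((AG_cz (C.mem m (by omega)))).mul_left (D.setup.z_commute (C.w_mem k hk).1).symm)
    rw [mul_assoc, hcq.eq, ← mul_assoc] at h1
    have hi : (C.psi a)⁻¹ = C.psi a := inv_eq_of_mul_eq_one_left (by rw [← C.hom, Nat.xor_self, C.psi_zero])
    have h2 : C.psi (gu f m) * C.w k' * (C.psi m * C.w k) = C.psi a :=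
      (mul_eq_one_iff_eq_inv.1 h1).trans hi
    rw [← h2, C.hom, ← hconj, C.w_hom]
    group
  have hwklt : gu f m ^^^ wk k' m < 32 := by
    refine Nat.xor_lt_two_pow (n := 5) hgl ?_
    have := Crd.dd_low (n := m) hk' (by omega)
    rw [dd] at this
    have h := Nat.xor_lt_two_pow (n := 5) hm32 this
    rwa [← Nat.xor_assoc, Nat.xor_self, Nat.zero_xor] at h
  have hkk : k' ^^^ k < 16 := Nat.xor_lt_two_pow (n := 4) hk' hk
  obtain ⟨hp1, hp2⟩ := C.low _ hwklt
  obtain ⟨hw1, hw2⟩ := C.w_mem _ hkk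
  obtain ⟨-, ha2⟩ := C.low a (by omega)
  have hc' := congrArg D.c hq
  rw [D.coords.mul _ hp1 _ hw1, hp2, hw2, ha2, ← vc_xor] at hc'
  have h0 := vc_inj (Nat.xor_lt_two_pow (n := 8) (by omega) (by omega)) (by omega) hc'
  have hkk0 : k' ^^^ k = 0 :=
    (show ∀ x y : Fin 16, x.1 ^^^ 16 * y.1 = 0 → y.1 = 0 by decide +kernel)
      ⟨(gu f m ^^^ wk k' m) / 2, by omega⟩ ⟨k' ^^^ k, hkk⟩ (by rw [h0]; omega)
  rw [hkk0, C.w_zero, mul_one] at hq
  have hkeq : k' = k := Nat.xor_eq_zero_iff.1 hkk0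
  subst hkeq
  have he := C.inj _ _ (by omega) (by omega) hq
  have ho := ortho m hm32 _ hk et ek (by omega)
  have hwl := List.all_eq_true.1 (List.all_eq_true.1 wk_low k (List.mem_range.2 hk)) m (List.mem_range.2 hm32)
  rw [beq_iff_eq, ho, if_pos rfl, Nat.xor_zero] at hwl
  rw [hwl] at he
  have hpar : gu f m % 2 = m % 2 := by
    rw [gu, show (2 : ℕ) = 2 ^ 1 from rfl, Nat.xor_mod_two_pow]
    simp
  have ha0 : a = 0 := by
    have h3 : (gu f m ^^^ m) % 2 ^ 1 = 0 := by rw [Nat.xor_mod_two_pow, pow_one, hpar, Nat.xor_self]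
    rw [he, pow_one] at h3
    omega
  rw [show g * g = C.psi a from ea, ha0, C.psi_zero]

end Cfsg.Agent.CoGolay
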