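import Cfsg.Agent.LargeExt10.Golay.Maps

/-!
# An involution of rank four over the standard totally singular subspace

Transvections towards `v0` and towards `p4` lift to involutions whose commutator lies in `⟨z⟩`;
for a suitable choice of the parameters it is trivial.
-/

set_option autoImplicit false

namespace Cfsg.Agent.CoGolay

open QuadraticMap Cfsg.Agent.Reflections Cfsg.Agent.LargeExtraspecial Cfsg.Agent.LargeExt10
open Cfsg.Agent.LargeExt10.Co Cfsg.Agent.LargeExt10.Co.Frame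
open Cfsg.Agent.OrthCohom (bilB)
open Cfsg.Agent.Forms59.Inv (nmap add_self_vec nmap_apply polar_nmap act_eq_add form_nmap nmap_conj)

variable {G : Type*} [Group G] [Finite G] {z : G} {Q : Subgroup G} {D : Co z Q} {F : Frame D}

theorem vc_ite (b : Bool) (u : ℕ) :
    vc (if b then u else 0) = (if b then (1 : ZMod 2) else 0) • vc u := by
  cases b <;> simp [vc_zero]

theorem B_bil {a b : ℕ} (ha : a < 256) (hb : b < 256) :
    B8 (vc a) (vc b) = if bilB qm a b then 1 else 0 := Cfsg.Agent.OrthCohom.coded8.polar_vec ha hb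

theorem eich_lt {u a k : ℕ} (hu : u < 256) (ha : a < 256) (hk : k < 256) : eich u a k < 256 := by
  refine Nat.xor_lt_two_pow (n := 8) (Nat.xor_lt_two_pow (n := 8) hk ?_) ?_ <;> split <;>
    first | assumption | norm_num

theorem vc_eich {u a k : ℕ} (hu : u < 256) (ha : a < 256) (hk : k < 256) :
    vc (eich u a k) = vc k + (B8 (vc a) (vc k) • vc u + B8 (vc k) (vc u) • vc a) := by
  rw [eich, vc_xor, vc_xor, vc_ite, vc_ite, add_assoc, B_bil ha hk, B8, polar_comm, ← B8, B_bil hu hk]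

/-- The map of an element of `C_R(z)` with singular parameter. -/
theorem nmap_sig {r : G} (hr : r ∈ fixIn F.R z) {a : V8} (ha : Eqv (F.av r) a) (hq : Q8 a = 0)
    (h0 : B8 a v0 = 0) (v : V8) : nmap (D.ρ r) v = B8 a v • v0 + B8 v v0 • a := by
  have hS := sig_of_mem hr
  have hQv : Q8 (F.av r) = 0 := by rw [ha.form_eq h0, hq]
  have hy : B8 yy (F.av r) = 0 := by rw [← hQv]; exact (form_nmap (D.ρ r) yy).symm
  have base : ∀ v, nmap (D.ρ r) v = B8 (F.av r) v • v0 + B8 v v0 • F.av r := by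
    intro v
    rcases bit (B8 v v0) with e | e
    · rw [e, zero_smul, add_zero, hS.nmap_eq e]
    · have hx : B8 (v + yy) v0 = 0 := by
        rw [B8, polar_add_left, show polar (⇑Q8) v v0 = 1 from e, show polar (⇑Q8) yy v0 = 1 from B_yy]
        rfl
      have hB : B8 (F.av r) (v + yy) = B8 (F.av r) v := by
        rw [B8, polar_add_right, polar_comm _ (F.av r) yy, show polar (⇑Q8) yy (F.av r) = 0 from hy,
          add_zero]
      rw [e, one_smul]
      conv_lhs => rw [show v = (v + yy) + yy by rw [add_assoc, add_self_vec, add_zero]]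
      rw [map_add, hS.nmap_eq hx, hB]
      rfl
  rw [base]
  rcases ha with e | e
  · rw [e]
  · rw [e]
    simp only [B8, polar_add_left, add_smul, smul_add, polar_comm _ v0 v]
    rw [add_add_add_comm, add_self_vec, add_zero]

theorem acts_sig {r : G} (hr : r ∈ fixIn F.R z) {a : ℕ} (hlt : a < 256) (ha : Eqv (F.av r) (vc a))
    (hq : qm a = false) (h1 : orth a 1 = true) : Acts D r (eich 1 a) := by
  refine ⟨(sig_of_mem hr).cz, fun k hk => ⟨eich_lt (by norm_num) hlt hk, ?_⟩⟩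
  rw [act_eq_add, nmap_sig hr ha (Q_of (e := false) hlt hq) (B_of_orth hlt (by norm_num) h1),
    vc_eich (by norm_num) hlt hk]

theorem sq_sig {r : G} (hr : r ∈ fixIn F.R z) {a : V8} (ha : Eqv (F.av r) a) (h0 : B8 a v0 = 0) :
    r * r = el z F.s 0 (Q8 a) := by rw [sq_R hr, ha.form_eq h0]

theorem av_mul {r r' : G} (hr : r ∈ fixIn F.R z) (hr' : r' ∈ fixIn F.R z) :
    Eqv (F.av (r * r')) (F.av r + F.av r') := by
  have h1 := sig_of_mem hr
  have h2 := sig_of_mem hr'
  have hp := h2.av_perp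
  have e2 : act (D.ρ r') yy = yy + F.av r' := act_eq_add _ _
  have e1 : act (D.ρ r) yy = yy + F.av r := act_eq_add _ _
  rw [av, nmap_apply, D.ρ_mul h1.cz h2.cz, act_mul, e2, act_add, e1,
    act_eq_add (D.ρ r) (F.av r'), h1.nmap_eq hp]
  rcases bit (B8 (F.av r) (F.av r')) with e | e <;> rw [e]
  · left
    rw [zero_smul, add_zero, add_comm _ yy, ← add_assoc, ← add_assoc, add_self_vec, zero_add]
  · right
    rw [one_smul, add_comm _ yy, ← add_assoc, ← add_assoc, ← add_assoc, add_self_vec, zero_add]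

theorem eq_el_mul {r r' : G} (hr : r ∈ fixIn F.R z) (hr' : r' ∈ fixIn F.R z) (h : D.ρ r' = D.ρ r) :
    ∃ i j, r' = el z F.s i j * r := by
  obtain ⟨hrR, hrz⟩ := mem_fixIn.1 hr
  obtain ⟨hrR', hrz'⟩ := mem_fixIn.1 hr'
  have hQ : r' * r⁻¹ ∈ Q := (D.ρ_ker (hrz'.mul_left hrz.inv_left)).1 (by
    rw [D.ρ_mul hrz' hrz.inv_left, h, D.rho_inv hrz, mul_inv_cancel])
  obtain ⟨i, j, e⟩ := F.eq_el_of_small hQ (F.inter_small hQ (mul_mem hrR' (inv_mem hrR)))
  exact ⟨i, j, by rw [← e, inv_mul_cancel_right]⟩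

/-- An element over a transvection towards `p4`. -/
def IsT (F : Frame D) (g : G) (b : V8) (t : G) : Prop :=
  ∃ r ∈ fixIn F.R z, Eqv (F.av r) (act (D.ρ g)⁻¹ b) ∧ t = g * r * g⁻¹

/-- The commutator of two elements is `z ^ i`. -/
def Com (z t r : G) (i : ZMod 2) : Prop := t * r * t⁻¹ = pw z i * r

theorem commute_pw {t : G} (hz : Commute t z) (i : ZMod 2) : Commute t (pw z i) := by
  rcases pw_cases z i with ⟨-, e⟩ | ⟨-, e⟩ <;> rw [e]
  exacts [Commute.one_right _, hz]

theorem Com.unique {t r : G} {i j : ZMod 2} (hz : z ≠ 1) (h : Com z t r i) (h' : Com z t r j) :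
    i = j := pw_inj hz (mul_right_cancel (h.symm.trans h'))

theorem Com.mul_right {t r r' : G} {i j : ZMod 2} (hzz : z * z = 1) (hr : Commute r z)
    (h : Com z t r i) (h' : Com z t r' j) : Com z t (r * r') (i + j) := by
  rw [Com, show t * (r * r') * t⁻¹ = (t * r * t⁻¹) * (t * r' * t⁻¹) by group, h, h',
    ← pw_mul hzz]
  calc pw z i * r * (pw z j * r') = pw z i * (r * pw z j) * r' := by group
    _ = pw z i * (pw z j * r) * r' := by rw [(commute_pw hr j).eq]
    _ = _ := by group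

theorem Com.mul_left {t t' r : G} {i j : ZMod 2} (hzz : z * z = 1) (ht : Commute t z)
    (h : Com z t r i) (h' : Com z t' r j) : Com z (t * t') r (i + j) := by
  rw [Com, show t * t' * r * (t * t')⁻¹ = t * (t' * r * t'⁻¹) * t⁻¹ by group, h',
    show t * (pw z j * r) * t⁻¹ = (t * pw z j * t⁻¹) * (t * r * t⁻¹) by group, h,
    (commute_pw ht j).eq, mul_inv_cancel_right, ← mul_assoc, pw_mul hzz, add_comm]

section Shift

variable {g : G} (hg : Commute g z) (hg0 : act (D.ρ g) v0 = p4)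
include hg hg0

theorem shift_perp (w : V8) : B8 (act (D.ρ g)⁻¹ w) v0 = B8 w p4 := by
  rw [B8, ← act_polar (D.ρ g), act_act_inv, hg0]

theorem IsT.cz {b : V8} {t : G} (ht : IsT F g b t) : Commute t z := by
  obtain ⟨r, hr, -, rfl⟩ := ht
  exact (hg.mul_left (sig_of_mem hr).cz).mul_left hg.inv_left

theorem IsT.cs {b : V8} {t : G} (ht : IsT F g b t) (h4 : B8 b p4 = 0) (h1 : B8 b v0 = 0) :
    Commute t F.s := by
  obtain ⟨r, hr, ha, rfl⟩ := ht
  have hx : g⁻¹ * F.s * g ∈ Q := by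
    have := D.setup.conj_mem hg.inv_left F.pair.mem
    rwa [inv_inv] at this
  have hc : D.c (g⁻¹ * F.s * g) = act (D.ρ g)⁻¹ v0 := by
    have h := D.ρ_act hg.inv_left F.pair.mem
    rw [inv_inv] at h
    rw [← h, D.rho_inv hg, F.hs]
  have hp : B8 (act (D.ρ g)⁻¹ v0) v0 = 0 := by rw [shift_perp hg hg0]; exact (polar_comm _ _ _).trans B_p4
  have e := comm_RQ hr hx ((F.commute_s_iff hx).2 (by rw [hc]; exact hp))
  rw [hc, ha.polar_eq hp, show B8 (act (D.ρ g)⁻¹ b) (act (D.ρ g)⁻¹ v0) = 0 from by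
    rw [B8, act_polar]; exact h1, F.el_zero, mul_inv_eq_one, mul_inv_eq_iff_eq_mul] at e
  have := (Commute.conj_iff g).2 (show Commute r (g⁻¹ * F.s * g) from e)
  rwa [show g * (g⁻¹ * F.s * g) * g⁻¹ = F.s by group] at this

theorem IsT.acts {b : ℕ} {t : G} (ht : IsT F g (vc b) t) (hlt : b < 256) (hq : qm b = false)
    (h4 : orth b 4 = true) : Acts D t (eich 4 b) ∧ t * t = 1 := by
  obtain ⟨r, hr, ha, rfl⟩ := ht
  have hS := sig_of_mem hr
  have hqa : Q8 (act (D.ρ g)⁻¹ (vc b)) = 0 := by rw [act_Q]; exact Q_of (e := false) hlt hq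
  have h0 : B8 (act (D.ρ g)⁻¹ (vc b)) v0 = 0 := by
    rw [shift_perp hg hg0]; exact B_of_orth hlt (by norm_num) h4
  refine ⟨⟨(hg.mul_left hS.cz).mul_left hg.inv_left, fun k hk =>
    ⟨eich_lt (by norm_num) hlt hk, ?_⟩⟩, ?_⟩
  · rw [D.ρ_mul (hg.mul_left hS.cz) hg.inv_left, D.ρ_mul hg hS.cz, D.rho_inv hg, act_eq_add]
    conv_lhs => arg 2; arg 2; rw [← act_act_inv (D.ρ g) (vc k)]
    rw [nmap_conj, nmap_sig hr ha hqa h0, act_add, act_smul, act_smul, hg0, act_act_inv,
      shift_perp hg hg0, show B8 (act (D.ρ g)⁻¹ (vc b)) (act (D.ρ g)⁻¹ (vc k)) = B8 (vc b) (vc k) from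
        act_polar _ _ _, vc_eich (by norm_num) hlt hk]
  · rw [show g * r * g⁻¹ * (g * r * g⁻¹) = g * (r * r) * g⁻¹ by group, sq_sig hr ha h0, hqa, F.el_zero]
    group

theorem IsT.com {b a : V8} {t r : G} (ht : IsT F g b t) (hr : r ∈ fixIn F.R z) (ha : Eqv (F.av r) a)
    (hb4 : B8 b p4 = 0) (hb1 : B8 b v0 = 0) (ha0 : B8 a v0 = 0) (ha4 : B8 a p4 = 0) (hab : B8 a b = 0) :
    ∃ i, Com z t r i := by
  have htz := ht.cz hg hg0
  have hts := ht.cs hg hg0 hb4 hb1
  obtain ⟨r1, hr1, ha1, rfl⟩ := ht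
  have h1 := sig_of_mem hr1
  have hS := sig_of_mem hr
  obtain ⟨hmem, hEq⟩ := av_conj htz hts hr
  have hfix : act (D.ρ (g * r1 * g⁻¹)) (F.av r) = F.av r := by
    rw [act_eq_add, D.ρ_mul (hg.mul_left h1.cz) hg.inv_left, D.ρ_mul hg h1.cz, D.rho_inv hg]
    conv_lhs => arg 2; arg 2; rw [← act_act_inv (D.ρ g) (F.av r)]
    have hp : B8 (act (D.ρ g)⁻¹ (F.av r)) v0 = 0 := by
      rw [shift_perp hg hg0, ha.polar_eq B_p4]; exact ha4
    rw [nmap_conj, h1.nmap_eq hp, ha1.polar_eq hp, show B8 (act (D.ρ g)⁻¹ b) (act (D.ρ g)⁻¹ (F.av r)) =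
      B8 b (F.av r) from act_polar _ _ _, B8, polar_comm, show polar (⇑Q8) (F.av r) b = 0 from
        (ha.polar_eq hb1).trans hab, zero_smul, act_zero, add_zero]
  rw [hfix] at hEq
  obtain ⟨i, j, e⟩ := eq_el_mul hr hmem ((sig_of_mem hmem).rho_eq hS hEq)
  refine ⟨i, ?_⟩
  suffices hj : j = 0 by
    subst hj
    rw [Com, e, el, pw_zero, mul_one]
  -- the other side
  have hp : g * F.s * g⁻¹ ∈ Q := D.setup.conj_mem hg F.pair.mem
  have hcp : D.c (g * F.s * g⁻¹) = p4 := by rw [← D.ρ_act hg F.pair.mem, F.hs, hg0]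
  have hc := comm_RQ hr hp ((F.commute_s_iff hp).2 (by rw [hcp]; exact B_p4))
  rw [hcp, ha.polar_eq B_p4, ha4, F.el_zero, mul_inv_eq_one, mul_inv_eq_iff_eq_mul] at hc
  set r2 := g⁻¹ * r * g with hr2
  have h2z : Commute r2 z := (hg.inv_left.mul_left hS.cz).mul_left hg
  have h2s : Commute r2 F.s := by
    have := (Commute.conj_iff g⁻¹).2 (show Commute r (g * F.s * g⁻¹) from hc)
    rwa [inv_inv, show g⁻¹ * (g * F.s * g⁻¹) * g = F.s by group] at this
  have hR1 : r2 * r1 * r2⁻¹ * r1⁻¹ ∈ F.R :=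
    mul_mem (F.pair.right.conj_mem h2s (mem_fixIn.1 hr1).1) (inv_mem (mem_fixIn.1 hr1).1)
  have hinv : r * (g * r1 * g⁻¹) * r⁻¹ * (g * r1 * g⁻¹)⁻¹ = el z F.s i j := by
    rw [← F.el_inv i j, show el z F.s i j = g * r1 * g⁻¹ * r * (g * r1 * g⁻¹)⁻¹ * r⁻¹ by
      rw [e, mul_inv_cancel_right]]
    group
  have hconj : r2 * r1 * r2⁻¹ * r1⁻¹ = g⁻¹ * el z F.s i j * g := by rw [← hinv, hr2]; group
  rw [hconj] at hR1
  have hQ' : g⁻¹ * el z F.s i j * g ∈ Q := by
    have := D.setup.conj_mem hg.inv_left (F.el_mem i j).1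
    rwa [inv_inv] at this
  have hsm := F.inter_small hQ' hR1
  have hcc : D.c (g⁻¹ * el z F.s i j * g) = j • act (D.ρ g)⁻¹ v0 := by
    have h := D.ρ_act hg.inv_left (F.el_mem i j).1
    rw [inv_inv] at h
    rw [← h, D.rho_inv hg, F.c_el, act_smul]
  rw [hcc] at hsm
  rcases bit j with e' | e'
  · exact e'
  exfalso
  rw [e', one_smul] at hsm
  rcases hsm with e'' | e''
  · have := congrArg (act (D.ρ g)) e''
    rw [act_act_inv, act_zero] at this
    exact v0_ne this
  · have := congrArg (act (D.ρ g)) e''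
    rw [act_act_inv, zero_add, hg0] at this
    exact absurd (vc_inj (by norm_num) (by norm_num) this) (by norm_num)

end Shift

/-- Suitable singular parameters with trivial commutator. -/
theorem exists_commuting (F : Frame D) :
    ∃ a b r t, (a, b) ∈ [(2, 8), (2, 128), (32, 8), (32, 128), (174, 10), (174, 130)] ∧
      Acts D r (eich 1 a) ∧ Acts D t (eich 4 b) ∧ r * r = 1 ∧ t * t = 1 ∧ Commute t r := by
  obtain ⟨γ, hγ, hg0, -⟩ := exists_shift
  obtain ⟨g, hg, rfl⟩ := D.ρ_surj hγ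
  have hz := D.setup.z_ne_one
  have hzz := D.setup.z_mul_self
  have getR : ∀ a, a < 256 → orth a 1 = true → ∃ r ∈ fixIn F.R z, Eqv (F.av r) (vc a) :=
    fun a h h1 => F.exists_r (B_of_orth h (by norm_num) h1)
  have getT : ∀ b, b < 256 → orth b 4 = true → ∃ t, IsT F g (vc b) t := fun b h h4 => by
    obtain ⟨r, hr, he⟩ := F.exists_r (a := act (D.ρ g)⁻¹ (vc b))
      (by rw [shift_perp hg hg0]; exact B_of_orth h (by norm_num) h4)
    exact ⟨_, r, hr, he, rfl⟩
  have L8 : (8 : ℕ) < 256 := by norm_num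
  have L128 : (128 : ℕ) < 256 := by norm_num
  have L10 : (10 : ℕ) < 256 := by norm_num
  have L130 : (130 : ℕ) < 256 := by norm_num
  have L2 : (2 : ℕ) < 256 := by norm_num
  have L32 : (32 : ℕ) < 256 := by norm_num
  have L64 : (64 : ℕ) < 256 := by norm_num
  obtain ⟨r2, hr2, ha2⟩ := getR 2 L2 (by decide +kernel)
  obtain ⟨r32, hr32, ha32⟩ := getR 32 L32 (by decide +kernel)
  obtain ⟨r64, hr64, ha64⟩ := getR 64 L64 (by decide +kernel)
  obtain ⟨r174, hr174, ha174⟩ := getR 174 (by norm_num) (by decide +kernel)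
  obtain ⟨t8, ht8⟩ := getT 8 L8 (by decide +kernel)
  obtain ⟨t128, ht128⟩ := getT 128 L128 (by decide +kernel)
  obtain ⟨t10, ht10⟩ := getT 10 L10 (by decide +kernel)
  obtain ⟨t130, ht130⟩ := getT 130 L130 (by decide +kernel)
  have mk : ∀ {a b : ℕ} {r t : G}, r ∈ fixIn F.R z → Eqv (F.av r) (vc a) → IsT F g (vc b) t →
      a < 256 → b < 256 → qm a = false → qm b = false → orth b 4 = true → orth b 1 = true →
      orth a 1 = true → orth a 4 = true → orth a b = true →
      ∃ i, Com z t r i ∧ (i = 0 → Acts D r (eich 1 a) ∧ Acts D t (eich 4 b) ∧ r * r = 1 ∧ t * t = 1 ∧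
        Commute t r) := by
    intro a b r t hr ha ht la lb qa qb b4 b1 a1 a4 ab
    obtain ⟨i, hi⟩ := ht.com hg hg0 hr ha (B_of_orth lb (by norm_num) b4) (B_of_orth lb (by norm_num) b1)
      (B_of_orth la (by norm_num) a1) (B_of_orth la (by norm_num) a4) (B_of_orth la lb ab)
    refine ⟨i, hi, fun h0 => ?_⟩
    obtain ⟨h1, h2⟩ := ht.acts hg hg0 lb qb b4
    refine ⟨acts_sig hr la ha qa a1, h1, ?_, h2, ?_⟩
    · rw [sq_sig hr ha (B_of_orth la (by norm_num) a1), Q_of (e := false) la qa]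
      exact F.el_zero
    · rw [Com, h0, pw_zero, one_mul] at hi
      exact mul_inv_eq_iff_eq_mul.1 hi
  obtain ⟨i28, c28, o28⟩ := mk hr2 ha2 ht8 L2 L8 (by decide +kernel) (by decide +kernel) (by decide +kernel)
    (by decide +kernel) (by decide +kernel) (by decide +kernel) (by decide +kernel)
  obtain ⟨i2128, c2128, o2128⟩ := mk hr2 ha2 ht128 L2 L128 (by decide +kernel) (by decide +kernel)
    (by decide +kernel) (by decide +kernel) (by decide +kernel) (by decide +kernel) (by decide +kernel)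
  obtain ⟨i38, c38, o38⟩ := mk hr32 ha32 ht8 L32 L8 (by decide +kernel) (by decide +kernel)
    (by decide +kernel) (by decide +kernel) (by decide +kernel) (by decide +kernel) (by decide +kernel)
  obtain ⟨i3128, c3128, o3128⟩ := mk hr32 ha32 ht128 L32 L128 (by decide +kernel) (by decide +kernel)
    (by decide +kernel) (by decide +kernel) (by decide +kernel) (by decide +kernel) (by decide +kernel)
  obtain ⟨i710, c710, o710⟩ := mk hr174 ha174 ht10 (by norm_num) L10 (by decide +kernel) (by decide +kernel)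
    (by decide +kernel) (by decide +kernel) (by decide +kernel) (by decide +kernel) (by decide +kernel)
  obtain ⟨i730, c730, o730⟩ := mk hr174 ha174 ht130 (by norm_num) L130 (by decide +kernel) (by decide +kernel)
    (by decide +kernel) (by decide +kernel) (by decide +kernel) (by decide +kernel) (by decide +kernel)
  rcases bit i28 with e1 | e1
  · exact ⟨2, 8, r2, t8, by decide, o28 e1⟩
  rcases bit i2128 with e2 | e2
  · exact ⟨2, 128, r2, t128, by decide, o2128 e2⟩
  rcases bit i38 with e3 | e3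
  · exact ⟨32, 8, r32, t8, by decide, o38 e3⟩
  rcases bit i3128 with e4 | e4
  · exact ⟨32, 128, r32, t128, by decide, o3128 e4⟩
  rcases bit i710 with e5 | e5
  · exact ⟨174, 10, r174, t10, by decide, o710 e5⟩
  rcases bit i730 with e6 | e6
  · exact ⟨174, 130, r174, t130, by decide, o730 e6⟩
  exfalso
  subst e1 e2 e3 e4 e5 e6
  have hB : ∀ a b : ℕ, a < 256 → b < 256 → orth a b = true → B8 (vc a) (vc b) = 0 :=
    fun a b ha hb h => B_of_orth ha hb h
  -- the product `t8 * t128`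
  have T8 := ht8.acts hg hg0 L8 (by decide +kernel) (by decide +kernel)
  have T128 := ht128.acts hg hg0 L128 (by decide +kernel) (by decide +kernel)
  have s8 := ht8.cs hg hg0 (hB 8 4 L8 (by norm_num) (by decide +kernel)) (hB 8 1 L8 (by norm_num) (by decide +kernel))
  have s128 := ht128.cs hg hg0 (hB 128 4 L128 (by norm_num) (by decide +kernel))
    (hB 128 1 L128 (by norm_num) (by decide +kernel))
  set T := t8 * t128 with hT
  have hTz : Commute T z := T8.1.cz.mul_left T128.1.cz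
  have hTs : Commute T F.s := s8.mul_left s128
  have hzT : (1 : ZMod 2) + 1 = 0 := zadd2 1
  have C2 : Com z T r2 0 := hzT ▸ c28.mul_left hzz T8.1.cz c2128
  have C32 : Com z T r32 0 := hzT ▸ c38.mul_left hzz T8.1.cz c3128
  -- `T` agrees with `t10 * t130` up to elements commuting with `r174`
  have C174 : Com z T r174 0 := by
    have T10 := ht10.acts hg hg0 L10 (by decide +kernel) (by decide +kernel)
    have h0 : Com z (t10 * t130) r174 0 := hzT ▸ c710.mul_left hzz T10.1.cz c730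
    obtain ⟨p8, hp8, hv8, rfl⟩ := ht8
    obtain ⟨p128, hp128, hv128, rfl⟩ := ht128
    obtain ⟨p10, hp10, hv10, rfl⟩ := ht10
    obtain ⟨p130, hp130, hv130, rfl⟩ := ht130
    have hsum : act (D.ρ g)⁻¹ (vc 10) + act (D.ρ g)⁻¹ (vc 130) =
        act (D.ρ g)⁻¹ (vc 8) + act (D.ρ g)⁻¹ (vc 128) := by
      rw [← act_add, ← act_add, ← vc_xor, ← vc_xor]
      rfl
    have e1 := (av_mul hp10 hp130).trans (hv10.add hv130)
    have e2 := (av_mul hp8 hp128).trans (hv8.add hv128)
    rw [hsum] at e1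
    obtain ⟨k, l, hkl⟩ := eq_el_mul (mul_mem hp10 hp130) (mul_mem hp8 hp128)
      ((sig_of_mem (mul_mem hp8 hp128)).rho_eq (sig_of_mem (mul_mem hp10 hp130)) (e2.trans e1.symm))
    have hq : g * el z F.s k l * g⁻¹ ∈ Q := D.setup.conj_mem hg (F.el_mem k l).1
    have hcq : D.c (g * el z F.s k l * g⁻¹) = l • p4 := by
      rw [← D.ρ_act hg (F.el_mem k l).1, F.c_el, act_smul, hg0]
    have hc := comm_RQ hr174 hq ((F.commute_s_iff hq).2 (by
      rw [hcq, B8, polar_smul_left, show polar (⇑Q8) p4 v0 = 0 from B_p4, smul_zero]))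
    have hperp : B8 (l • p4) v0 = 0 := by
      rw [B8, polar_smul_left, show polar (⇑Q8) p4 v0 = 0 from B_p4, smul_zero]
    rw [hcq, ha174.polar_eq hperp, B8, polar_smul_right,
      show polar (⇑Q8) (vc 174) p4 = 0 from hB 174 4 (by norm_num) (by norm_num) (by decide +kernel),
      smul_zero, F.el_zero, mul_inv_eq_one, mul_inv_eq_iff_eq_mul] at hc
    have eT : T = g * el z F.s k l * g⁻¹ * (g * p10 * g⁻¹ * (g * p130 * g⁻¹)) := by
      rw [hT, show g * p8 * g⁻¹ * (g * p128 * g⁻¹) = g * (p8 * p128) * g⁻¹ by group, hkl]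
      group
    have hC0 : Com z (g * el z F.s k l * g⁻¹) r174 0 := by
      rw [Com, pw_zero, one_mul, show g * el z F.s k l * g⁻¹ * r174 = r174 * (g * el z F.s k l * g⁻¹) from
        hc.symm, mul_inv_cancel_right]
    rw [eT]
    exact zero_add (0 : ZMod 2) ▸ hC0.mul_left hzz (D.setup.z_commute hq).symm h0
  -- `T * T` and `r64`
  obtain ⟨hm64, hE64⟩ := av_conj hTz hTs hr64
  set R := r64⁻¹ * (T * r64 * T⁻¹) with hR
  have hRm : R ∈ fixIn F.R z := mul_mem (inv_mem hr64) hm64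
  have h64 := sig_of_mem hr64
  have hTv0 := F.rho_fix hTz hTs
  have hr64sq : r64 * r64 = 1 := by
    rw [sq_sig hr64 ha64 (hB 64 1 L64 (by norm_num) (by decide +kernel)),
      Q_of (e := false) L64 (by decide +kernel)]
    exact F.el_zero
  have hact : act (D.ρ T) (vc 64) = vc 204 := by
    rw [((T8.1.mul T128.1).rep 64 L64).2]
    congr 1
  have hRa : Eqv (F.av R) (vc 140) := by
    rw [hR, inv_eq_of_mul_eq_one_left hr64sq]
    refine ((av_mul hr64 hm64).trans (ha64.add (hE64.trans (ha64.map hTv0)))).trans ?_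
    rw [hact, ← vc_xor]
    exact Or.inl rfl
  have h140 : B8 (vc 140) v0 = 0 := hB 140 1 (by norm_num) (by norm_num) (by decide +kernel)
  have hRR : R * R = F.s := by
    rw [sq_sig hRm hRa h140, Q_of (e := true) (show (140 : ℕ) < 256 by norm_num) (by decide +kernel)]
    simp [el, pw_zero, pw_one]
  -- the value at `R`
  obtain ⟨hRa', hE'⟩ := (⟨rfl, hRa⟩ : R = R ∧ Eqv (F.av R) (vc 140))
  have e174 : Eqv (F.av r174) (F.av (r2 * r32 * R)) := by
    refine ha174.trans (Eqv.symm ((av_mul (mul_mem hr2 hr32) hRm).trans ?_))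
    refine ((((av_mul hr2 hr32).trans (ha2.add ha32)).add hRa)).trans ?_
    rw [← vc_xor, ← vc_xor]
    exact Or.inl rfl
  have CR : Com z T R 0 := by
    obtain ⟨k, l, hkl⟩ := eq_el_mul (mul_mem (mul_mem hr2 hr32) hRm) hr174
      ((sig_of_mem hr174).rho_eq (sig_of_mem (mul_mem (mul_mem hr2 hr32) hRm)) e174)
    have hRe : R = r32⁻¹ * r2⁻¹ * ((el z F.s k l)⁻¹ * r174) := by rw [hkl]; group
    have hinv : ∀ {r : G}, r ∈ fixIn F.R z → Com z T r 0 → Com z T r⁻¹ 0 := fun {r} hr h => by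
      rw [Com, pw_zero, one_mul] at h ⊢
      rw [show T * r⁻¹ * T⁻¹ = (T * r * T⁻¹)⁻¹ by group, h]
    have hel : Com z T (el z F.s k l)⁻¹ 0 := by
      rw [Com, pw_zero, one_mul, F.el_inv, (F.el_commute hTz hTs k l).eq, mul_inv_cancel_right]
    rw [hRe]
    simpa using ((hinv hr32 C32).mul_right hzz (sig_of_mem hr32).cz.inv_left (hinv hr2 C2)).mul_right hzz
      ((sig_of_mem hr32).cz.inv_left.mul_left (sig_of_mem hr2).cz.inv_left)
      (hel.mul_right hzz ((F.el_commute (Commute.refl z) F.czs k l).symm.inv_left) C174)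
  -- contradiction
  have hT2 : T * T = g * F.s * g⁻¹ := by
    obtain ⟨p8, hp8, hv8, rfl⟩ := ht8
    obtain ⟨p128, hp128, hv128, rfl⟩ := ht128
    rw [hT, show g * p8 * g⁻¹ * (g * p128 * g⁻¹) * (g * p8 * g⁻¹ * (g * p128 * g⁻¹)) =
      g * (p8 * p128 * (p8 * p128)) * g⁻¹ by group,
      sq_sig (mul_mem hp8 hp128) ((av_mul hp8 hp128).trans (hv8.add hv128)) (by
        rw [← act_add, shift_perp hg hg0, ← vc_xor]
        exact hB _ 4 (by decide) (by decide) (by decide +kernel)),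
      ← act_add, act_Q, ← vc_xor, Q_of (e := true) (by decide) (by decide +kernel)]
    simp [el, pw_zero, pw_one]
  have hp : g * F.s * g⁻¹ ∈ Q := D.setup.conj_mem hg F.pair.mem
  have hcp : D.c (g * F.s * g⁻¹) = p4 := by rw [← D.ρ_act hg F.pair.mem, F.hs, hg0]
  have hc := comm_RQ hr64 hp ((F.commute_s_iff hp).2 (by rw [hcp]; exact B_p4))
  rw [hcp, ha64.polar_eq B_p4, B_one L64 (by norm_num) (by decide +kernel)] at hc
  have hconj : T * T * r64 * (T * T)⁻¹ = el z F.s 1 1 * r64 := by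
    rw [hT2, ← inv_of_el hc, inv_mul_cancel_right]
  have hTR : T * R * T⁻¹ = R := by
    have h := CR
    rw [Com, pw_zero, one_mul] at h
    exact h
  have hfirst : T * r64 * T⁻¹ = r64 * R := by rw [hR]; group
  rw [show T * T * r64 * (T * T)⁻¹ = T * (T * r64 * T⁻¹) * T⁻¹ by group, hfirst,
    show T * (r64 * R) * T⁻¹ = (T * r64 * T⁻¹) * (T * R * T⁻¹) by group, hTR, hfirst, mul_assoc, hRR]
    at hconj
  have hel : el z F.s 1 1 = el z F.s 0 1 := by
    refine mul_right_cancel (b := r64) ?_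
    rw [← hconj]
    rw [el, pw_zero, one_mul, pw_one]
    exact h64.cs.eq
  exact one_ne_zero (F.el_inj hel).1

/-- The data with an involution over the standard form of rank four. -/
theorem exists_good (D : Co z Q) :
    ∃ D' : Co z Q, ∃ _ : Frame D', ∃ t : G, Acts D' t gs ∧ t * t = 1 := by
  obtain ⟨F⟩ := D.exists_frame
  obtain ⟨a, b, r, t, hab, hr, ht, hr2, ht2, hc⟩ := exists_commuting F
  obtain ⟨L, hL, hfix, hint⟩ : ∃ L : List ℕ, (∀ c ∈ L, qm c = true ∧ c < 256) ∧
      (wd L 1 = 1 ∧ wd L 16 = 16) ∧ ∀ k ∈ imgs8, wd L.reverse k < 256 ∧ wd L (wd L.reverse k) = k ∧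
        wd L (eich 1 a (eich 4 b (wd L.reverse k))) = gs k := by
    simp only [List.mem_cons, Prod.mk.injEq, List.not_mem_nil, or_false] at hab
    rcases hab with ⟨rfl, rfl⟩ | ⟨rfl, rfl⟩ | ⟨rfl, rfl⟩ | ⟨rfl, rfl⟩ | ⟨rfl, rfl⟩ | ⟨rfl, rfl⟩
    · exact ⟨[], by decide +kernel⟩
    · exact ⟨[136], by decide +kernel⟩
    · exact ⟨[34], by decide +kernel⟩
    · exact ⟨[136, 34], by decide +kernel⟩
    · exact ⟨[172, 136, 34], by decide +kernel⟩
    · exact ⟨[172, 34], by decide +kernel⟩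
  obtain ⟨σ, hσ⟩ := exists_word L hL
  haveI : (Cfsg.Omega (ZMod 2) ⇑Q8).Normal := by unfold Cfsg.Omega; infer_instance
  let D' : Co z Q :=
  { setup := D.setup
    card := D.card
    c := fun x => act σ (D.c x)
    coords :=
    { mul := fun x hx y hy => by rw [D.coords.mul x hx y hy, act_add]
      surj := fun v => by
        obtain ⟨x, hx, hx'⟩ := D.coords.surj (act σ⁻¹ v)
        exact ⟨x, hx, by rw [hx', act_act_inv]⟩
      ker := fun x hx => by
        rw [← D.coords.ker x hx]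
        exact ⟨fun h => act_injective σ (h.trans (act_zero σ).symm), fun h => by rw [h, act_zero]⟩
      sq := fun x hx => by rw [D.coords.sq x hx, act_Q]
      comm := fun x hx y hy => by rw [D.coords.comm x hx y hy, act_polar] }
    ρ := fun g => σ * D.ρ g * σ⁻¹
    ρ_mul := fun {g h} hg hh => by rw [D.ρ_mul hg hh]; group
    ρ_act := fun {g x} hg hx => by
      rw [act_mul, act_inv_act, act_mul, D.ρ_act hg hx]
    ρ_ker := fun {g} hg => by rw [conj_eq_one_iff, D.ρ_ker hg]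
    ρ_mem := fun {g} hg => Subgroup.Normal.conj_mem inferInstance _ (D.ρ_mem hg) σ
    ρ_surj := fun {γ} hγ => by
      obtain ⟨g, hg, e⟩ := D.ρ_surj (γ := σ⁻¹ * γ * σ) (by
        have := Subgroup.Normal.conj_mem inferInstance _ hγ σ⁻¹
        rwa [inv_inv] at this)
      exact ⟨g, hg, by rw [e]; group⟩
    nwc := D.nwc }
  have F' : Frame D' :=
  { s := F.s
    R := F.R
    y := F.y
    pair := F.pair
    hs := by
      show act σ (D.c F.s) = v0
      rw [F.hs, (hσ 1 (by norm_num)).2, hfix.1]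
    hy := F.hy
    hcy := by
      show act σ (D.c F.y) = yy
      rw [F.hcy, (hσ 16 (by norm_num)).2, hfix.2] }
  have hlin : ∀ k < 256, gs k = xl (imgs8.map gs) k ∧ gs k < 256 := fun k hk => by
    have h := List.all_eq_true.1 (List.all_eq_true.1 p6_linear 33 (List.mem_range.2 (by norm_num))) k
      (List.mem_range.2 hk)
    simpa [gs] using h
  refine ⟨D', F', r * t, ⟨hr.cz.mul_left ht.cz, Rep.of_basis hlin fun k hk => ?_⟩, ?_⟩
  · obtain ⟨hj, hback, he⟩ := hint k hk
    have hinv : act σ⁻¹ (vc k) = vc (wd L.reverse k) := by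
      conv_lhs => rw [← hback, ← (hσ _ hj).2, act_inv_act]
    show act (σ * D.ρ (r * t) * σ⁻¹) (vc k) = _
    rw [D.ρ_mul hr.cz ht.cz, act_mul, act_mul, hinv, act_mul, (ht.rep _ hj).2,
      (hr.rep _ (ht.rep _ hj).1).2, (hσ _ (hr.rep _ (ht.rep _ hj).1).1).2, ← he]
  · calc r * t * (r * t) = r * (t * r) * t := by group
      _ = (r * r) * (t * t) := by rw [hc.eq]; group
      _ = 1 := by rw [hr2, ht2, one_mul]

end Cfsg.Agent.CoGolay
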