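import Cfsg.Agent.LargeExt10.Golay.Crd
import Cfsg.Agent.LargeExt10.Golay.Checks2

/-!
# Elements normalising both subspaces and their action on the coordinates
-/

set_option autoImplicit false

namespace Cfsg.Agent.CoGolay

open QuadraticMap Cfsg.Agent.Reflections Cfsg.Agent.LargeExtraspecial Cfsg.Agent.LargeExt10
open Cfsg.Agent.LargeExt10.Co Cfsg.Agent.LargeExt10.Co.Frame

variable {G : Type*} [Group G] [Finite G] {z : G} {Q : Subgroup G} {D : Co z Q} {F : Frame D}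

theorem xl_zero : ∀ L : List ℕ, xl L 0 = 0
  | [] => rfl
  | b :: r => by simpa [xl, Cfsg.Agent.Golay.combAux] using xl_zero r

theorem xl_xor (L : List ℕ) (a b : ℕ) : xl L (a ^^^ b) = xl L a ^^^ xl L b :=
  Cfsg.Agent.Golay.combAux_xor L a b

/-- The eleven unit vectors. -/
def pows : List ℕ := [1, 2, 4, 8, 16, 32, 64, 128, 256, 512, 1024]

theorem pows_eq : pows = (List.range 11).map (2 ^ ·) := by decide +kernel

theorem cg_congr {f g : ℕ → G} (L : List ℕ) (n : ℕ) (h : ∀ b ∈ L, f b = g b) :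
    cg (L.map f) n = cg (L.map g) n := congrArg (cg · n) (List.map_congr_left h)

namespace Crd

variable (C : Crd F)

theorem psi_zero : C.psi 0 = 1 := by
  have := C.hom 0 0
  simp only [Nat.xor_self] at this
  exact right_eq_mul.1 this

theorem w_zero : C.w 0 = 1 := by
  have := C.w_hom 0 0
  simp only [Nat.xor_self] at this
  exact right_eq_mul.1 this

theorem conj_zero {g : G} : g * C.psi 0 * g⁻¹ = C.psi 0 := by rw [C.psi_zero]; group

/-- Conjugation is determined by the images of the unit vectors. -/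
theorem conj_ext {g : G} {f : ℕ → ℕ} (hf : ∀ a b, f (a ^^^ b) = f a ^^^ f b)
    (h : ∀ b < 11, g * C.psi (2 ^ b) * g⁻¹ = C.psi (f (2 ^ b))) :
    ∀ n < 2048, g * C.psi n * g⁻¹ = C.psi (f n) := by
  intro n hn
  have hp := C.hom
  have hf' : ∀ a b, C.psi (f (a ^^^ b)) = C.psi (f a) * C.psi (f b) := fun a b => by rw [hf, hp]
  have e1 := cg_map_hom (f := fun n => C.psi (f n)) hf' pows n
  have e2 := cg_map_hom hp pows n
  rw [show xl pows n = n from xl_pows hn] at e1 e2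
  rw [e1, e2, conj_cg, List.map_map]
  refine cg_congr _ _ fun b hb => ?_
  rw [pows_eq, List.mem_map] at hb
  obtain ⟨i, hi, rfl⟩ := hb
  exact h i (List.mem_range.1 hi)

theorem wk_lt {k n : ℕ} (hn : n < 2048) : wk k n < 2048 := by
  have h1 : ∀ i : Fin 4, ∀ m, m < 2048 → w1 i.1 m < 2048 := fun i m hm =>
    Nat.xor_lt_two_pow (n := 11) hm (xl_lt _ _ 11 (w1_bounds i).1)
  have step : ∀ (b : Bool) (i : Fin 4) (m : ℕ), m < 2048 → (if b then w1 i.1 m else m) < 2048 :=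
    fun b i m hm => by cases b <;> simp [hm, h1 i m hm]
  exact step (k.testBit 0) 0 _ (step (k.testBit 1) 1 _ (step (k.testBit 2) 2 _ (step (k.testBit 3) 3 _ hn)))

include C in
theorem wk_xor {k a b : ℕ} (hk : k < 16) (ha : a < 2048) (hb : b < 2048) :
    wk k (a ^^^ b) = wk k a ^^^ wk k b := by
  refine C.inj _ _ (wk_lt (Nat.xor_lt_two_pow (n := 11) ha hb))
    (Nat.xor_lt_two_pow (n := 11) (wk_lt ha) (wk_lt hb)) ?_
  rw [← C.conj_w k hk _ (Nat.xor_lt_two_pow (n := 11) ha hb), C.hom, C.hom, ← C.conj_w k hk a ha,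
    ← C.conj_w k hk b hb]
  group

theorem dd_low {k n : ℕ} (hk : k < 16) (hn : n < 2048) : dd k n < 32 := by
  have h1 : ∀ i : Fin 4, ∀ m, xl (dl i.1) m < 32 := fun i m =>
    xl_lt _ _ 5 ((show ∀ i : Fin 4, ∀ b ∈ dl i.1, b < 2 ^ 5 by decide +kernel) i)
  have step : ∀ (b : Bool) (i : Fin 4) (m : ℕ), n ^^^ m < 32 →
      n ^^^ (if b then w1 i.1 m else m) < 32 := fun b i m hm => by
    cases b
    · simpa using hm
    · simp only [if_true, w1]
      rw [← Nat.xor_assoc]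
      exact Nat.xor_lt_two_pow (n := 5) hm (h1 i m)
  exact step (k.testBit 0) 0 _ (step (k.testBit 1) 1 _ (step (k.testBit 2) 2 _ (step (k.testBit 3) 3 _
    (by simp))))

theorem psi_low_eq {x : G} (hx : x ∈ Q) {j : ℕ} (hj : j < 16) (hc : D.c x = vc j) :
    ∃ a < 2, x = C.psi (2 * j ^^^ a) := by
  obtain ⟨h1, h2⟩ := C.low (2 * j) (by omega)
  rw [Nat.mul_div_cancel_left j (by norm_num)] at h2
  rcases D.setup.zpowers_cases ((D.coords.eq_iff h1 hx).1 (h2.trans hc.symm)) with e | e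
  · exact ⟨0, by norm_num, by rw [Nat.xor_zero]; exact (inv_mul_eq_one.1 e).symm⟩
  · exact ⟨1, by norm_num, by rw [C.hom, C.psi_z]; exact inv_mul_eq_iff_eq_mul.1 e⟩

theorem w_eq {x : G} (hx : x ∈ Q) {k : ℕ} (hk : k < 16) (hc : D.c x = vc (16 * k)) :
    ∃ a : ZMod 2, x = pw z a * C.w k := by
  obtain ⟨h1, h2⟩ := C.w_mem k hk
  rcases D.setup.zpowers_cases ((D.coords.eq_iff h1 hx).1 (h2.trans hc.symm)) with e | e
  · exact ⟨0, by rw [pw_zero, one_mul]; exact (inv_mul_eq_one.1 e).symm⟩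
  · exact ⟨1, by rw [pw_one, (D.setup.z_commute h1).eq]; exact inv_mul_eq_iff_eq_mul.1 e⟩

theorem commute_w {j k : ℕ} : Commute (C.w j) (C.w k) := by
  show C.w j * C.w k = C.w k * C.w j
  rw [← C.w_hom, ← C.w_hom, Nat.xor_comm]

theorem conj_inj {g : G} {a b : ℕ} (ha : a < 2048) (hb : b < 2048)
    (h : g * C.psi a * g⁻¹ = g * C.psi b * g⁻¹) : a = b :=
  C.inj a b ha hb (mul_left_cancel (mul_right_cancel h))

theorem w_psi {j k : ℕ} (hk : k < 16) (hj : j < 2048) :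
    C.psi j * C.w k * (C.psi j)⁻¹ = C.psi (dd k j) * C.w k := by
  have h := C.conj_w k hk j hj
  rw [dd, C.hom, ← h]
  have h2 : (C.psi j)⁻¹ = C.psi j := inv_eq_of_mul_eq_one_left (by rw [← C.hom, Nat.xor_self, C.psi_zero])
  rw [show C.psi j * (C.w k * C.psi j * (C.w k)⁻¹) * C.w k = C.psi j * C.w k * C.psi j by group, h2]

end Crd

/-- Elements preserving the preimage of `U₀` normalise the subgroup. -/
theorem AG_conj {g a : G} {f : ℕ → ℕ} (hg : Acts D g f) (hf : ∀ k < 16, f k < 16) (ha : a ∈ AG D) :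
    g * a * g⁻¹ ∈ AG D := by
  refine mem_AG.2 fun x hx j hj hc => ?_
  have hinj : Function.Injective fun k : Fin 16 => (⟨f k.1, hf k.1 k.2⟩ : Fin 16) := fun a b e => by
    have e' : f a.1 = f b.1 := congrArg Fin.val e
    have h := (hg.rep a.1 (by omega)).2
    rw [e', ← (hg.rep b.1 (by omega)).2] at h
    exact Fin.ext (vc_inj (by omega) (by omega) (act_injective _ h))
  obtain ⟨k, hk⟩ := (Finite.injective_iff_surjective.1 hinj) ⟨j, hj⟩
  obtain ⟨x', hx', hc'⟩ := D.coords.surj (vc k.1)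
  obtain ⟨hm, hmc⟩ := hg.c_conj hx' (by omega) hc'
  have hkj : f k.1 = j := congrArg Fin.val hk
  rw [hkj] at hmc
  have hcom : Commute (g * a * g⁻¹) (g * x' * g⁻¹) :=
    (Commute.conj_iff g).2 (mem_AG.1 ha x' hx' k.1 k.2 hc')
  rcases D.setup.zpowers_cases ((D.coords.eq_iff hm hx).1 (hmc.trans hc.symm)) with e | e
  · rwa [inv_mul_eq_one.1 e] at hcom
  · rw [inv_mul_eq_iff_eq_mul.1 e]
    exact hcom.mul_right ((hg.cz.mul_left (AG_cz ha)).mul_left hg.cz.inv_left)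

/-- An element normalising the bases of both subspaces exactly. -/
structure IsLev (C : Crd F) (g : G) (f : ℕ → ℕ) : Prop where
  acts : Acts D g f
  pres : ∀ k < 16, f k < 16 ∧ ∃ k' < 16, f (16 * k) = 16 * k'
  hu : ∀ m < 32, gu f m < 32 ∧ g * C.psi m * g⁻¹ = C.psi (gu f m)
  hw : ∀ k < 16, g * C.w k * g⁻¹ = C.w (f (16 * k) / 16)

variable {C : Crd F}

theorem isLev_one : IsLev C 1 (fun k => k) := by
  refine ⟨⟨Commute.one_left z, by rw [D.rho_one]; exact rep_one⟩, fun k hk => ⟨hk, k, hk, rfl⟩,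
    fun m hm => ?_, fun k _ => by rw [Nat.mul_div_cancel_left k (by norm_num)]; group⟩
  have e : gu (fun k => k) m = m :=
    (show ∀ m : Fin 32, gu (fun k => k) m.1 = m.1 by decide +kernel) ⟨m, hm⟩
  exact ⟨by rw [e]; exact hm, by rw [e]; group⟩

theorem IsLev.mul {g g' : G} {f f' : ℕ → ℕ} (h : IsLev C g f) (h' : IsLev C g' f') :
    IsLev C (g * g') (f ∘ f') := by
  refine ⟨h.acts.mul h'.acts, fun k hk => ⟨(h.pres _ (h'.pres k hk).1).1, ?_⟩, fun m hm => ?_,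
    fun k hk => ?_⟩
  · obtain ⟨k', hk', e⟩ := (h'.pres k hk).2
    obtain ⟨k'', hk'', e'⟩ := (h.pres k' hk').2
    exact ⟨k'', hk'', by rw [Function.comp_apply, e, e']⟩
  · obtain ⟨h1, e1⟩ := h'.hu m hm
    obtain ⟨h2, e2⟩ := h.hu _ h1
    have e3 : gu f (gu f' m) = gu (f ∘ f') m := by
      have hlt := (h'.pres (m / 2 % 16) (Nat.mod_lt _ (by norm_num))).1
      simp only [gu, Function.comp_apply]
      have d : ∀ b y : ℕ, b < 2 → (b ^^^ 2 * y) % 2 = b ∧ (b ^^^ 2 * y) / 2 = y := fun b y hb => by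
        refine ⟨?_, ?_⟩
        · rw [show (2 : ℕ) = 2 ^ 1 from rfl, Nat.xor_mod_two_pow, pow_one, Nat.mul_mod_right, Nat.xor_zero,
            Nat.mod_eq_of_lt hb]
        · rw [Nat.xor_div_two, Nat.div_eq_of_lt hb, Nat.zero_xor, Nat.mul_div_cancel_left y (by norm_num)]
      obtain ⟨d1, d2⟩ := d (m % 2) (f' (m / 2 % 16)) (Nat.mod_lt _ (by norm_num))
      rw [d1, d2, Nat.mod_eq_of_lt hlt]
    refine ⟨e3 ▸ h2, ?_⟩
    rw [show g * g' * C.psi m * (g * g')⁻¹ = g * (g' * C.psi m * g'⁻¹) * g⁻¹ by group, e1, e2, e3]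
  · obtain ⟨k', hk', e⟩ := (h'.pres k hk).2
    rw [show g * g' * C.w k * (g * g')⁻¹ = g * (g' * C.w k * g'⁻¹) * g⁻¹ by group, h'.hw k hk, e,
      Nat.mul_div_cancel_left k' (by norm_num), h.hw k' hk', Function.comp_apply, e]

/-- Exact elements with the same map act alike. -/
theorem IsLev.conj_eq {g g' : G} {f f' : ℕ → ℕ} (h : IsLev C g f) (h' : IsLev C g' f')
    (e : ∀ b ∈ imgs8, f b = f' b) {n : ℕ} (hn : n < 2048) :
    g * C.psi n * g⁻¹ = g' * C.psi n * g'⁻¹ := by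
  have hρ : D.ρ g = D.ρ g' := h.acts.rep.ext h'.acts.rep e
  have hQ : g⁻¹ * g' ∈ Q := (D.ρ_ker (h.acts.cz.inv_left.mul_left h'.acts.cz)).1 (by
    rw [D.ρ_mul h.acts.cz.inv_left h'.acts.cz, D.rho_inv h.acts.cz, hρ, inv_mul_cancel])
  have heq : ∀ k < 256, f k = f' k := fun k hk =>
    vc_inj (h.acts.rep k hk).1 (h'.acts.rep k hk).1
      (by rw [← (h.acts.rep k hk).2, hρ, (h'.acts.rep k hk).2])
  have hcu : ∀ m < 32, Commute (g⁻¹ * g') (C.psi m) := fun m hm => by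
    refine mul_inv_eq_iff_eq_mul.1 ?_
    rw [show g⁻¹ * g' * C.psi m * (g⁻¹ * g')⁻¹ = g⁻¹ * (g' * C.psi m * g'⁻¹) * g by group,
      (h'.hu m hm).2, show gu f' m = gu f m by
        rw [gu, gu, heq _ (lt_trans (Nat.mod_lt _ (by norm_num)) (by norm_num))], ← (h.hu m hm).2]
    group
  have hcw : ∀ k < 16, Commute (g⁻¹ * g') (C.w k) := fun k hk => by
    refine mul_inv_eq_iff_eq_mul.1 ?_
    rw [show g⁻¹ * g' * C.w k * (g⁻¹ * g')⁻¹ = g⁻¹ * (g' * C.w k * g'⁻¹) * g by group,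
      h'.hw k hk, ← heq (16 * k) (by omega), ← h.hw k hk]
    group
  obtain ⟨c, hc, hcc⟩ := vc_surj (D.c (g⁻¹ * g'))
  have hA : g⁻¹ * g' ∈ AG D := mem_AG.2 fun x hx j hj hxc => by
    obtain ⟨a, ha, rfl⟩ := C.psi_low_eq hx hj hxc
    exact hcu _ (Nat.xor_lt_two_pow (n := 5) (by omega) (by omega))
  obtain ⟨j, hj, hjc⟩ := (mem_AG_Q hQ).1 hA
  have key : ∀ j : Fin 16, (∀ i : Fin 4, orth j.1 (16 * 2 ^ i.1) = true) → j.1 = 0 := by decide +kernel
  have hj0 : j = 0 := key ⟨j, hj⟩ fun i => by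
    have hi : 2 ^ i.1 < 16 := by fin_cases i <;> norm_num
    refine orth_true (by omega) (by omega) ?_
    rw [← hjc, ← (C.w_mem _ hi).2]
    exact (D.commute_iff hQ (C.w_mem _ hi).1).1 (hcw _ hi)
  subst hj0
  obtain ⟨a, ha, ea⟩ := C.psi_low_eq hQ (by norm_num) hjc
  have e1 : g' = g * C.psi (2 * 0 ^^^ a) := by rw [← ea, mul_inv_cancel_left]
  rw [e1, show g * C.psi (2 * 0 ^^^ a) * C.psi n * (g * C.psi (2 * 0 ^^^ a))⁻¹ =
    g * (C.psi (2 * 0 ^^^ a) * C.psi n * (C.psi (2 * 0 ^^^ a))⁻¹) * g⁻¹ by group, ← C.hom, Nat.xor_comm,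
    C.hom, mul_inv_cancel_right]

theorem bits4 : ∀ f : Fin 4 → ZMod 2, ∃ j : Fin 16, ∀ i : Fin 4,
    (if dd (2 ^ i.1) (2 * j.1) = 1 then (1 : ZMod 2) else 0) = f i ∧ dd (2 ^ i.1) (2 * j.1) < 2 := by
  decide +kernel

theorem bits4' : ∀ f : Fin 4 → Fin 2, ∃ k : Fin 16, ∀ i : Fin 4,
    wk k.1 (2 * 2 ^ i.1) = 2 * 2 ^ i.1 ^^^ (f i).1 := by decide +kernel

theorem wk_one : ∀ k : Fin 16, wk k.1 1 = 1 := by decide +kernel

theorem xl_le (L : List ℕ) (n : ℕ) (h : ∀ b ∈ L, b < 32) : xl L n < 32 := xl_lt L n 5 h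

/-- Every admissible word has an exact element. -/
theorem exists_lev (C : Crd F) {L : List ℕ} (h : levB L = true) : ∃ g, IsLev C g (wd L) := by
  simp only [levB, presB, Bool.and_eq_true, List.all_eq_true, List.mem_range, decide_eq_true_eq,
    beq_iff_eq] at h
  obtain ⟨⟨⟨⟨hL, hp⟩, hbasis⟩, hgu⟩, hgw⟩ := h
  obtain ⟨g0, hg0⟩ := exists_acts (D := D) L hL
  have hpres : ∀ k < 16, wd L k < 16 ∧ ∃ k' < 16, wd L (16 * k) = 16 * k' := fun k hk => by
    obtain ⟨⟨h1, h2⟩, h3⟩ := hp k hk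
    exact ⟨h1, wd L (16 * k) / 16, by omega, by omega⟩
  -- the complement
  have hW : ∀ i : Fin 4, ∃ a : ZMod 2,
      g0 * C.w ((preW L).getD i.1 0) * g0⁻¹ = pw z a * C.w (2 ^ i.1) := fun i => by
    obtain ⟨⟨-, h3⟩, h4⟩ := hbasis i.1 i.2
    obtain ⟨hq, hc⟩ := C.w_mem _ h3
    obtain ⟨hm, hmc⟩ := hg0.c_conj hq (show 16 * (preW L).getD i.1 0 < 256 by omega) hc
    rw [h4] at hmc
    exact C.w_eq hm (by fin_cases i <;> norm_num) hmc
  choose α hα using hW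
  obtain ⟨j, hj⟩ := bits4 α
  have hjlt : 2 * j.1 < 2048 := by omega
  set g1 := C.psi (2 * j.1) * g0 with hg1def
  have hg1 : Acts D g1 (wd L) :=
    ((acts_Q (C.low _ (by omega)).1).mul hg0).congr fun k _ => rfl
  have hW1 : ∀ i : Fin 4, g1 * C.w ((preW L).getD i.1 0) * g1⁻¹ = C.w (2 ^ i.1) := fun i => by
    have hi : 2 ^ i.1 < 16 := by fin_cases i <;> norm_num
    rw [hg1def, show C.psi (2 * j.1) * g0 * C.w ((preW L).getD i.1 0) * (C.psi (2 * j.1) * g0)⁻¹ =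
      C.psi (2 * j.1) * (g0 * C.w ((preW L).getD i.1 0) * g0⁻¹) * (C.psi (2 * j.1))⁻¹ by group, hα i,
      show C.psi (2 * j.1) * (pw z (α i) * C.w (2 ^ i.1)) * (C.psi (2 * j.1))⁻¹ =
        (C.psi (2 * j.1) * pw z (α i)) * C.w (2 ^ i.1) * (C.psi (2 * j.1))⁻¹ by group,
      (commute_pw (AG_cz (C.mem _ hjlt)) (α i)).eq, mul_assoc (pw z (α i)), mul_assoc (pw z (α i)),
      C.w_psi hi hjlt, ← mul_assoc]
    obtain ⟨e, hlt⟩ := hj i
    have hd : C.psi (dd (2 ^ i.1) (2 * j.1)) = pw z (α i) := by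
      rw [← e]
      rcases Nat.lt_succ_iff_lt_or_eq.1 hlt with h0 | h1
      · rw [Nat.lt_one_iff.1 h0]
        simp [C.psi_zero, pw_zero]
      · rw [h1]
        simp [C.psi_z, pw_one]
    rw [hd, pw_mul D.setup.z_mul_self, zadd2, pw_zero, one_mul]
  -- the subspace
  have hU : ∀ i : Fin 4, ∃ a : Fin 2,
      g1 * C.psi (2 * (preU L).getD i.1 0) * g1⁻¹ = C.psi (2 * 2 ^ i.1 ^^^ a.1) := fun i => by
    obtain ⟨⟨⟨h1, h2⟩, -⟩, -⟩ := hbasis i.1 i.2
    have hu : (preU L).getD i.1 0 = wd L.reverse (2 ^ i.1) := by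
      simp only [preU]; fin_cases i <;> rfl
    rw [hu]
    obtain ⟨hq, hc⟩ := C.low (2 * wd L.reverse (2 ^ i.1)) (by omega)
    rw [Nat.mul_div_cancel_left _ (by norm_num)] at hc
    obtain ⟨hm, hmc⟩ := hg1.c_conj hq (by omega) hc
    rw [h2] at hmc
    obtain ⟨a, ha, e⟩ := C.psi_low_eq hm (by fin_cases i <;> norm_num) hmc
    exact ⟨⟨a, ha⟩, e⟩
  choose β hβ using hU
  obtain ⟨k0, hk0⟩ := bits4' β
  set g := C.w k0.1 * g1 with hgdef
  have hg : Acts D g (wd L) :=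
    ((acts_Q (C.w_mem k0.1 k0.2).1).mul hg1).congr fun k _ => rfl
  have hWg : ∀ i : Fin 4, g * C.w ((preW L).getD i.1 0) * g⁻¹ = C.w (2 ^ i.1) := fun i => by
    rw [hgdef, show C.w k0.1 * g1 * C.w ((preW L).getD i.1 0) * (C.w k0.1 * g1)⁻¹ =
      C.w k0.1 * (g1 * C.w ((preW L).getD i.1 0) * g1⁻¹) * (C.w k0.1)⁻¹ by group, hW1 i,
      C.commute_w.eq, mul_inv_cancel_right]
  have hUg : ∀ i : Fin 4, g * C.psi (2 * (preU L).getD i.1 0) * g⁻¹ = C.psi (2 * 2 ^ i.1) := fun i => by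
    have hlt : 2 * 2 ^ i.1 ^^^ (β i).1 < 2048 := Nat.xor_lt_two_pow (n := 11)
      (by fin_cases i <;> norm_num) (by omega)
    rw [hgdef, show C.w k0.1 * g1 * C.psi (2 * (preU L).getD i.1 0) * (C.w k0.1 * g1)⁻¹ =
      C.w k0.1 * (g1 * C.psi (2 * (preU L).getD i.1 0) * g1⁻¹) * (C.w k0.1)⁻¹ by group, hβ i,
      C.conj_w k0.1 k0.2 _ hlt, C.wk_xor k0.2 (by fin_cases i <;> norm_num) (by omega), hk0 i]
    have hb : wk k0.1 (β i).1 = (β i).1 := by
      obtain ⟨b, hb⟩ := β i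
      rcases Nat.lt_succ_iff_lt_or_eq.1 hb with h0 | h1
      · obtain rfl : b = 0 := Nat.lt_one_iff.1 h0
        exact (show ∀ k : Fin 16, wk k.1 0 = 0 by decide +kernel) k0
      · obtain rfl := h1
        exact wk_one k0
    rw [hb, Nat.xor_assoc, Nat.xor_self, Nat.xor_zero]
  refine ⟨g, hg, hpres, fun m hm => ?_, fun k hk => ?_⟩
  · obtain ⟨e, hlt⟩ := hgu m hm
    refine ⟨hlt, ?_⟩
    set n := gu (wd L) m with hn
    conv_lhs => rw [← e, cg_map_hom C.hom, conj_cg, List.map_map]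
    have hxl : xl [1, 2, 4, 8, 16] n = n :=
      (show ∀ n : Fin 32, xl [1, 2, 4, 8, 16] n.1 = n.1 by decide +kernel) ⟨n, hlt⟩
    conv_rhs => rw [← hxl, cg_map_hom C.hom]
    have h1 : g * C.psi 1 * g⁻¹ = C.psi 1 := by rw [C.psi_z, hg.cz.eq, mul_inv_cancel_right]
    congr 1
    simp only [preU, List.range_succ_eq_map, List.range_zero, List.map_cons, List.map_nil, List.map_map,
      Function.comp]
    exact List.cons_eq_cons.2 ⟨h1, List.cons_eq_cons.2 ⟨hUg 0, List.cons_eq_cons.2 ⟨hUg 1,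
      List.cons_eq_cons.2 ⟨hUg 2, List.cons_eq_cons.2 ⟨hUg 3, rfl⟩⟩⟩⟩⟩
  · conv_lhs => rw [← hgw k hk, cg_map_hom C.w_hom, conj_cg, List.map_map]
    have hklt : wd L (16 * k) / 16 < 16 := by
      obtain ⟨k', hk', e⟩ := (hpres k hk).2
      omega
    have hxl : xl [1, 2, 4, 8] (wd L (16 * k) / 16) = wd L (16 * k) / 16 :=
      (show ∀ n : Fin 16, xl [1, 2, 4, 8] n.1 = n.1 by decide +kernel) ⟨_, hklt⟩
    conv_rhs => rw [← hxl, cg_map_hom C.w_hom]
    congr 1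
    simp only [preW, List.range_succ_eq_map, List.range_zero, List.map_cons, List.map_nil, List.map_map,
      Function.comp]
    exact List.cons_eq_cons.2 ⟨hWg 0, List.cons_eq_cons.2 ⟨hWg 1, List.cons_eq_cons.2 ⟨hWg 2,
      List.cons_eq_cons.2 ⟨hWg 3, rfl⟩⟩⟩⟩

theorem bits6 : ∀ f : Fin 6 → Fin 2, ∃ e : Fin 64, ∀ t : Fin 6,
    (if e.1.testBit t.1 then 1 else 0) = (f t).1 := by decide +kernel

/-- The action of an exact element, up to a change of the first coordinate. -/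
theorem exists_eta {g : G} {f : ℕ → ℕ} (h : IsLev C g f) {cols : List ℕ} (hc : colsOK f cols = true) :
    ∃ e < 64, ∀ n < 2048, g * C.psi n * g⁻¹ = C.psi (xl (withEta cols e) n) := by
  simp only [colsOK, Bool.and_eq_true, List.all_eq_true, List.mem_range, decide_eq_true_eq,
    beq_iff_eq, Bool.or_eq_true, List.any_eq_true, bne_iff_ne, ne_eq] at hc
  obtain ⟨⟨⟨⟨hlen, hlt⟩, hdd⟩, hlow⟩, hsep⟩ := hc
  have hcb : ∀ b < 11, cols.getD b 0 < 2048 := fun b hb => by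
    rw [List.getD_eq_getElem _ _ (by omega)]
    exact hlt _ (List.getElem_mem _)
  have hrow : ∀ b : Fin 11, ∃ a : Fin 2,
      g * C.psi (2 ^ b.1) * g⁻¹ = C.psi (cols.getD b.1 0 ^^^ a.1) ∧ (b.1 < 5 → a.1 = 0) := by
    intro b
    have hb : 2 ^ b.1 < 2048 := Nat.pow_lt_pow_right (a := 2) (by norm_num) b.2
    by_cases h5 : b.1 < 5
    · refine ⟨0, ?_, fun _ => rfl⟩
      have h32 : 2 ^ b.1 < 32 := Nat.pow_lt_pow_right (a := 2) (by norm_num) h5
      rw [hlow b.1 h5]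
      simpa using (h.hu _ h32).2
    obtain ⟨n', hn', e⟩ := C.surj _ (AG_conj h.acts (fun k hk => (h.pres k hk).1) (C.mem _ hb))
    have hd : n' ^^^ cols.getD b.1 0 < 2048 := Nat.xor_lt_two_pow (n := 11) hn' (hcb _ b.2)
    rcases hsep _ hd with h2 | ⟨j, hj, hne⟩
    · refine ⟨⟨n' ^^^ cols.getD b.1 0, h2⟩, ?_, fun h' => absurd h' h5⟩
      rw [← e]
      congr 1
      show n' = cols.getD b.1 0 ^^^ (n' ^^^ cols.getD b.1 0)
      rw [Nat.xor_comm n', ← Nat.xor_assoc, Nat.xor_self, Nat.zero_xor]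
    exfalso
    apply hne
    have hj16 : 2 ^ j < 16 := Nat.pow_lt_pow_right (a := 2) (n := 4) (by norm_num) hj
    obtain ⟨k', hk', ek⟩ := (h.pres (2 ^ j) hj16).2
    have hwi : wimg f j = k' := by rw [wimg, ek, Nat.mul_div_cancel_left k' (by norm_num)]
    rw [hwi]
    have hh := hdd b.1 b.2 j hj
    rw [hwi] at hh
    have hl := Crd.dd_low (n := 2 ^ b.1) hj16 hb
    obtain ⟨hgl, hge⟩ := h.hu _ hl
    have h1 : C.psi (wk k' n') = C.psi (n' ^^^ gu f (dd (2 ^ j) (2 ^ b.1))) := by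
      have hwc := h.hw (2 ^ j) hj16
      rw [ek, Nat.mul_div_cancel_left k' (by norm_num)] at hwc
      rw [← C.conj_w k' hk' n' hn', C.hom, e, ← hge, ← hwc,
        show g * C.w (2 ^ j) * g⁻¹ * (g * C.psi (2 ^ b.1) * g⁻¹) * (g * C.w (2 ^ j) * g⁻¹)⁻¹ =
          g * (C.w (2 ^ j) * C.psi (2 ^ b.1) * (C.w (2 ^ j))⁻¹) * g⁻¹ by group,
        C.conj_w _ hj16 _ hb, show wk (2 ^ j) (2 ^ b.1) = 2 ^ b.1 ^^^ dd (2 ^ j) (2 ^ b.1) by
          rw [dd, ← Nat.xor_assoc, Nat.xor_self, Nat.zero_xor], C.hom]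
      group
    have h2 := C.inj _ _ (Crd.wk_lt hn') (Nat.xor_lt_two_pow (n := 11) hn' (by omega)) h1
    have h3 : dd k' n' = gu f (dd (2 ^ j) (2 ^ b.1)) := by
      rw [dd, h2, ← Nat.xor_assoc, Nat.xor_self, Nat.zero_xor]
    rw [dd, C.wk_xor hk' hn' (hcb _ b.2),
      show n' ^^^ cols.getD b.1 0 ^^^ (wk k' n' ^^^ wk k' (cols.getD b.1 0)) =
        dd k' n' ^^^ dd k' (cols.getD b.1 0) by rw [dd, dd]; ac_rfl, h3, ← hh, Nat.xor_self]
  choose a ha ha5 using hrow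
  obtain ⟨e, he⟩ := bits6 fun t => a ⟨5 + t.1, by omega⟩
  refine ⟨e.1, e.2, C.conj_ext (xl_xor _) fun b hb => ?_⟩
  rw [ha ⟨b, hb⟩]
  congr 1
  have hg : xl (withEta cols e.1) (2 ^ b) = (withEta cols e.1).getD b 0 := by
    have : ∀ (L : List ℕ) (b : ℕ), xl L (2 ^ b) = L.getD b 0 := by
      intro L
      induction L with
      | nil => intro b; simp [xl, Cfsg.Agent.Golay.combAux]
      | cons x r ih =>
        intro b
        cases b with
        | zero => simp [xl, Cfsg.Agent.Golay.combAux, show Cfsg.Agent.Golay.combAux r 0 = 0 from xl_zero r]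
        | succ b =>
          simp only [xl, Cfsg.Agent.Golay.combAux, pow_succ, List.getD_cons_succ] at ih ⊢
          rw [Nat.mul_div_cancel _ (by norm_num : 0 < 2), ih]
          simp [Nat.testBit_zero]
    exact this _ b
  rw [hg, show (withEta cols e.1).getD b 0 = cols.getD b 0 ^^^
    (if decide (5 ≤ b) && e.1.testBit (b - 5) then 1 else 0) by
      simp [withEta, List.getElem?_map, List.getElem?_range hb]]
  congr 1
  by_cases h5 : b < 5
  · rw [ha5 ⟨b, hb⟩ h5, if_neg]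
    simp [Nat.not_le.2 h5]
  · have := he ⟨b - 5, by omega⟩
    simp only [show 5 + (b - 5) = b by omega] at this
    rw [← this]
    simp [Nat.le_of_not_lt h5]

end Cfsg.Agent.CoGolay
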