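import Cfsg.Agent.LargeExt10.Golay.Model
import Cfsg.Agent.LargeExt10.Golay.Checks3

/-!
# The normaliser and an element of it moving `z`
-/

set_option autoImplicit false

namespace Cfsg.Agent.CoGolay

open QuadraticMap Cfsg.Agent.Reflections Cfsg.Agent.LargeExtraspecial Cfsg.Agent.LargeExt10
open Cfsg.Agent.LargeExt10.Co Cfsg.Agent.LargeExt10.Co.Frame
open Cfsg.Agent.OrthCohom (bilB)

variable {G : Type*} [Group G] [Finite G] {z : G} {Q : Subgroup G} {D : Co z Q} {F : Frame D}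

/-- The normaliser. -/
abbrev NG (D : Co z Q) : Subgroup G := Subgroup.normalizer (AG D : Set G)

theorem mem_NG {g : G} (h : ∀ a ∈ AG D, g * a * g⁻¹ ∈ AG D) : g ∈ NG D := by
  refine Subgroup.mem_normalizer_iff.2 fun a => ⟨h a, fun ha => ?_⟩
  have hinj : Function.Injective fun x : AG D => (⟨g * x * g⁻¹, h x x.2⟩ : AG D) := fun x y e =>
    Subtype.ext (mul_left_cancel (mul_right_cancel (congrArg Subtype.val e)))
  obtain ⟨⟨x, hx⟩, e⟩ := (Finite.injective_iff_surjective.1 hinj) ⟨g * a * g⁻¹, ha⟩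
  rw [← mul_left_cancel (mul_right_cancel (congrArg Subtype.val e : g * x * g⁻¹ = g * a * g⁻¹))]
  exact hx

theorem acts_NG {g : G} {f : ℕ → ℕ} (hg : Acts D g f) (hf : ∀ k < 16, f k < 16) : g ∈ NG D :=
  mem_NG fun _ ha => AG_conj hg hf ha

theorem Q_le_NG {x : G} (hx : x ∈ Q) : x ∈ NG D := acts_NG (acts_Q hx) fun _ hk => hk

theorem z_mem_AG : z ∈ AG D :=
  (mem_AG_Q D.setup.z_mem).2 ⟨0, by norm_num, by rw [D.c_z, vc_zero]⟩

theorem cent_AG : Subgroup.centralizer (AG D : Set G) ≤ AG D := fun g hg => mem_AG.2 fun x hx j hj hc =>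
  ((Subgroup.mem_centralizer_iff.1 hg) x ((mem_AG_Q hx).2 ⟨j, hj, hc⟩)).symm

theorem low_orth : ∀ j : Fin 16, orth j.1 1 = true ∧ qm j.1 = false := by decide +kernel

theorem R_mem_AG {r : G} (hr : r ∈ fixIn F.R z) {a : ℕ} (ha : a < 16) (hav : Eqv (F.av r) (vc a)) :
    r ∈ AG D := by
  refine mem_AG.2 fun x hx j hj hc => ?_
  have hxs := commute_s_of_low F hx (by omega) (low_orth ⟨j, hj⟩).1 hc
  have e := comm_RQ hr hx hxs
  rw [hc, hav.polar_eq (B_of_orth (by omega) (by norm_num) (low_orth ⟨j, hj⟩).1),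
    B_of_orth (show a < 256 by omega) (by omega)
      ((show ∀ a j : Fin 16, orth a.1 j.1 = true by decide +kernel) ⟨a, ha⟩ ⟨j, hj⟩),
    F.el_zero, mul_inv_eq_one, mul_inv_eq_iff_eq_mul] at e
  exact e

theorem Crd.psi_three (C : Crd F) : C.psi 3 = el z F.s 1 1 := by
  rw [show (3 : ℕ) = 1 ^^^ 2 from rfl, C.hom, C.psi_z, C.psi_s, el, pw_one, pw_one]

/-- The coordinates of an element of `C_R(z)` under conjugation by `W`. -/
theorem R_code (C : Crd F) {a n : ℕ} (ha : a < 256) (hn : n < 2048) (hr : C.psi n ∈ fixIn F.R z)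
    (hav : Eqv (F.av (C.psi n)) (vc a)) {k : ℕ} (hk : k < 16) (ho : orth (16 * k) 1 = true) :
    wk k n = n ^^^ (if bilB qm a (16 * k) then 3 else 0) := by
  obtain ⟨hw, hwc⟩ := C.w_mem k hk
  have hws := commute_s_of_low F hw (by omega) ho hwc
  have e := inv_of_el (comm_RQ hr hw hws)
  rw [hwc, hav.polar_eq (B_of_orth (by omega) (by norm_num) ho), B_bil ha (by omega),
    mul_inv_eq_iff_eq_mul, C.conj_w k hk n hn] at e
  refine C.inj _ _ (Crd.wk_lt hn) (Nat.xor_lt_two_pow (n := 11) hn (by split <;> norm_num)) ?_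
  rw [e, Nat.xor_comm, C.hom]
  split
  · rw [C.psi_three]
  · rw [F.el_zero, C.psi_zero]

theorem bits3 : ∀ f : Fin 3 → ZMod 2, ∃ k : Fin 16, orth (16 * k.1) 1 = true ∧ qm (16 * k.1) = false ∧
    ∀ i : Fin 3, (if bilB qm (16 * k.1) (2 ^ (i.1 + 1)) then (1 : ZMod 2) else 0) = f i := by
  decide +kernel

theorem eich_low : ∀ (k : Fin 16) (i : Fin 3), orth (16 * k.1) 1 = true →
    eich 1 (16 * k.1) (2 ^ (i.1 + 1)) =
      2 ^ (i.1 + 1) ^^^ (if bilB qm (16 * k.1) (2 ^ (i.1 + 1)) then 1 else 0) := by decide +kernel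

/-- The centraliser of the part in `R` is the subgroup. -/
theorem cent_R_le (C : Crd F) :
    Subgroup.centralizer ((AG D ⊓ F.R : Subgroup G) : Set G) ≤ AG D := by
  intro g hg
  obtain ⟨hel, hcode⟩ : (∀ a ∈ AG D, ∀ b ∈ AG D, Commute a b) ∧ True := ⟨fun a ha b hb => by
    obtain ⟨m, -, rfl⟩ := C.surj a ha
    obtain ⟨n, -, rfl⟩ := C.surj b hb
    show C.psi m * C.psi n = C.psi n * C.psi m
    rw [← C.hom, ← C.hom, Nat.xor_comm], trivial⟩
  have hcom : ∀ x ∈ AG D, x ∈ F.R → Commute g x := fun x hx hxR =>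
    ((Subgroup.mem_centralizer_iff.1 hg) x ⟨hx, hxR⟩).symm
  have hgz : Commute g z := hcom z z_mem_AG F.pair.z_mem_right
  have hsA : F.s ∈ AG D := C.psi_s ▸ C.mem 2 (by norm_num)
  have hgs : Commute g F.s := hcom _ hsA F.pair.right.z_mem
  have hr : ∀ i : Fin 3, ∃ r ∈ fixIn F.R z, Eqv (F.av r) (vc (2 ^ (i.1 + 1))) := fun i =>
    F.exists_r (B_of_orth (by fin_cases i <;> norm_num) (by norm_num)
      ((show ∀ i : Fin 3, orth (2 ^ (i.1 + 1)) 1 = true by decide +kernel) i))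
  choose r hrm hrav using hr
  have hrA : ∀ i, r i ∈ AG D := fun i => R_mem_AG (hrm i) (by fin_cases i <;> norm_num) (hrav i)
  have hgr : ∀ i, Commute g (r i) := fun i => hcom _ (hrA i) (mem_fixIn.1 (hrm i)).1
  have hv0 := F.rho_fix hgz hgs
  have hmv : ∀ i : Fin 3, ∃ φ : ZMod 2,
      act (D.ρ g) (vc (2 ^ (i.1 + 1))) = vc (2 ^ (i.1 + 1)) + φ • v0 := fun i => by
    have h := (av_conj hgz hgs (hrm i)).2
    rw [show g * r i * g⁻¹ = r i from mul_inv_eq_iff_eq_mul.2 (hgr i)] at h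
    rcases ((hrav i).symm.trans (h.trans ((hrav i).map hv0))) with e | e
    · exact ⟨0, by rw [zero_smul, add_zero]; exact e.symm⟩
    · refine ⟨1, ?_⟩
      rw [one_smul]
      conv_rhs => rw [e]
      rw [add_assoc, Forms59.Inv.add_self_vec, add_zero]
  choose φ hφ using hmv
  obtain ⟨k, hk1, hkq, hkφ⟩ := bits3 φ
  have hklt : 16 * k.1 < 256 := by omega
  obtain ⟨r', hr', hav'⟩ := F.exists_r (B_of_orth hklt (by norm_num) hk1)
  have hA' : Acts D r' (eich 1 (16 * k.1)) := acts_sig hr' hklt hav' hkq hk1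
  have hS' := sig_of_mem hr'
  have hr2 : r' * r' = 1 := by
    rw [sq_sig hr' hav' (B_of_orth hklt (by norm_num) hk1), Q_of (e := false) hklt hkq]
    exact F.el_zero
  -- the product fixes the subspace
  have hbase : ∀ b ∈ [1, 2, 4, 8], act (D.ρ (g * r')) (vc b) = vc b := by
    intro b hb
    rw [D.ρ_mul hgz hS'.cz, act_mul]
    have h1 : ∀ i : Fin 3, act (D.ρ g) (act (D.ρ r') (vc (2 ^ (i.1 + 1)))) = vc (2 ^ (i.1 + 1)) := fun i => by
      rw [(hA'.rep _ (show 2 ^ (i.1 + 1) < 256 by fin_cases i <;> norm_num)).2, eich_low k i hk1, vc_xor,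
        act_add, hφ i, ← hkφ i]
      split
      · rw [one_smul, show vc 1 = v0 from rfl, hv0, add_assoc, Forms59.Inv.add_self_vec, add_zero]
      · rw [zero_smul, add_zero, vc_zero, act_zero, add_zero]
    simp only [List.mem_cons, List.not_mem_nil, or_false] at hb
    rcases hb with rfl | rfl | rfl | rfl
    · rw [F.rho_fix hS'.cz hS'.cs]; exact hv0
    exacts [h1 0, h1 1, h1 2]
  obtain ⟨p, hp, hap⟩ := fix_acts (hgz.mul_left hS'.cz) fun j hj => by
    have e := vc_xl [1, 2, 4, 8] j (D.ρ (g * r')) (fun k => k) hbase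
    have hx : xl [1, 2, 4, 8] j = j :=
      (show ∀ j : Fin 16, xl [1, 2, 4, 8] j.1 = j.1 by decide +kernel) ⟨j, hj⟩
    rwa [List.map_id', hx] at e
  have h32 : 32 * p < 2048 := by omega
  have haa := C.acts _ h32
  rw [Nat.mul_div_cancel_left p (by norm_num)] at haa
  set q := (C.psi (32 * p))⁻¹ * (g * r') with hq
  have hqQ : q ∈ Q := haa.quot hap
  have haA := C.mem _ h32
  have hg' : g = C.psi (32 * p) * q * r' := by
    rw [hq, show C.psi (32 * p) * ((C.psi (32 * p))⁻¹ * (g * r')) * r' = g * (r' * r') by group, hr2, mul_one]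
  have hqs : Commute q F.s := ((hel _ haA _ hsA).inv_left).mul_left (hgs.mul_left hS'.cs)
  have hqp := (F.commute_s_iff hqQ).1 hqs
  have hzero : ∀ i : Fin 3, φ i = 0 ∧ B8 (vc (2 ^ (i.1 + 1))) (D.c q) = 0 := by
    intro i
    have hcr : Commute (q * r') (r i) := by
      have : Commute ((C.psi (32 * p))⁻¹ * g) (r i) := ((hel _ haA _ (hrA i)).inv_left).mul_left (hgr i)
      rwa [hg', show (C.psi (32 * p))⁻¹ * (C.psi (32 * p) * q * r') = q * r' by group] at this
    have e1 := (comm_R hr' (hrm i)).1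
    have e2 := inv_of_el (comm_RQ (hrm i) hqQ hqs)
    have hB : B8 (F.av r') (F.av (r i)) = φ i := by
      rw [hav'.polar_eq (sig_of_mem (hrm i)).av_perp, B8, polar_comm, ← B8,
        (hrav i).polar_eq (B_of_orth hklt (by norm_num) hk1), B8, polar_comm, ← B8,
        B_bil hklt (by fin_cases i <;> norm_num), hkφ i]
    have hB' : B8 (F.av (r i)) (D.c q) = B8 (vc (2 ^ (i.1 + 1))) (D.c q) := (hrav i).polar_eq hqp
    rw [hB, mul_inv_eq_iff_eq_mul] at e1
    rw [hB', mul_inv_eq_iff_eq_mul] at e2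
    set β := B8 (vc (2 ^ (i.1 + 1))) (D.c q)
    have e3 : el z F.s 0 (φ i) * el z F.s β β * r i = r i := by
      conv_rhs => rw [← mul_inv_eq_iff_eq_mul.2 hcr.eq]
      rw [show q * r' * r i * (q * r')⁻¹ = q * (r' * r i * r'⁻¹) * q⁻¹ by group, e1,
        show q * (el z F.s 0 (φ i) * r i) * q⁻¹ = q * el z F.s 0 (φ i) * q⁻¹ * (q * r i * q⁻¹) by group,
        (F.el_commute (D.setup.z_commute hqQ).symm hqs 0 (φ i)).eq, mul_inv_cancel_right, e2, mul_assoc]
    rw [F.el_mul, zero_add, mul_eq_right, ← F.el_zero] at e3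
    obtain ⟨hb, hs⟩ := F.el_inj e3
    rw [hb, add_zero] at hs
    exact ⟨hs, hb⟩
  have hk0 : k.1 = 0 := (show ∀ k : Fin 16, orth (16 * k.1) 1 = true →
      (∀ i : Fin 3, (if bilB qm (16 * k.1) (2 ^ (i.1 + 1)) then (1 : ZMod 2) else 0) = 0) → k.1 = 0 by
    decide +kernel) k hk1 fun i => (hkφ i).trans (hzero i).1
  have hr'A : r' ∈ AG D := R_mem_AG hr' (show (0 : ℕ) < 16 by norm_num) (by rwa [hk0, Nat.mul_zero] at hav')
  obtain ⟨c, hc, hcq⟩ := vc_surj (D.c q)
  have hclow : c < 16 := by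
    have h := List.all_eq_true.1 u0_basis c (List.mem_range.2 hc)
    have ho : ∀ b, b < 256 → B8 (vc b) (D.c q) = 0 → orth c b = true := fun b hb h => by
      refine orth_true hc hb ?_
      rw [hcq, B8, polar_comm]; exact h
    have h1 : orth c 1 = true := orth_true hc (by norm_num) (by rw [hcq]; exact hqp)
    rw [h1, ho 2 (by norm_num) (hzero 0).2, ho 4 (by norm_num) (hzero 1).2,
      ho 8 (by norm_num) (hzero 2).2] at h
    simpa using h
  rw [hg']
  exact mul_mem (mul_mem haA ((mem_AG_Q hqQ).2 ⟨c, hclow, hcq.symm⟩)) hr'A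

/-- An element of the normaliser moving `z` to `z s` that does not normalise the preimage of `U₀`. -/
theorem exists_h (C : Crd F) : ∃ h ∈ NG D, h * z * h⁻¹ = z * F.s ∧
    F.W = Q.map (MulAut.conj h).toMonoidHom := by
  obtain ⟨t, ht, htz, hW⟩ := F.exists_w_frame
  have hsA : F.s ∈ AG D := C.psi_s ▸ C.mem 2 (by norm_num)
  refine ⟨t, mem_NG fun a ha => cent_R_le C (Subgroup.mem_centralizer_iff.2 fun p hp => ?_), htz, hW⟩
  obtain ⟨hpA, hpR⟩ : p ∈ AG D ∧ p ∈ F.R := hp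
  have hp' : t⁻¹ * p * t ∈ AG D := by
    rcases F.pair.right.comm_cases (inv_mem ht) hpR with e | e
    · rw [mul_inv_eq_one, inv_inv] at e
      rw [e]; exact hpA
    · rw [mul_inv_eq_iff_eq_mul, inv_inv] at e
      rw [e]; exact mul_mem hsA hpA
  obtain ⟨m, -, rfl⟩ := C.surj a ha
  obtain ⟨n, -, hn⟩ := C.surj _ hp'
  have hc : Commute (C.psi m) (t⁻¹ * p * t) := by
    rw [← hn]
    show C.psi m * C.psi n = C.psi n * C.psi m
    rw [← C.hom, ← C.hom, Nat.xor_comm]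
  have := (Commute.conj_iff t).2 hc
  rw [show t * (t⁻¹ * p * t) * t⁻¹ = p by group] at this
  exact this.symm.eq

end Cfsg.Agent.CoGolay
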