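import Cfsg.Agent.LargeExt10.Co.Classes
import Cfsg.Agent.LargeExt10.Golay.Checks

/-!
# Elements of `C(z)` through their maps on codes
-/

set_option autoImplicit false

namespace Cfsg.Agent.CoGolay

open QuadraticMap Cfsg.Agent.Reflections Cfsg.Agent.LargeExtraspecial Cfsg.Agent.LargeExt10
open Cfsg.Agent.LargeExt10.Co
open Cfsg.Agent.Forms59.Inv (nmap add_self_vec nmap_apply polar_nmap act_eq_add form_nmap nmap_conj)

/-- A map on codes realised by an isometry. -/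
def Rep (γ : O8) (f : ℕ → ℕ) : Prop := ∀ k < 256, f k < 256 ∧ act γ (vc k) = vc (f k)

theorem vc_xl : ∀ (L : List ℕ) (k : ℕ) (γ : O8) (f : ℕ → ℕ),
    (∀ b ∈ L, act γ (vc b) = vc (f b)) → act γ (vc (xl L k)) = vc (xl (L.map f) k)
  | [], k, γ, f, _ => by
    show act γ (vc 0) = vc 0
    rw [vc_zero, act_zero]
  | b :: r, k, γ, f, h => by
    simp only [List.map_cons, xl, Cfsg.Agent.Golay.combAux]
    rw [vc_xor, vc_xor, act_add]
    congr 1
    · cases k.testBit 0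
      · simp [vc_zero, act_zero]
      · simpa using h b List.mem_cons_self
    · exact vc_xl r (k / 2) γ f fun x hx => h x (List.mem_cons_of_mem _ hx)

theorem xl_imgs8 {k : ℕ} (hk : k < 256) : xl imgs8 k = k :=
  beq_iff_eq.1 (List.all_eq_true.1 bits_ok k (List.mem_range.2 hk))

theorem xl_lt : ∀ (L : List ℕ) (k : ℕ) (n : ℕ), (∀ b ∈ L, b < 2 ^ n) → xl L k < 2 ^ n
  | [], _, _, _ => Nat.two_pow_pos _
  | b :: r, k, n, h => by
    simp only [xl, Cfsg.Agent.Golay.combAux]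
    refine Nat.xor_lt_two_pow ?_ (xl_lt r (k / 2) n fun x hx => h x (List.mem_cons_of_mem _ hx))
    split
    · exact h b List.mem_cons_self
    · exact Nat.two_pow_pos _

theorem imgs8_lt : ∀ b ∈ imgs8, b < 256 := by decide

/-- Isometries agreeing on the unit vectors agree. -/
theorem ext8 {γ δ : O8} (h : ∀ b ∈ imgs8, act γ (vc b) = act δ (vc b)) : γ = δ := by
  have hall : ∀ v, act γ v = act δ v := fun v => by
    obtain ⟨k, hk, rfl⟩ := vc_surj v
    have hex : ∀ b ∈ imgs8, ∃ m, m < 256 ∧ act δ (vc b) = vc m := fun b _ => by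
      obtain ⟨m, hm, e⟩ := vc_surj (act δ (vc b))
      exact ⟨m, hm, e.symm⟩
    classical
    let f : ℕ → ℕ := fun b => if hb : b ∈ imgs8 then (hex b hb).choose else 0
    have hf : ∀ b ∈ imgs8, act δ (vc b) = vc (f b) := fun b hb => by
      simp only [f, dif_pos hb]
      exact (hex b hb).choose_spec.2
    rw [← xl_imgs8 hk, vc_xl imgs8 k δ f hf, vc_xl imgs8 k γ f fun b hb => (h b hb).trans (hf b hb)]
  rw [← inv_mul_eq_one]
  refine eq_one_of_fix_hyp fun v _ => ?_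
  rw [act_mul, ← hall, act_inv_act]

theorem Rep.of_basis {γ : O8} {f : ℕ → ℕ} (hl : ∀ k < 256, f k = xl (imgs8.map f) k ∧ f k < 256)
    (h : ∀ b ∈ imgs8, act γ (vc b) = vc (f b)) : Rep γ f := fun k hk => by
  refine ⟨(hl k hk).2, ?_⟩
  conv_lhs => rw [← xl_imgs8 hk]
  rw [vc_xl imgs8 k γ f h, ← (hl k hk).1]

theorem Rep.ext {γ δ : O8} {f g : ℕ → ℕ} (h : Rep γ f) (h' : Rep δ g)
    (e : ∀ b ∈ imgs8, f b = g b) : γ = δ :=
  ext8 fun b hb => by rw [(h b (imgs8_lt b hb)).2, (h' b (imgs8_lt b hb)).2, e b hb]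

theorem rep_one : Rep 1 (fun k => k) := fun k hk => ⟨hk, OrthCohom.act_one' _⟩

theorem Rep.mul {γ δ : O8} {f g : ℕ → ℕ} (h : Rep γ f) (h' : Rep δ g) : Rep (γ * δ) (f ∘ g) :=
  fun k hk => by
    obtain ⟨h1, h2⟩ := h' k hk
    obtain ⟨h3, h4⟩ := h (g k) h1
    exact ⟨h3, by rw [act_mul, h2, h4]; rfl⟩

theorem Rep.congr {γ : O8} {f g : ℕ → ℕ} (h : Rep γ f) (e : ∀ k < 256, f k = g k) : Rep γ g :=
  fun k hk => by rw [← e k hk]; exact h k hk

/-- A word of reflections is an isometry. -/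
theorem exists_word : ∀ L : List ℕ, (∀ c ∈ L, qm c = true ∧ c < 256) → ∃ γ : O8, Rep γ (wd L)
  | [], _ => ⟨1, rep_one⟩
  | c :: r, h => by
    obtain ⟨γ, hγ⟩ := exists_word r fun x hx => h x (List.mem_cons_of_mem _ hx)
    obtain ⟨hq, hc⟩ := h c List.mem_cons_self
    exact ⟨refl Q8 (vc c) * γ,
      (show Rep (refl Q8 (vc c)) (rf c) from fun k hk => ⟨rf_lt hc hk, act_rf hc hq hk⟩).mul hγ⟩

theorem evenWord_mem : ∀ L : List ℕ, evenWord L = true → ∀ c ∈ L, qm c = true ∧ c < 256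
  | [], _, c, hc => absurd hc List.not_mem_nil
  | [_], h, _, _ => by simp [evenWord] at h
  | a :: b :: r, h, c, hc => by
    simp only [evenWord, Bool.and_eq_true, decide_eq_true_eq] at h
    simp only [List.mem_cons] at hc
    rcases hc with rfl | rfl | hc
    exacts [⟨h.1.1.1.1, h.1.1.1.2⟩, ⟨h.1.1.2, h.1.2⟩, evenWord_mem r h.2 c hc]

/-- A word of an even number of reflections lies in `Ω`. -/
theorem exists_omega_word : ∀ L : List ℕ, evenWord L = true →
    ∃ γ ∈ Cfsg.Omega (ZMod 2) ⇑Q8, Rep γ (wd L)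
  | [], _ => ⟨1, one_mem _, rep_one⟩
  | [_], h => by simp [evenWord] at h
  | a :: b :: r, h => by
    obtain ⟨hqa, ha⟩ := evenWord_mem _ h a List.mem_cons_self
    obtain ⟨hqb, hb⟩ := evenWord_mem _ h b (List.mem_cons_of_mem _ List.mem_cons_self)
    obtain ⟨γ, hγ, hR⟩ := exists_omega_word r (by
      simp only [evenWord, Bool.and_eq_true] at h
      exact h.2)
    obtain ⟨δ, hδ, hδv, -⟩ := exists_omega (c := a) (d := b)
      (List.mem_filter.2 ⟨List.mem_range.2 ha, hqa⟩) (List.mem_filter.2 ⟨List.mem_range.2 hb, hqb⟩)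
    exact ⟨δ * γ, mul_mem hδ hγ,
      (show Rep δ (img a b) from fun k hk => ⟨rf_lt ha (rf_lt hb hk), hδv k hk⟩).mul hR⟩

variable {G : Type*} [Group G] [Finite G] {z : G} {Q : Subgroup G}

/-- An element of `C(z)` with its map on codes. -/
structure Acts (D : Co z Q) (g : G) (f : ℕ → ℕ) : Prop where
  cz : Commute g z
  rep : Rep (D.ρ g) f

variable {D : Co z Q}

theorem Acts.mul {g h : G} {f f' : ℕ → ℕ} (hg : Acts D g f) (hh : Acts D h f') :
    Acts D (g * h) (f ∘ f') :=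
  ⟨hg.cz.mul_left hh.cz, by rw [D.ρ_mul hg.cz hh.cz]; exact hg.rep.mul hh.rep⟩

theorem acts_Q {x : G} (hx : x ∈ Q) : Acts D x fun k => k :=
  ⟨(D.setup.z_commute hx).symm, by
    rw [(D.ρ_ker (D.setup.z_commute hx).symm).2 hx]; exact rep_one⟩

theorem Acts.congr {g : G} {f f' : ℕ → ℕ} (h : Acts D g f) (e : ∀ k < 256, f k = f' k) :
    Acts D g f' := ⟨h.cz, h.rep.congr e⟩

theorem exists_acts (L : List ℕ) (h : evenWord L = true) : ∃ g, Acts D g (wd L) := by
  obtain ⟨γ, hγ, hR⟩ := exists_omega_word L h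
  obtain ⟨g, hg, rfl⟩ := D.ρ_surj hγ
  exact ⟨g, hg, hR⟩

theorem Acts.c_conj {g x : G} {f : ℕ → ℕ} (hg : Acts D g f) (hx : x ∈ Q) {k : ℕ} (hk : k < 256)
    (hc : D.c x = vc k) : g * x * g⁻¹ ∈ Q ∧ D.c (g * x * g⁻¹) = vc (f k) :=
  ⟨D.setup.conj_mem hg.cz hx, by rw [← D.ρ_act hg.cz hx, hc, (hg.rep k hk).2]⟩

/-- The conjugate of an element acting by `f` acts by `f'` when the word intertwines them. -/
theorem Acts.conj {g t : G} {f f' w w' : ℕ → ℕ} (hg : Acts D g w) (ht : Acts D t f)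
    (hlin : ∀ k < 256, f' k = xl (imgs8.map f') k ∧ f' k < 256)
    (e : ∀ b ∈ imgs8, w' b < 256 ∧ w (w' b) = b ∧ w (f (w' b)) = f' b) : Acts D (g * t * g⁻¹) f' := by
  refine ⟨(hg.cz.mul_left ht.cz).mul_left hg.cz.inv_left, Rep.of_basis hlin fun b hb => ?_⟩
  obtain ⟨h1, h2, h3⟩ := e b hb
  have hinv : act (D.ρ g)⁻¹ (vc b) = vc (w' b) := by
    conv_lhs => rw [← h2, ← (hg.rep _ h1).2, act_inv_act]
  rw [D.ρ_mul (hg.cz.mul_left ht.cz) hg.cz.inv_left, D.ρ_mul hg.cz ht.cz, D.rho_inv hg.cz, act_mul,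
    act_mul, hinv, (ht.rep _ h1).2, (hg.rep _ (ht.rep _ h1).1).2, ← h3]

/-- An involution commutes with every element over a vector it produces. -/
theorem commute_image {t x : G} {f : ℕ → ℕ} (ht : Acts D t f) (h2 : t * t = 1) (hx : x ∈ Q)
    {k : ℕ} (hk : k < 256) (hc : D.c x = vc (f k ^^^ k)) (hq : qm (f k ^^^ k) = false) :
    Commute t x := by
  obtain ⟨a, ha, hca⟩ := D.coords.surj (vc k)
  obtain ⟨hta, hcta⟩ := ht.c_conj ha hk hca
  set w := t * a * t⁻¹ * a⁻¹ with hw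
  have hwQ : w ∈ Q := mul_mem hta (inv_mem ha)
  have hlt : f k ^^^ k < 256 := Nat.xor_lt_two_pow (n := 8) (ht.rep k hk).1 hk
  have hcw : D.c w = vc (f k ^^^ k) := by
    rw [hw, D.coords.mul _ hta _ (inv_mem ha), D.coords.c_inv ha, hcta, hca, vc_xor]
  have hw2 : w * w = 1 := (D.sq_eq_one hwQ).2 (by rw [hcw]; exact Q_of (e := false) hlt hq)
  have hinv : w⁻¹ = w := inv_eq_of_mul_eq_one_left hw2
  have htinv : t⁻¹ = t := inv_eq_of_mul_eq_one_left h2
  have htw : Commute t w := by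
    refine mul_inv_eq_iff_eq_mul.1 ?_
    have hr : t * w * t⁻¹ = w⁻¹ := by
      rw [hw, htinv,
        show t * (t * a * t * a⁻¹) * t = (t * t) * (a * t * a⁻¹ * t) by group, h2, one_mul,
        mul_inv_rev, mul_inv_rev, mul_inv_rev, inv_inv, htinv]
      group
    rw [hr, hinv]
  rcases D.setup.zpowers_cases ((D.coords.eq_iff hwQ hx).1 (hcw.trans hc.symm)) with e | e
  · rw [inv_mul_eq_one.1 e] at htw
    exact htw
  · rw [inv_mul_eq_iff_eq_mul.1 e]
    exact htw.mul_right ht.cz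

end Cfsg.Agent.CoGolay
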