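import Cfsg.Agent.LargeExt10.Golay.Levi

/-!
# The local action on the coordinates is that of the stabiliser of an octad on the Golay code
-/

set_option autoImplicit false

namespace Cfsg.Agent.CoGolay

open QuadraticMap Cfsg.Agent.Reflections Cfsg.Agent.LargeExtraspecial Cfsg.Agent.LargeExt10
open Cfsg.Agent.LargeExt10.Co Cfsg.Agent.LargeExt10.Co.Frame
open Cfsg.Agent.OrthCohom (bilB)

variable {G : Type*} [Group G] [Finite G] {z : G} {Q : Subgroup G} {D : Co z Q} {F : Frame D}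

/-- An isometry with coordinates in which the two generators act by the model maps. -/
structure Model {D : Co z Q} (F : Frame D) where
  C : Crd F
  gx : G
  gy : G
  levX : IsLev C gx (wd wordX)
  levY : IsLev C gy (wd wordY)
  actX : ∀ n < 2048, gx * C.psi n * gx⁻¹ = C.psi (mapX n)
  actY : ∀ n < 2048, gy * C.psi n * gy⁻¹ = C.psi (mapY n)

theorem etaCols_lt (a n : ℕ) : xl (etaCols a) n < 2 := by
  refine xl_lt _ _ 1 fun b hb => ?_
  simp only [etaCols, List.mem_map] at hb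
  obtain ⟨i, -, rfl⟩ := hb
  split <;> norm_num

/-- The change of coordinates by a functional. -/
def sh (a n : ℕ) : ℕ := n ^^^ xl (etaCols a) n

theorem sh_xor (a m n : ℕ) : sh a (m ^^^ n) = sh a m ^^^ sh a n := by
  rw [sh, sh, sh, xl_xor]; ac_rfl

theorem sh_lt {a n : ℕ} (hn : n < 2048) : sh a n < 2048 :=
  Nat.xor_lt_two_pow (n := 11) hn (by have := etaCols_lt a n; omega)

theorem sh_low {a n : ℕ} (ha : a < 64) (hn : n < 32) : sh a n = n := by
  have h := List.all_eq_true.1 (List.all_eq_true.1 eta_low a (List.mem_range.2 ha)) n (List.mem_range.2 hn)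
  rw [sh, beq_iff_eq.1 h, Nat.xor_zero]

theorem sh_sh {a : ℕ} (ha : a < 64) (n : ℕ) : sh a (sh a n) = n := by
  have hb := etaCols_lt a n
  conv_lhs => rw [sh.eq_1 a n, sh_xor, sh_low ha (show xl (etaCols a) n < 32 by omega), sh]
  rw [Nat.xor_assoc, Nat.xor_self, Nat.xor_zero]

theorem sh_div {a n : ℕ} : sh a n / 32 = n / 32 := by
  have hb := etaCols_lt a n
  rw [sh, show (32 : ℕ) = 2 ^ 5 from rfl, Nat.xor_div_two_pow, Nat.div_eq_of_lt (a := xl (etaCols a) n) (by omega), Nat.xor_zero]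

theorem sh_wk (C : Crd F) {a k n : ℕ} (ha : a < 64) (hk : k < 16) (hn : n < 2048) :
    wk k (sh a n) = sh a (wk k n) := by
  have hb := etaCols_lt a n
  have h1 : wk k (xl (etaCols a) n) = xl (etaCols a) n := by
    rcases (show xl (etaCols a) n = 0 ∨ xl (etaCols a) n = 1 by omega) with e | e <;> rw [e]
    · exact (show ∀ k : Fin 16, wk k.1 0 = 0 by decide +kernel) ⟨k, hk⟩
    · exact wk_one ⟨k, hk⟩
  have h2 : xl (etaCols a) (wk k n) = xl (etaCols a) n := by
    have hl := Crd.dd_low (n := n) hk hn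
    have h := List.all_eq_true.1 (List.all_eq_true.1 eta_low a (List.mem_range.2 ha)) _ (List.mem_range.2 hl)
    rw [beq_iff_eq, dd, xl_xor] at h
    exact (Nat.xor_eq_zero_iff.1 h).symm
  rw [sh, C.wk_xor hk hn (by omega), h1, sh, h2]

/-- New coordinates. -/
def Crd.shift (C : Crd F) {a : ℕ} (ha : a < 64) : Crd F where
  psi n := C.psi (sh a n)
  w := C.w
  mem n hn := C.mem _ (sh_lt hn)
  surj x hx := by
    obtain ⟨n, hn, rfl⟩ := C.surj x hx
    exact ⟨sh a n, sh_lt hn, by rw [sh_sh ha]⟩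
  hom m n := by rw [sh_xor, C.hom]
  inj m n hm hn e := by
    rw [← sh_sh ha m, ← sh_sh ha n, C.inj _ _ (sh_lt hm) (sh_lt hn) e]
  psi_z := by rw [sh_low ha (by norm_num)]; exact C.psi_z
  psi_s := by rw [sh_low ha (by norm_num)]; exact C.psi_s
  low n hn := by rw [sh_low ha hn]; exact C.low n hn
  acts n hn := by have := C.acts _ (sh_lt (a := a) hn); rwa [sh_div] at this
  w_mem := C.w_mem
  w_hom := C.w_hom
  w_y := C.w_y
  conj_w k hk n hn := by rw [C.conj_w k hk _ (sh_lt hn), sh_wk C ha hk hn]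

theorem IsLev.shift {C : Crd F} {g : G} {f : ℕ → ℕ} (h : IsLev C g f) {a : ℕ} (ha : a < 64) :
    IsLev (C.shift ha) g f :=
  ⟨h.acts, h.pres, fun m hm => ⟨(h.hu m hm).1, by
    show g * C.psi (sh a m) * g⁻¹ = C.psi (sh a _)
    rw [sh_low ha hm, sh_low ha (h.hu m hm).1]; exact (h.hu m hm).2⟩, h.hw⟩

theorem p6_eq_two {p : ℕ} (hp : p < 64) {r : G} (h : Acts D r (p6 p)) (h' : Acts D r (eich 1 4)) :
    p = 2 := by
  have hc := List.all_eq_true.1 p6_inj p (List.mem_range.2 hp)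
  simp only [Bool.or_eq_true, beq_iff_eq, List.any_eq_true, bne_iff_ne, ne_eq] at hc
  rcases hc with e | ⟨v, hv, hne⟩
  · exact e
  · refine absurd ?_ hne
    rw [← beq_iff_eq.1 (List.all_eq_true.1 eich_p6 v hv)]
    exact vc_inj (h.rep v (imgs8_lt v hv)).1 (h'.rep v (imgs8_lt v hv)).1
      (by rw [← (h.rep v (imgs8_lt v hv)).2, ← (h'.rep v (imgs8_lt v hv)).2])

theorem commute_s_of_low {x : G} (F : Frame D) (hx : x ∈ Q) {j : ℕ} (hj : j < 256)
    (ho : orth j 1 = true) (hc : D.c x = vc j) : Commute x F.s :=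
  (F.commute_s_iff hx).2 (by rw [hc]; exact B_of_orth hj (by norm_num) ho)

/-- An element moving the transvection's element of `R` to its product with `z`. -/
theorem exists_flip (C : Crd F) {gy : G} (hy : IsLev C gy (wd wordY)) {e : ℕ}
    (he : ∀ n < 2048, gy * C.psi n * gy⁻¹ = C.psi (xl (withEta colsY e) n)) : e ≠ 0 := by
  rintro rfl
  have h4 : B8 (vc 4) v0 = 0 := B_of_orth (by norm_num) (by norm_num) (by decide +kernel)
  have h64 : B8 (vc 64) v0 = 0 := B_of_orth (by norm_num) (by norm_num) (by decide +kernel)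
  obtain ⟨r, hr, ha⟩ := F.exists_r h4
  obtain ⟨r', hr', ha'⟩ := F.exists_r h64
  have hS := sig_of_mem hr
  have hA : r ∈ AG D := mem_AG.2 fun x hx j hj hc => by
    have hxs := commute_s_of_low F hx (by omega)
      ((show ∀ j : Fin 16, orth j.1 1 = true by decide +kernel) ⟨j, hj⟩) hc
    have e := comm_RQ hr hx hxs
    rw [hc, ha.polar_eq (B_of_orth (by omega) (by norm_num)
      ((show ∀ j : Fin 16, orth j.1 1 = true by decide +kernel) ⟨j, hj⟩)), B_of_orth (by norm_num) (by omega)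
      ((show ∀ j : Fin 16, orth 4 j.1 = true by decide +kernel) ⟨j, hj⟩), F.el_zero, mul_inv_eq_one,
      mul_inv_eq_iff_eq_mul] at e
    exact e
  obtain ⟨n, hn, rfl⟩ := C.surj r hA
  have hT : n / 32 = 2 := p6_eq_two (by omega) (C.acts n hn)
    (acts_sig hr (by norm_num) ha (by decide +kernel) (by decide +kernel))
  have hd3 : C.psi 3 = el z F.s 1 1 := by
    rw [show (3 : ℕ) = 1 ^^^ 2 from rfl, C.hom, C.psi_z, C.psi_s, el, pw_one, pw_one]
  have hwk : ∀ k : ℕ, k < 16 → orth (16 * k) 1 = true →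
      wk k n = n ^^^ (if bilB qm 4 (16 * k) then 3 else 0) := by
    intro k hk ho
    obtain ⟨hw, hwc⟩ := C.w_mem k hk
    have hws := commute_s_of_low F hw (by omega) ho hwc
    have e := inv_of_el (comm_RQ hr hw hws)
    rw [hwc, ha.polar_eq (B_of_orth (by omega) (by norm_num) ho), B_bil (by norm_num) (by omega),
      mul_inv_eq_iff_eq_mul, C.conj_w k hk n hn] at e
    have hlt : n ^^^ (if bilB qm 4 (16 * k) then 3 else 0) < 2048 :=
      Nat.xor_lt_two_pow (n := 11) hn (by split <;> norm_num)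
    refine C.inj _ _ (Crd.wk_lt hn) hlt ?_
    rw [e, Nat.xor_comm, C.hom]
    split
    · rw [hd3]
    · rw [F.el_zero, C.psi_zero]
  have k2 := hwk 2 (by norm_num) (by decide +kernel)
  have k4 := hwk 4 (by norm_num) (by decide +kernel)
  have k8 := hwk 8 (by norm_num) (by decide +kernel)
  rw [show bilB qm 4 (16 * 2) = false by decide +kernel, if_neg Bool.false_ne_true, Nat.xor_zero] at k2
  rw [show bilB qm 4 (16 * 4) = true by decide +kernel, if_pos rfl] at k4
  rw [show bilB qm 4 (16 * 8) = false by decide +kernel, if_neg Bool.false_ne_true, Nat.xor_zero] at k8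
  have hflip := List.all_eq_true.1 flip2_ok n (List.mem_range.2 hn)
  simp only [hT, k2, k4, k8, beq_self_eq_true, Bool.not_true, Bool.false_or, List.all_eq_true,
    List.mem_range, bne_iff_ne, ne_eq] at hflip
  -- the element moving `r` to `r z`
  obtain ⟨hw4, hw4c⟩ := C.w_mem 4 (by norm_num)
  have hw4s := commute_s_of_low F hw4 (by norm_num) (by decide +kernel) hw4c
  have hc1 := inv_of_el (comm_RQ hr hw4 hw4s)
  rw [hw4c, ha.polar_eq (B_of_orth (by norm_num) (by norm_num) (by decide +kernel)),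
    B_one (by norm_num) (by norm_num) (by decide +kernel), mul_inv_eq_iff_eq_mul] at hc1
  have hc2 := (comm_R hr' hr).1
  have hS' := sig_of_mem hr'
  rw [ha'.polar_eq hS.av_perp, B8, polar_comm, ← B8, ha.polar_eq h64,
    B_one (by norm_num) (by norm_num) (by decide +kernel), mul_inv_eq_iff_eq_mul] at hc2
  have hmove : r' * C.w 4 * C.psi n * (r' * C.w 4)⁻¹ = C.psi (n ^^^ 1) := by
    rw [show r' * C.w 4 * C.psi n * (r' * C.w 4)⁻¹ = r' * (C.w 4 * C.psi n * (C.w 4)⁻¹) * r'⁻¹ by group, hc1,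
      show r' * (el z F.s 1 1 * C.psi n) * r'⁻¹ = (r' * el z F.s 1 1 * r'⁻¹) * (r' * C.psi n * r'⁻¹) by group,
      (F.el_commute hS'.cz hS'.cs 1 1).eq, mul_inv_cancel_right, hc2, ← mul_assoc, F.el_mul, add_zero, zadd2,
      el, pw_zero, pw_one, mul_one, Nat.xor_comm, C.hom, C.psi_z]
  -- the same element through the model
  have hX : Acts D (r' * C.w 4) (eich 1 64) :=
    ((acts_sig hr' (by norm_num) ha' (by decide +kernel) (by decide +kernel)).mul
      (acts_Q hw4)).congr fun k _ => rfl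
  have hρ : D.ρ gy = D.ρ (r' * C.w 4) :=
    hy.acts.rep.ext hX.rep fun b hb => beq_iff_eq.1 (List.all_eq_true.1 wordY_eich b hb)
  have hQ : gy⁻¹ * (r' * C.w 4) ∈ Q := (D.ρ_ker (hy.acts.cz.inv_left.mul_left hX.cz)).1 (by
    rw [D.ρ_mul hy.acts.cz.inv_left hX.cz, D.rho_inv hy.acts.cz, hρ, inv_mul_cancel])
  obtain ⟨c, hc, hcc⟩ := vc_surj (D.c (gy⁻¹ * (r' * C.w 4)))
  obtain ⟨hwm, hwc⟩ := C.w_mem (c / 16) (by omega)
  have hlow : (gy⁻¹ * (r' * C.w 4)) * (C.w (c / 16))⁻¹ ∈ Q := mul_mem hQ (inv_mem hwm)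
  have hlc : D.c ((gy⁻¹ * (r' * C.w 4)) * (C.w (c / 16))⁻¹) = vc (c % 16) := by
    rw [D.coords.mul _ hQ _ (inv_mem hwm), D.coords.c_inv hwm, ← hcc, hwc, ← vc_xor]
    congr 1
    exact (show ∀ c : Fin 256, c.1 ^^^ 16 * (c.1 / 16) = c.1 % 16 by decide +kernel) ⟨c, hc⟩
  obtain ⟨a, ha2, ea⟩ := C.psi_low_eq hlow (Nat.mod_lt _ (by norm_num)) hlc
  have hk : c / 16 < 16 := by omega
  have e1 : r' * C.w 4 = gy * (C.psi (2 * (c % 16) ^^^ a) * C.w (c / 16)) := by
    rw [← ea]; group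
  rw [e1, show gy * (C.psi (2 * (c % 16) ^^^ a) * C.w (c / 16)) * C.psi n *
      (gy * (C.psi (2 * (c % 16) ^^^ a) * C.w (c / 16)))⁻¹ =
      gy * (C.psi (2 * (c % 16) ^^^ a) * (C.w (c / 16) * C.psi n * (C.w (c / 16))⁻¹) *
        (C.psi (2 * (c % 16) ^^^ a))⁻¹) * gy⁻¹ by group, C.conj_w _ hk n hn, ← C.hom, Nat.xor_comm, C.hom,
    mul_inv_cancel_right, he _ (Crd.wk_lt hn)] at hmove
  exact hflip _ hk (C.inj _ _ (xl_lt _ _ 11 (by decide +kernel)) (Nat.xor_lt_two_pow (n := 11) hn (by norm_num)) hmove)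

theorem evW_congr {F' F'' G' G'' : ℕ → ℕ} (h1 : ∀ n, F' n = F'' n) (h2 : ∀ n, G' n = G'' n) :
    ∀ (w : List Bool) (n : ℕ), evW F' G' w n = evW F'' G'' w n
  | [], _ => rfl
  | b :: r, n => by cases b <;> simp [evW, evW_congr h1 h2 r, h1, h2]

/-- The product of a word. -/
def evG (gx gy : G) : List Bool → G
  | [] => 1
  | b :: r => (if b then gy else gx) * evG gx gy r

theorem evG_spec {C : Crd F} {gx gy : G} {X Y : ℕ → ℕ} (hx : IsLev C gx (wd wordX))
    (hy : IsLev C gy (wd wordY)) (hX : ∀ n < 2048, X n < 2048 ∧ gx * C.psi n * gx⁻¹ = C.psi (X n))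
    (hY : ∀ n < 2048, Y n < 2048 ∧ gy * C.psi n * gy⁻¹ = C.psi (Y n)) :
    ∀ w : List Bool, IsLev C (evG gx gy w) (evW (wd wordX) (wd wordY) w) ∧
      ∀ n < 2048, evW X Y w n < 2048 ∧ evG gx gy w * C.psi n * (evG gx gy w)⁻¹ = C.psi (evW X Y w n)
  | [] => ⟨isLev_one, fun n hn => ⟨hn, by simp [evG, evW]⟩⟩
  | b :: r => by
    obtain ⟨h1, h2⟩ := evG_spec hx hy hX hY r
    cases b
    · refine ⟨hx.mul h1, fun n hn => ⟨(hX _ (h2 n hn).1).1, ?_⟩⟩
      show gx * evG gx gy r * C.psi n * (gx * evG gx gy r)⁻¹ = C.psi (X (evW X Y r n))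
      rw [show gx * evG gx gy r * C.psi n * (gx * evG gx gy r)⁻¹ =
        gx * (evG gx gy r * C.psi n * (evG gx gy r)⁻¹) * gx⁻¹ by group, (h2 n hn).2, (hX _ (h2 n hn).1).2]
    · refine ⟨hy.mul h1, fun n hn => ⟨(hY _ (h2 n hn).1).1, ?_⟩⟩
      show gy * evG gx gy r * C.psi n * (gy * evG gx gy r)⁻¹ = C.psi (Y (evW X Y r n))
      rw [show gy * evG gx gy r * C.psi n * (gy * evG gx gy r)⁻¹ =
        gy * (evG gx gy r * C.psi n * (evG gx gy r)⁻¹) * gy⁻¹ by group, (h2 n hn).2, (hY _ (h2 n hn).1).2]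

theorem withEta_bound : ∀ e : Fin 64, (∀ b ∈ withEta colsY e.1, b < 2 ^ 11) ∧
    (∀ b ∈ withEta colsX e.1, b < 2 ^ 11) ∧ (∀ b ∈ colsX, b < 2 ^ 11) := by decide +kernel

theorem exists_model (C0 : Crd F) : Nonempty (Model F) := by
  have hlev := lev_words
  simp only [Bool.and_eq_true] at hlev
  obtain ⟨gx, hx⟩ := exists_lev C0 hlev.1.1.1.1.1
  obtain ⟨ex, hex, hXa⟩ := exists_eta hx colsX_ok
  obtain ⟨a, ha, hga⟩ : ∃ a < 64, ∀ b < 11, xl (withEta colsX ex) (2 ^ b ^^^ xl (etaCols a) (2 ^ b)) =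
      xl colsX (2 ^ b) ^^^ xl (etaCols a) (xl colsX (2 ^ b)) := by
    have h := List.all_eq_true.1 gauge2_ok ex (List.mem_range.2 hex)
    simp only [List.any_eq_true, List.all_eq_true, List.mem_range, beq_iff_eq] at h
    exact h
  set C := C0.shift ha with hC
  have hx' : IsLev C gx (wd wordX) := hx.shift ha
  have actX : ∀ n < 2048, gx * C.psi n * gx⁻¹ = C.psi (mapX n) :=
    C.conj_ext (xl_xor _) fun b hb => by
      show gx * C0.psi (sh a (2 ^ b)) * gx⁻¹ = C0.psi (sh a (xl colsX (2 ^ b)))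
      rw [hXa _ (sh_lt (Nat.pow_lt_pow_right (a := 2) (by norm_num) hb))]
      congr 1
      exact hga b hb
  obtain ⟨gy, hy⟩ := exists_lev C hlev.1.1.1.1.2
  obtain ⟨ey, hey, hYa⟩ := exists_eta hy colsY_ok
  have hne : ey ≠ 0 := exists_flip C hy hYa
  have hrel : relsHold ey = true := by
    simp only [relsHold, List.all_eq_true, List.mem_range, beq_iff_eq]
    intro p hp b hb
    have hX : ∀ n < 2048, mapX n < 2048 ∧ gx * C.psi n * gx⁻¹ = C.psi (mapX n) := fun n hn =>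
      ⟨xl_lt _ _ 11 (withEta_bound ⟨0, by norm_num⟩).2.2, actX n hn⟩
    have hY : ∀ n < 2048, xl (withEta colsY ey) n < 2048 ∧
        gy * C.psi n * gy⁻¹ = C.psi (xl (withEta colsY ey) n) := fun n hn =>
      ⟨xl_lt _ _ 11 (withEta_bound ⟨ey, hey⟩).1, hYa n hn⟩
    obtain ⟨l1, a1⟩ := evG_spec hx' hy hX hY p.1
    obtain ⟨l2, a2⟩ := evG_spec hx' hy hX hY p.2
    have hw := List.all_eq_true.1 rels_words p hp
    simp only [List.all_eq_true, beq_iff_eq] at hw
    have hb' : 2 ^ b < 2048 := Nat.pow_lt_pow_right (a := 2) (by norm_num) hb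
    have e := l1.conj_eq l2 hw hb'
    rw [(a1 _ hb').2, (a2 _ hb').2] at e
    exact C.inj _ _ (a1 _ hb').1 (a2 _ hb').1 e
  have h26 : ey = 26 := by
    have : ey ∈ [0, 26] := by
      rw [← rels_ok]
      exact List.mem_filter.2 ⟨List.mem_range.2 hey, hrel⟩
    simp only [List.mem_cons, List.not_mem_nil, or_false] at this
    exact this.resolve_left hne
  subst h26
  exact ⟨⟨C, gx, gy, hx', hy, actX, hYa⟩⟩

end Cfsg.Agent.CoGolay
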