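import Cfsg.Agent.LargeExt10.Golay.Local
import Cfsg.Agent.LargeExt10.Golay.Counts
import Cfsg.Agent.LargeExt10.Co.NotConj

/-!
# The two orbits of the normaliser on the nontrivial elements
-/

set_option autoImplicit false

namespace Cfsg.Agent.CoGolay

open QuadraticMap Cfsg.Agent.Reflections Cfsg.Agent.LargeExtraspecial Cfsg.Agent.LargeExt10
open Cfsg.Agent.LargeExt10.Co Cfsg.Agent.LargeExt10.Co.Frame
open Cfsg.Agent.OrthCohom (bilB)

variable {G : Type*} [Group G] [Finite G] {z : G} {Q : Subgroup G} {D : Co z Q} {F : Frame D}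

theorem length_filter_range (N : ℕ) (p : ℕ → Bool) :
    ((List.range N).filter p).length = ((Finset.range N).filter fun b => p b = true).card := by
  rw [← List.toFinset_card_of_nodup (List.Nodup.filter _ List.nodup_range)]
  congr 1
  ext x
  simp

/-- A code is conjugate to `a` in the normaliser. -/
def InN (M : Model F) (a n : ℕ) : Prop := ∃ g ∈ NG D, g * M.C.psi a * g⁻¹ = M.C.psi n

variable (M : Model F)

theorem psi_comm (m n : ℕ) : Commute (M.C.psi m) (M.C.psi n) := by
  show M.C.psi m * M.C.psi n = M.C.psi n * M.C.psi m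
  rw [← M.C.hom, ← M.C.hom, Nat.xor_comm]

theorem lev_NG {g : G} {f : ℕ → ℕ} (h : IsLev M.C g f) : g ∈ NG D :=
  acts_NG h.acts fun k hk => (h.pres k hk).1

theorem gens_conj : ∀ f ∈ gens, ∃ g ∈ NG D, ∀ n < 2048, g * M.C.psi n * g⁻¹ = M.C.psi (f n) := by
  intro f hf
  have hw : ∀ i : Fin 4, ∃ g ∈ NG D, ∀ n < 2048, g * M.C.psi n * g⁻¹ = M.C.psi (w1 i.1 n) := fun i => by
    have hk : 2 ^ i.1 < 16 := by fin_cases i <;> norm_num
    refine ⟨_, Q_le_NG (M.C.w_mem _ hk).1, fun n hn => ?_⟩
    rw [M.C.conj_w _ hk n hn]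
    congr 1
    fin_cases i <;> rfl
  simp only [gens, List.mem_cons, List.not_mem_nil, or_false] at hf
  rcases hf with rfl | rfl | rfl | rfl | rfl | rfl
  exacts [hw 0, hw 1, hw 2, hw 3, ⟨_, lev_NG M M.levX, M.actX⟩, ⟨_, lev_NG M M.levY, M.actY⟩]

theorem inN_gen {a : ℕ} {f : ℕ → ℕ} (hf : f ∈ gens) {n : ℕ} (hn : n < 2048) :
    InN M a n ↔ InN M a (f n) := by
  obtain ⟨g, hg, hgn⟩ := gens_conj M f hf
  constructor
  · rintro ⟨x, hx, e⟩
    exact ⟨g * x, mul_mem hg hx, by rw [← hgn n hn, ← e]; group⟩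
  · rintro ⟨x, hx, e⟩
    refine ⟨g⁻¹ * x, mul_mem (inv_mem hg) hx, ?_⟩
    rw [show g⁻¹ * x * M.C.psi a * (g⁻¹ * x)⁻¹ = g⁻¹ * (x * M.C.psi a * x⁻¹) * g by group, e, ← hgn n hn]
    group

/-- A property invariant under the generators is constant on the classes. -/
theorem const_class {P : ℕ → Prop} (hP : ∀ f ∈ gens, ∀ n < 2048, (P n ↔ P (f n))) {i n : ℕ} (hi : i < 7)
    (hn : n < 2048) (hin : inOrb i n = true) : P n ↔ P (orbRep.getD i 0) := by
  induction hd : dist n using Nat.strong_induction_on generalizing n with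
  | _ d ih =>
    have h := List.all_eq_true.1 orbB_ok n (List.mem_range.2 hn)
    simp only [Bool.and_eq_true, List.all_eq_true, List.mem_range, Bool.or_eq_true, List.any_eq_true,
      decide_eq_true_eq, beq_iff_eq, Bool.not_eq_true'] at h
    rcases h.1 i hi with (h0 | h0) | ⟨f, hf, ⟨h1, h2⟩, h3⟩
    · rw [hin] at h0; exact absurd h0 (by decide)
    · rw [h0]
    · rw [hP f hf n hn]
      exact ih (dist (f n)) (hd ▸ h2) h3 h1 rfl

theorem some_class {n : ℕ} (hn : n < 2048) : ∃ i < 7, inOrb i n = true := by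
  have h := List.all_eq_true.1 orbB_ok n (List.mem_range.2 hn)
  simp only [Bool.and_eq_true, List.any_eq_true, List.mem_range] at h
  exact h.2

/-- A permutation of the coordinates by an element of the normaliser. -/
theorem exists_perm {g : G} (hg : g ∈ NG D) : ∃ π : ℕ → ℕ,
    (∀ n < 2048, π n < 2048 ∧ g * M.C.psi n * g⁻¹ = M.C.psi (π n)) ∧
    (∀ m < 2048, ∀ n < 2048, π (m ^^^ n) = π m ^^^ π n) ∧ (∀ m < 2048, ∀ n < 2048, π m = π n → m = n) := by
  classical
  have h : ∀ n, ∃ m, n < 2048 → m < 2048 ∧ g * M.C.psi n * g⁻¹ = M.C.psi m := fun n => by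
    by_cases hn : n < 2048
    · obtain ⟨m, hm, e⟩ := M.C.surj _ ((Subgroup.mem_normalizer_iff.1 hg _).1 (M.C.mem n hn))
      exact ⟨m, fun _ => ⟨hm, e.symm⟩⟩
    · exact ⟨0, fun h => absurd h hn⟩
  choose π hπ using h
  refine ⟨π, hπ, fun m hm n hn => ?_, fun m hm n hn e => ?_⟩
  · have hmn := Nat.xor_lt_two_pow (n := 11) hm hn
    refine M.C.inj _ _ (hπ _ hmn).1 (Nat.xor_lt_two_pow (n := 11) (hπ m hm).1 (hπ n hn).1) ?_
    rw [← (hπ _ hmn).2, M.C.hom, M.C.hom, ← (hπ m hm).2, ← (hπ n hn).2]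
    group
  · refine M.C.inj m n hm hn ?_
    have e' : g * M.C.psi m * g⁻¹ = g * M.C.psi n * g⁻¹ := by rw [(hπ m hm).2, (hπ n hn).2, e]
    exact mul_left_cancel (mul_right_cancel e')

theorem inN_conj {a : ℕ} {g : G} (hg : g ∈ NG D) {n m : ℕ} (e : g * M.C.psi n * g⁻¹ = M.C.psi m) :
    InN M a n ↔ InN M a m := by
  constructor
  · rintro ⟨x, hx, e'⟩
    exact ⟨g * x, mul_mem hg hx, by rw [← e, ← e']; group⟩
  · rintro ⟨x, hx, e'⟩
    refine ⟨g⁻¹ * x, mul_mem (inv_mem hg) hx, ?_⟩
    rw [show g⁻¹ * x * M.C.psi a * (g⁻¹ * x)⁻¹ = g⁻¹ * (x * M.C.psi a * x⁻¹) * g by group, e', ← e]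
    group

/-- Invariant sets have equally many pairs with given sum over conjugate elements. -/
theorem cnt_conj {S T : ℕ → Bool} {a b c : ℕ} (hS : ∀ n < 2048, (S n = true ↔ InN M a n))
    (hT : ∀ n < 2048, (T n = true ↔ InN M b n)) (hc : c < 2048) (h : InN M 1 c) :
    cnt S T c = cnt S T 1 := by
  obtain ⟨g, hg, e⟩ := h
  obtain ⟨π, hπ, hlin, hinj⟩ := exists_perm M hg
  have hπ1 : π 1 = c := M.C.inj _ _ (hπ 1 (by norm_num)).1 hc (((hπ 1 (by norm_num)).2).symm.trans e)
  have hiff : ∀ {S : ℕ → Bool} {a : ℕ}, (∀ n < 2048, (S n = true ↔ InN M a n)) →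
      ∀ n < 2048, S (π n) = S n := fun {S a} hS n hn => by
    rw [Bool.eq_iff_iff, hS _ (hπ n hn).1, hS n hn]
    exact (inN_conj M hg (hπ n hn).2).symm
  have hcard : ∀ c, cnt S T c = ((Finset.range 2048).filter fun b => (S b && T (c ^^^ b)) = true).card :=
    fun c => by
    exact length_filter_range 2048 _
  rw [hcard, hcard]
  symm
  refine Finset.card_bij (fun n _ => π n) ?_ ?_ ?_
  · intro n hn
    simp only [Finset.mem_filter, Finset.mem_range] at hn ⊢
    refine ⟨(hπ n hn.1).1, ?_⟩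
    rw [← hπ1, ← hlin 1 (by norm_num) n hn.1, hiff hS n hn.1,
      hiff hT _ (Nat.xor_lt_two_pow (n := 11) (by norm_num) hn.1)]
    exact hn.2
  · intro m hm n hn e
    simp only [Finset.mem_filter, Finset.mem_range] at hm hn
    exact hinj m hm.1 n hn.1 e
  · intro m hm
    simp only [Finset.mem_filter, Finset.mem_range] at hm
    have hi : Function.Injective fun k : Fin 2048 => (⟨π k.1, (hπ k.1 k.2).1⟩ : Fin 2048) :=
      fun x y e => Fin.ext (hinj x.1 x.2 y.1 y.2 (congrArg Fin.val e))
    obtain ⟨k, hk⟩ := (Finite.injective_iff_surjective.1 hi) ⟨m, hm.1⟩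
    have hk' : π k.1 = m := congrArg Fin.val hk
    refine ⟨k.1, ?_, hk'⟩
    simp only [Finset.mem_filter, Finset.mem_range]
    refine ⟨k.2, ?_⟩
    rw [← hiff hS k.1 k.2, ← hiff hT _ (Nat.xor_lt_two_pow (n := 11) (by norm_num) k.2),
      hlin 1 (by norm_num) k.1 k.2, hπ1, hk']
    exact hm.2

theorem inN_z {n : ℕ} (h : InN M 1 n) : IsConj z (M.C.psi n) := by
  obtain ⟨g, -, e⟩ := h
  rw [M.C.psi_z] at e
  exact isConj_iff.2 ⟨g, e⟩

theorem inN_swap {a b c : ℕ} (h : InN M a b) (h' : InN M c b) : InN M c a := by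
    obtain ⟨x, hx, e⟩ := h
    obtain ⟨y, hy, e'⟩ := h'
    refine ⟨x⁻¹ * y, mul_mem (inv_mem hx) hy, ?_⟩
    rw [show x⁻¹ * y * M.C.psi c * (x⁻¹ * y)⁻¹ = x⁻¹ * (y * M.C.psi c * y⁻¹) * x by group, e', ← e]
    group

theorem not_inN_zero {a : ℕ} (ha : a < 2048) (h0 : a ≠ 0) : ¬ InN M a 0 := by
  rintro ⟨g, -, e⟩
  rw [M.C.psi_zero, conj_eq_one_iff] at e
  exact h0 (M.C.inj a 0 ha (by norm_num) (e.trans M.C.psi_zero.symm))

theorem not_conj_forty : ¬ InN M 1 40 := by
  intro h
  obtain ⟨Ts⟩ := F.exists_std sType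
  have h2 : B8 (vc 2) v0 = 0 := B_of_orth (by norm_num) (by norm_num) (by decide +kernel)
  obtain ⟨r, hr, hav⟩ := F.exists_r h2
  obtain ⟨n, hn, rfl⟩ := M.C.surj r (R_mem_AG hr (show (2 : ℕ) < 16 by norm_num) hav)
  have hp : n / 32 = 1 := by
    have h1 := M.C.acts n hn
    have h2 := acts_sig hr (show (2 : ℕ) < 256 by norm_num) hav (by decide +kernel) (by decide +kernel)
    have key : ∀ p : Fin 64, (∀ b ∈ imgs8, p6 p.1 b = eich 1 2 b) → p.1 = 1 := by decide +kernel
    exact key ⟨n / 32, by omega⟩ fun b hb => vc_inj (h1.rep b (imgs8_lt b hb)).1 (h2.rep b (imgs8_lt b hb)).1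
      (by rw [← (h1.rep b (imgs8_lt b hb)).2, ← (h2.rep b (imgs8_lt b hb)).2])
  have k2 := R_code M.C (show (2 : ℕ) < 256 by norm_num) hn hr hav (k := 2) (by norm_num) (by decide +kernel)
  have k4 := R_code M.C (show (2 : ℕ) < 256 by norm_num) hn hr hav (k := 4) (by norm_num) (by decide +kernel)
  have k8 := R_code M.C (show (2 : ℕ) < 256 by norm_num) hn hr hav (k := 8) (by norm_num) (by decide +kernel)
  rw [show bilB qm 2 (16 * 2) = true by decide +kernel, if_pos rfl] at k2
  rw [show bilB qm 2 (16 * 4) = false by decide +kernel, if_neg Bool.false_ne_true, Nat.xor_zero] at k4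
  rw [show bilB qm 2 (16 * 8) = false by decide +kernel, if_neg Bool.false_ne_true, Nat.xor_zero] at k8
  have hs := List.all_eq_true.1 std_ok n (List.mem_range.2 hn)
  simp only [hp, k2, k4, k8, beq_self_eq_true, Bool.not_true, Bool.false_or] at hs
  have h8 : n ^^^ 8 < 2048 := Nat.xor_lt_two_pow (n := 11) hn (by norm_num)
  have h40 : InN M 1 (n ^^^ 8) :=
    (const_class (P := InN M 1) (fun f hf n hn => inN_gen M hf hn) (show (4 : ℕ) < 7 by norm_num) h8 hs).2 h
  obtain ⟨hx, hxc⟩ := M.C.low 8 (by norm_num)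
  have hc := isConj_std Ts (g := 1) (r := M.C.psi n) (x := M.C.psi 8) (Commute.one_left z)
    (Commute.one_left F.s) hr hx
    (commute_s_of_low F hx (show 8 / 2 < 256 by norm_num) (by decide +kernel) hxc)
    (by rw [D.rho_one, OrthCohom.act_one']; exact hav) (by rw [D.rho_one, OrthCohom.act_one', hxc]; exact Or.inl rfl)
  rw [← M.C.hom] at hc
  exact Ts.not_isConj not_dvd_fixS_s ((inN_z M h40).trans hc.symm)

/-- The class of `z` is the class of octads. -/
theorem orbit_z : ∀ n < 2048, (inO n = true ↔ InN M 1 n) := by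
  classical
  have hcl : ∀ {i n : ℕ}, i < 7 → n < 2048 → inOrb i n = true → (InN M 1 n ↔ InN M 1 (orbRep.getD i 0)) :=
    fun {i n} hi hn h => const_class (fun f hf n hn => inN_gen M hf hn) hi hn h
  have hr := reps_ok
  simp only [Bool.and_eq_true] at hr
  obtain ⟨⟨⟨⟨⟨r1, r2⟩, r3⟩, r4⟩, r5⟩, r0⟩ := hr
  obtain ⟨h, hh, hhz, hW⟩ := exists_h M.C
  have p1 : InN M 1 1 := ⟨1, one_mem _, by group⟩
  have p3 : InN M 1 3 := ⟨h, hh, by
    rw [M.C.psi_z, hhz, M.C.psi_three, el, pw_one, pw_one]⟩
  have p2 : InN M 1 2 := (hcl (i := 2) (by norm_num) (by norm_num) r3).1 p3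
  let b : ℕ → Bool := fun n => decide (InN M 1 n)
  let m : ℕ := (if b 32 then 1 else 0) + (if b 384 then 2 else 0) + (if b 385 then 4 else 0)
  have hm : ∀ n < 2048, (inOpt m n = true ↔ InN M 1 n) := by
    intro n hn
    obtain ⟨i, hi, hin⟩ := some_class hn
    rw [hcl hi hn hin]
    have hu := List.all_eq_true.1 perm_ok n (List.mem_range.2 hn)
    simp only [decide_eq_true_eq] at hu
    have huniq : ∀ j, j < 7 → j ≠ i → inOrb j n = false := fun j hj hne => by
      by_contra hjt
      simp only [Bool.not_eq_false] at hjt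
      have h2 : 2 ≤ ((List.range 7).filter fun i => inOrb i n).length := by
        have hsub : [i, j] ⊆ (List.range 7).filter fun i => inOrb i n := by
          intro x hx
          simp only [List.mem_cons, List.not_mem_nil, or_false] at hx
          rcases hx with rfl | rfl <;> simp [List.mem_filter, hi, hj, hin, hjt]
        exact (List.subperm_of_subset (by simp [Ne.symm hne]) hsub).length_le
      rw [← List.countP_eq_length_filter, hu] at h2
      omega
    interval_cases i
    · simp only [inOpt, huniq 1 (by norm_num) (by norm_num), huniq 2 (by norm_num) (by norm_num),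
        huniq 3 (by norm_num) (by norm_num), huniq 5 (by norm_num) (by norm_num),
        huniq 6 (by norm_num) (by norm_num)]
      simpa [orbRep] using not_inN_zero M (show (1 : ℕ) < 2048 by norm_num) one_ne_zero
    · simp [inOpt, hin, orbRep, p1]
    · simp [inOpt, hin, orbRep, p2]
    · simp only [inOpt, huniq 1 (by norm_num) (by norm_num), huniq 2 (by norm_num) (by norm_num), hin,
        huniq 5 (by norm_num) (by norm_num), huniq 6 (by norm_num) (by norm_num), m, b, orbRep]
      by_cases h1 : InN M 1 32 <;> by_cases h2 : InN M 1 384 <;> by_cases h3 : InN M 1 385 <;>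
        simp [h1, h2, h3, Nat.testBit, Nat.shiftRight_eq_div_pow]
    · simp only [inOpt, huniq 1 (by norm_num) (by norm_num), huniq 2 (by norm_num) (by norm_num),
        huniq 3 (by norm_num) (by norm_num), huniq 5 (by norm_num) (by norm_num),
        huniq 6 (by norm_num) (by norm_num)]
      simpa [orbRep] using not_conj_forty M
    · simp only [inOpt, huniq 1 (by norm_num) (by norm_num), huniq 2 (by norm_num) (by norm_num), hin,
        huniq 3 (by norm_num) (by norm_num), huniq 6 (by norm_num) (by norm_num), m, b, orbRep]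
      by_cases h1 : InN M 1 32 <;> by_cases h2 : InN M 1 384 <;> by_cases h3 : InN M 1 385 <;>
        simp [h1, h2, h3, Nat.testBit, Nat.shiftRight_eq_div_pow]
    · simp only [inOpt, huniq 1 (by norm_num) (by norm_num), huniq 2 (by norm_num) (by norm_num), hin,
        huniq 3 (by norm_num) (by norm_num), huniq 5 (by norm_num) (by norm_num), m, b, orbRep]
      by_cases h1 : InN M 1 32 <;> by_cases h2 : InN M 1 384 <;> by_cases h3 : InN M 1 385 <;>
        simp [h1, h2, h3, Nat.testBit, Nat.shiftRight_eq_div_pow]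
  have hm0 : m ≠ 0 := by
    intro e
    rw [e] at hm
    have hlow : ∀ n < 2048, InN M 1 n → n < 32 := fun n hn hI => by
      have hs := List.all_eq_true.1 small_ok n (List.mem_range.2 hn)
      simp only [Bool.and_eq_true, Bool.or_eq_true, Bool.not_eq_true', decide_eq_true_eq] at hs
      rcases hs.1.1 with h0 | h0
      · have := (hm n hn).2 hI
        simp [inOpt, Nat.testBit] at this
        rcases this with t | t <;> simp [t] at h0
      · exact h0
    have hall : ∀ n < 32, 1 ≤ n → InN M 1 n := fun n hn h1 => by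
      rcases Nat.eq_or_lt_of_le h1 with e | h2
      · rw [← e]; exact p1
      · have hs := List.all_eq_true.1 small_ok n (List.mem_range.2 (by omega))
        simp only [Bool.and_eq_true, Bool.or_eq_true, Bool.not_eq_true', decide_eq_true_eq,
          decide_eq_false_iff_not] at hs
        exact (hcl (i := 2) (by norm_num) (by omega)
          (hs.1.2.resolve_left fun h => h ⟨h2, hn⟩)).2 p2
    obtain ⟨π, hπ, -, hinj⟩ := exists_perm M hh
    have hπlow : ∀ n : Fin 32, π n.1 < 32 := by
      rintro ⟨n, hn⟩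
      rcases Nat.eq_zero_or_pos n with e0 | e0
      · subst e0
        have h0 := (hπ 0 (by norm_num)).2
        rw [M.C.conj_zero] at h0
        rw [← M.C.inj 0 _ (by norm_num) (hπ 0 (by norm_num)).1 h0]
        norm_num
      · exact hlow _ (hπ n (by omega)).1 ((inN_conj M hh (hπ n (by omega)).2).1 (hall n hn e0))
    have hinj' : Function.Injective fun n : Fin 32 => (⟨π n.1, hπlow n⟩ : Fin 32) := fun x y e =>
      Fin.ext (hinj x.1 (by omega) y.1 (by omega) (congrArg Fin.val e))
    obtain ⟨⟨n, hn⟩, hk⟩ := (Finite.injective_iff_surjective.1 hinj') ⟨4, by norm_num⟩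
    have hk' : π n = 4 := congrArg Fin.val hk
    have hu : M.C.psi 4 ∈ F.W := by
      rw [hW, ← hk', ← (hπ n (by omega)).2]
      exact ⟨_, (M.C.low n hn).1, rfl⟩
    obtain ⟨r, hrR, hre⟩ : ∃ r ∈ F.R, F.y * r * F.y⁻¹ = M.C.psi 4 := hu
    obtain ⟨h4, h4c⟩ := M.C.low 4 (by norm_num)
    have hrQ : r ∈ Q := by
      have : F.y⁻¹ * (F.y * r * F.y⁻¹) * F.y ∈ Q := mul_mem (mul_mem (inv_mem F.hy) (hre ▸ h4)) F.hy
      rwa [show F.y⁻¹ * (F.y * r * F.y⁻¹) * F.y = r by group] at this
    have hsm := F.inter_small hrQ hrR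
    have hcr : D.c r = vc 2 := by
      have e2 : D.c (F.y * r * F.y⁻¹) = D.c r := by
        rw [D.coords.mul _ (mul_mem F.hy hrQ) _ (inv_mem F.hy), D.coords.mul _ F.hy _ hrQ,
          D.coords.c_inv F.hy, add_comm (D.c F.y), add_assoc, Forms59.Inv.add_self_vec, add_zero]
      rw [← e2, hre, h4c]
    rw [hcr] at hsm
    rcases hsm with e' | e'
    · rw [← vc_zero] at e'
      exact absurd (vc_inj (by norm_num) (by norm_num) e') (by norm_num)
    · rw [zero_add] at e'
      exact absurd (vc_inj (by norm_num) (by norm_num) e') (by norm_num)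
  have hm5 : m = 5 := by
    have hlt : m < 8 := by
      show _ + _ + _ < 8
      cases b 32 <;> cases b 384 <;> cases b 385 <;> norm_num
    by_contra hne
    obtain ⟨p, hp, hpm⟩ : ∃ p ∈ ([(1, 2), (2, 2), (3, 384), (4, 2), (6, 384), (7, 2)] : List (ℕ × ℕ)),
        p.1 = m := by
      interval_cases m <;> first | (exact absurd rfl hm0) | (exact absurd rfl hne) | decide
    have hc := List.all_eq_true.1 opt_ok p hp
    rw [hpm] at hc
    simp only [Bool.and_eq_true, bne_iff_ne, ne_eq] at hc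
    have hlt2 : p.2 < 2048 := by
      simp only [List.mem_cons, List.not_mem_nil, or_false] at hp
      rcases hp with rfl | rfl | rfl | rfl | rfl | rfl <;> norm_num
    exact hc.2 (cnt_conj M hm hm hlt2 ((hm p.2 hlt2).1 hc.1)).symm
  intro n hn
  rw [inO, ← hm5]
  exact hm n hn

/-- The remaining nontrivial elements form one class. -/
theorem orbit_rest : ∀ n < 2048, n ≠ 0 → inO n = false → InN M 40 n := by
  classical
  have hcl : ∀ {i n : ℕ}, i < 7 → n < 2048 → inOrb i n = true → (InN M 40 n ↔ InN M 40 (orbRep.getD i 0)) :=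
    fun {i n} hi hn h => const_class (fun f hf n hn => inN_gen M hf hn) hi hn h
  have p40 : InN M 40 40 := ⟨1, one_mem _, by group⟩
  have hO := orbit_z M
  have p384 : InN M 40 384 := by
    by_contra hne
    have hS : ∀ n < 2048, (inOrb 4 n = true ↔ InN M 40 n) := by
      intro n hn
      refine ⟨fun h => (hcl (i := 4) (by norm_num) hn h).2 p40, fun h => ?_⟩
      obtain ⟨i, hi, hin⟩ := some_class hn
      have hPi := (hcl hi hn hin).1 h
      interval_cases i
      · exact absurd (by simpa [orbRep] using hPi) (not_inN_zero M (show (40 : ℕ) < 2048 by norm_num) (by norm_num))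
      · exact absurd (inN_swap M hPi ((hO 1 (by norm_num)).1 (by decide +kernel))) (not_conj_forty M)
      · exact absurd (inN_swap M hPi ((hO 2 (by norm_num)).1 (by decide +kernel))) (not_conj_forty M)
      · exact absurd (inN_swap M hPi ((hO 32 (by norm_num)).1 (by decide +kernel))) (not_conj_forty M)
      · exact hin
      · exact absurd (by simpa [orbRep] using hPi) hne
      · exact absurd (inN_swap M hPi ((hO 385 (by norm_num)).1 (by decide +kernel))) (not_conj_forty M)
    have hc := split_ok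
    simp only [Bool.and_eq_true, bne_iff_ne, ne_eq] at hc
    exact hc.2 (cnt_conj M hO hS (by norm_num) ((hO 2 (by norm_num)).1 hc.1)).symm
  intro n hn h0 hno
  obtain ⟨i, hi, hin⟩ := some_class hn
  refine (hcl hi hn hin).2 ?_
  have hcz := fun j (hj : j < 7) (h : inOrb j n = true) => const_class (fun f hf n hn => inN_gen M hf hn)
    (P := InN M 1) hj hn h
  interval_cases i
  · exfalso
    have h00 : ∀ n : Fin 2048, inOrb 0 n.1 = true → n.1 = 0 := by decide +kernel
    exact h0 (h00 ⟨n, hn⟩ hin)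
  all_goals first
    | exact p40
    | exact p384
    | (exfalso
       have h1 := (hcz _ (by norm_num) hin).2 ((hO _ (by simp [orbRep])).1 (by decide +kernel))
       rw [← hO n hn, hno] at h1
       exact Bool.false_ne_true h1)

end Cfsg.Agent.CoGolay
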