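import Cfsg.Agent.LargeExt10.Golay.Orbit

/-!
# A lower bound for the order of the normaliser
-/

set_option autoImplicit false

namespace Cfsg.Agent.CoGolay

open QuadraticMap Cfsg.Agent.Reflections Cfsg.Agent.LargeExtraspecial Cfsg.Agent.LargeExt10
open Cfsg.Agent.LargeExt10.Co

variable {G : Type*} [Group G] [Finite G] {z : G} {Q : Subgroup G} {D : Co z Q} {F : Frame D}

theorem card_oList : oList.length = 759 := by
  set_option maxRecDepth 40000 in decide +kernel

theorem oList_eq : ∀ n, n ∈ oList ↔ n < 2048 ∧ inO n = true := fun n => by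
  rw [oList, List.mem_filter, List.mem_range]

theorem card_AG (C : Crd F) : Nat.card (AG D) = 2048 := by
  have e : Fin 2048 ≃ AG D := Equiv.ofBijective (fun n => ⟨C.psi n.1, C.mem n.1 n.2⟩) ⟨fun a b h =>
    Fin.ext (C.inj a.1 b.1 a.2 b.2 (congrArg Subtype.val h)), fun ⟨x, hx⟩ => by
    obtain ⟨n, hn, rfl⟩ := C.surj x hx
    exact ⟨⟨n, hn⟩, rfl⟩⟩
  rw [← Nat.card_congr e, Nat.card_eq_fintype_card, Fintype.card_fin]

/-- The coset representatives of one level. -/
theorem exists_level (i : Fin 4) :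
    ∃ g : Fin ([15, 14, 12, 8].getD i.1 0) → G, ∃ f : Fin ([15, 14, 12, 8].getD i.1 0) → ℕ → ℕ,
      (∀ a, Acts D (g a) (f a) ∧ (∀ k < 16, f a k < 16) ∧ ∀ j < i.1, f a (2 ^ j) = 2 ^ j) ∧
        Function.Injective fun a => f a (2 ^ i.1) := by
  have h := levels_ok
  simp only [Bool.and_eq_true, List.all_eq_true, List.mem_range, decide_eq_true_eq, beq_iff_eq, presB] at h
  obtain ⟨⟨hlen, hall⟩, hnd⟩ := h.2 i.1 i.2
  set L := levels.getD i.1 [] with hL
  have hmem : ∀ a : Fin ([15, 14, 12, 8].getD i.1 0), L[a.1]'(by rw [hlen]; exact a.2) ∈ L := fun a => List.getElem_mem _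
  choose g hg using fun a => exists_acts (D := D) _ ((hall _ (hmem a)).1.1)
  refine ⟨g, fun a => wd (L[a.1]'(by rw [hlen]; exact a.2)), fun a => ⟨hg a,
    fun k hk => ((hall _ (hmem a)).1.2 k hk).1.1, (hall _ (hmem a)).2⟩, fun a b e => Fin.ext ?_⟩
  have h1 : (L.map fun w => wd w (2 ^ i.1))[a.1]'(by rw [List.length_map, hlen]; exact a.2) =
      (L.map fun w => wd w (2 ^ i.1))[b.1]'(by rw [List.length_map, hlen]; exact b.2) := by
    simpa using e
  exact (hnd.getElem_inj_iff).1 h1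

theorem local_bound (C : Crd F) :
    660602880 ≤ Nat.card ↥(NG D ⊓ Subgroup.centralizer ({z} : Set G)) := by
  obtain ⟨g0, f0, h0, i0⟩ := exists_level (D := D) 0
  obtain ⟨g1, f1, h1, i1⟩ := exists_level (D := D) 1
  obtain ⟨g2, f2, h2, i2⟩ := exists_level (D := D) 2
  obtain ⟨g3, f3, h3, i3⟩ := exists_level (D := D) 3
  haveI : Finite ↥Q := inferInstance
  let E : (↥Q × Fin 64 × Fin 15 × Fin 14 × Fin 12 × Fin 8) → G := fun x =>
    C.psi (32 * x.2.1.1) * (g0 x.2.2.1 * (g1 x.2.2.2.1 * (g2 x.2.2.2.2.1 * g3 x.2.2.2.2.2))) * x.1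
  have hE : ∀ x, E x ∈ NG D ⊓ Subgroup.centralizer ({z} : Set G) := fun x => by
    have hp : 32 * x.2.1.1 < 2048 := by have := x.2.1.2; omega
    refine ⟨mul_mem (mul_mem (Subgroup.le_normalizer (C.mem _ hp))
      (mul_mem (acts_NG (h0 _).1 (h0 _).2.1) (mul_mem (acts_NG (h1 _).1 (h1 _).2.1)
        (mul_mem (acts_NG (h2 _).1 (h2 _).2.1) (acts_NG (h3 _).1 (h3 _).2.1))))) (Q_le_NG x.1.2), ?_⟩
    exact Subgroup.mem_centralizer_singleton_iff.2 (((AG_cz (C.mem _ hp)).mul_left ((h0 _).1.cz.mul_left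
      ((h1 _).1.cz.mul_left ((h2 _).1.cz.mul_left (h3 _).1.cz)))).mul_left (D.setup.z_commute x.1.2).symm).eq
  have hinj : Function.Injective E := by
    rintro ⟨q, p, a, b, c, d⟩ ⟨q', p', a', b', c', d'⟩ e
    have hp : 32 * p.1 < 2048 := by omega
    have hp' : 32 * p'.1 < 2048 := by omega
    have hA : ∀ (p : Fin 64) a b c d, Acts D (C.psi (32 * p.1) * (g0 a * (g1 b * (g2 c * g3 d))))
        (p6 p.1 ∘ (f0 a ∘ (f1 b ∘ (f2 c ∘ f3 d)))) := fun p a b c d => by
      have h := C.acts (32 * p.1) (by omega)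
      rw [Nat.mul_div_cancel_left _ (by norm_num)] at h
      exact h.mul ((h0 a).1.mul ((h1 b).1.mul ((h2 c).1.mul (h3 d).1)))
    set P := C.psi (32 * p.1) * (g0 a * (g1 b * (g2 c * g3 d))) with hP
    set P' := C.psi (32 * p'.1) * (g0 a' * (g1 b' * (g2 c' * g3 d'))) with hP'
    have e' : P * (q : G) = P' * q' := e
    have hρ : D.ρ P = D.ρ P' := by
      have h := congrArg D.ρ e'
      rw [D.ρ_mul (hA p a b c d).cz (D.setup.z_commute q.2).symm,
        D.ρ_mul (hA p' a' b' c' d').cz (D.setup.z_commute q'.2).symm,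
        (D.ρ_ker (D.setup.z_commute q.2).symm).2 q.2, (D.ρ_ker (D.setup.z_commute q'.2).symm).2 q'.2,
        mul_one, mul_one] at h
      exact h
    have hfix : ∀ (p : Fin 64) (j : ℕ), j < 16 → p6 p.1 j = j := fun p j hj =>
      (show ∀ (p : Fin 64) (j : Fin 16), p6 p.1 j.1 = j.1 by decide +kernel) p ⟨j, hj⟩
    have hval : ∀ j < 4, f0 a (f1 b (f2 c (f3 d (2 ^ j)))) = f0 a' (f1 b' (f2 c' (f3 d' (2 ^ j)))) := by
      intro j hj
      have hj16 : 2 ^ j < 16 := Nat.pow_lt_pow_right (a := 2) (n := 4) (by norm_num) hj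
      have e1 := ((hA p a b c d).rep _ (by omega : 2 ^ j < 256)).2
      have e2 := ((hA p' a' b' c' d').rep _ (by omega : 2 ^ j < 256)).2
      rw [hρ, e2] at e1
      have hlt : ∀ a b c d, f0 a (f1 b (f2 c (f3 d (2 ^ j)))) < 16 := fun a b c d =>
        (h0 a).2.1 _ ((h1 b).2.1 _ ((h2 c).2.1 _ ((h3 d).2.1 _ hj16)))
      simp only [Function.comp_apply] at e1
      rw [hfix p _ (hlt a b c d), hfix p' _ (hlt a' b' c' d')] at e1
      exact (vc_inj (by have := hlt a' b' c' d'; omega) (by have := hlt a b c d; omega) e1).symm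
    have inj : ∀ {g : G} {f : ℕ → ℕ}, Acts D g f → ∀ {x y : ℕ}, x < 256 → y < 256 → f x = f y → x = y :=
      fun {g f} h {x y} hx hy e => vc_inj hx hy (act_injective _
        (by rw [(h.rep x hx).2, (h.rep y hy).2, e]))
    have lt3 : ∀ d, ∀ j < 4, f3 d (2 ^ j) < 16 := fun d j hj =>
      (h3 d).2.1 _ (Nat.pow_lt_pow_right (a := 2) (n := 4) (by norm_num) hj)
    have lt2 : ∀ c d, ∀ j < 4, f2 c (f3 d (2 ^ j)) < 16 := fun c d j hj => (h2 c).2.1 _ (lt3 d j hj)
    have lt1 : ∀ b c d, ∀ j < 4, f1 b (f2 c (f3 d (2 ^ j))) < 16 := fun b c d j hj =>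
      (h1 b).2.1 _ (lt2 c d j hj)
    obtain rfl : a = a' := i0 (by
      have h := hval 0 (by norm_num)
      rwa [(h3 d).2.2 0 (by norm_num), (h2 c).2.2 0 (by norm_num), (h1 b).2.2 0 (by norm_num),
        (h3 d').2.2 0 (by norm_num), (h2 c').2.2 0 (by norm_num), (h1 b').2.2 0 (by norm_num)] at h)
    have v1 : ∀ j < 4, f1 b (f2 c (f3 d (2 ^ j))) = f1 b' (f2 c' (f3 d' (2 ^ j))) := fun j hj =>
      inj (h0 a).1 (by have := lt1 b c d j hj; omega) (by have := lt1 b' c' d' j hj; omega) (hval j hj)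
    obtain rfl : b = b' := i1 (by
      have h := v1 1 (by norm_num)
      rwa [(h3 d).2.2 1 (by norm_num), (h2 c).2.2 1 (by norm_num), (h3 d').2.2 1 (by norm_num),
        (h2 c').2.2 1 (by norm_num)] at h)
    have v2 : ∀ j < 4, f2 c (f3 d (2 ^ j)) = f2 c' (f3 d' (2 ^ j)) := fun j hj =>
      inj (h1 b).1 (by have := lt2 c d j hj; omega) (by have := lt2 c' d' j hj; omega) (v1 j hj)
    obtain rfl : c = c' := i2 (by
      have h := v2 2 (by norm_num)
      rwa [(h3 d).2.2 2 (by norm_num), (h3 d').2.2 2 (by norm_num)] at h)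
    obtain rfl : d = d' := i3 (inj (h2 c).1 (by have := lt3 d 3 (by norm_num); exact lt_trans this (by norm_num))
      (by have := lt3 d' 3 (by norm_num); exact lt_trans this (by norm_num)) (v2 3 (by norm_num)))
    have hpp : p = p' := by
      have hrest := ((h0 a).1.mul ((h1 b).1.mul ((h2 c).1.mul (h3 d).1))).cz
      have h32 : ∀ p : Fin 64, Acts D (C.psi (32 * p.1)) (p6 p.1) := fun p => by
        have := C.acts (32 * p.1) (by omega)
        rwa [Nat.mul_div_cancel_left _ (by norm_num)] at this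
      rw [hP, hP', D.ρ_mul (h32 p).cz hrest, D.ρ_mul (h32 p').cz hrest] at hρ
      have hq := mul_right_cancel hρ
      have hs := acts_p6_mul p.2 p'.2 (h32 p) (h32 p')
      have h := List.all_eq_true.1 p6_faithful (p.1 ^^^ p'.1)
        (List.mem_range.2 (Nat.xor_lt_two_pow (n := 6) p.2 p'.2))
      simp only [Bool.or_eq_true, beq_iff_eq, List.any_eq_true, bne_iff_ne, ne_eq] at h
      rcases h with h0 | ⟨v, hv, hne⟩
      · exact Fin.ext (Nat.xor_eq_zero_iff.1 h0)
      · exfalso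
        have h1 := (hs.rep v (imgs8_lt v hv)).2
        have hsq := acts_p6_mul p.2 p.2 (h32 p) (h32 p)
        rw [Nat.xor_self] at hsq
        have e0 : D.ρ (C.psi (32 * p.1)) * D.ρ (C.psi (32 * p'.1)) = 1 := by
          rw [← hq, ← D.ρ_mul (h32 p).cz (h32 p).cz, ← C.hom, Nat.xor_self, C.psi_zero, D.rho_one]
        rw [D.ρ_mul (h32 p).cz (h32 p').cz, e0, OrthCohom.act_one'] at h1
        exact hne (vc_inj (imgs8_lt v hv) (hs.rep v (imgs8_lt v hv)).1 h1).symm
    subst hpp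
    obtain rfl : q = q' := Subtype.ext (mul_left_cancel e')
    rfl
  have hc := Nat.card_le_card_of_injective (fun x => (⟨E x, hE x⟩ : ↥(NG D ⊓ Subgroup.centralizer ({z} : Set G))))
    fun x y e => hinj (congrArg Subtype.val e)
  rw [Nat.card_prod, D.card, Nat.card_eq_fintype_card] at hc
  simpa using hc

theorem card_bound (M : Model F) : 244823040 * Nat.card (AG D) ≤ Nat.card ↥(NG D) := by
  classical
  let O := {n : Fin 2048 // inO n.1 = true}
  choose g hgN hge using fun n : O => (orbit_z M n.1.1 n.1.2).1 n.2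
  let f : O × ↥(NG D ⊓ Subgroup.centralizer ({z} : Set G)) → ↥(NG D) := fun x =>
    ⟨g x.1 * x.2, mul_mem (hgN x.1) x.2.2.1⟩
  have hinj : Function.Injective f := by
    rintro ⟨n, c⟩ ⟨n', c'⟩ e
    have e' : g n * (c : G) = g n' * c' := congrArg Subtype.val e
    have hc : ∀ c : ↥(NG D ⊓ Subgroup.centralizer ({z} : Set G)), (c : G) * M.C.psi 1 * (c : G)⁻¹ = M.C.psi 1 :=
      fun c => by
        rw [M.C.psi_z, Subgroup.mem_centralizer_singleton_iff.1 c.2.2, mul_inv_cancel_right]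
    have hval : ∀ (n : O) (c : ↥(NG D ⊓ Subgroup.centralizer ({z} : Set G))),
        g n * (c : G) * M.C.psi 1 * (g n * (c : G))⁻¹ = M.C.psi n.1.1 := fun n c => by
      rw [show g n * (c : G) * M.C.psi 1 * (g n * (c : G))⁻¹ = g n * ((c : G) * M.C.psi 1 * (c : G)⁻¹) * (g n)⁻¹ by
        group, hc, hge]
    have h := hval n c
    rw [e', hval n' c'] at h
    obtain rfl : n = n' := Subtype.ext (Fin.ext (M.C.inj _ _ n.1.2 n'.1.2 h.symm))
    obtain rfl : c = c' := Subtype.ext (mul_left_cancel e')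
    rfl
  have hO : Nat.card O = 759 := by
    rw [← card_oList]
    have e : O ≃ {n // n ∈ oList} :=
      { toFun := fun n => ⟨n.1.1, (oList_eq _).2 ⟨n.1.2, n.2⟩⟩
        invFun := fun n => ⟨⟨n.1, ((oList_eq _).1 n.2).1⟩, ((oList_eq _).1 n.2).2⟩
        left_inv := fun _ => rfl
        right_inv := fun _ => rfl }
    rw [Nat.card_congr e, Nat.card_eq_fintype_card]
    rw [Fintype.card_of_subtype oList.toFinset (fun x => List.mem_toFinset),
      List.toFinset_card_of_nodup (by unfold oList; exact List.Nodup.filter _ List.nodup_range)]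
  have h := Nat.card_le_card_of_injective f hinj
  rw [Nat.card_prod, hO] at h
  have hl := local_bound M.C
  rw [card_AG M.C]
  omega

end Cfsg.Agent.CoGolay
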