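import Cfsg.Agent.LargeExt10.Golay.Order
import Cfsg.Agent.LargeExt10.Golay.Dual
import Cfsg.Agent.LFType10.Points

/-!
# The quotient of the normaliser is `M24`, through its action on the functionals
-/

set_option autoImplicit false

namespace Cfsg.Agent.CoGolay

open QuadraticMap Cfsg.Agent.Reflections Cfsg.Agent.LargeExtraspecial Cfsg.Agent.LargeExt10
open Cfsg.Agent.LargeExt10.Co

variable {G : Type*} [Group G] [Finite G] {z : G} {Q : Subgroup G} {D : Co z Q} {F : Frame D}

theorem fin_ext {x y : Fin 2048} (h : ∀ n < 2048, odd n x.1 = odd n y.1) : x = y := by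
  refine Fin.ext (Nat.eq_of_testBit_eq fun b => ?_)
  rcases lt_or_ge b 11 with hb | hb
  · rw [← odd_bit hb x.2, ← odd_bit hb y.2]
    exact h _ (Nat.pow_lt_pow_right (a := 2) (by norm_num) hb)
  · have hp : 2048 ≤ 2 ^ b := le_trans (by norm_num) (Nat.pow_le_pow_right (by norm_num : 0 < 2) hb)
    rw [Nat.testBit_lt_two_pow (lt_of_lt_of_le x.2 hp), Nat.testBit_lt_two_pow (lt_of_lt_of_le y.2 hp)]

/-- A translation of the functionals. -/
def trP (k : Fin 2048) : Equiv.Perm (Fin 2048) where
  toFun x := ⟨x.1 ^^^ k.1, Nat.xor_lt_two_pow (n := 11) x.2 k.2⟩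
  invFun x := ⟨x.1 ^^^ k.1, Nat.xor_lt_two_pow (n := 11) x.2 k.2⟩
  left_inv x := Fin.ext (by simp [Nat.xor_assoc])
  right_inv x := Fin.ext (by simp [Nat.xor_assoc])

theorem bits11 : ∀ (f : Fin 11 → Bool), ∃ k : Fin 2048, ∀ b : Fin 11, k.1.testBit b.1 = f b := by
  classical
  intro f
  let k : Fin 2048 := ⟨(List.range 11).foldr (fun b m => (if h : b < 11 then (if f ⟨b, h⟩ then 2 ^ b else 0) else 0) ^^^ m) 0, by
    have : ∀ L : List ℕ, (L.foldr (fun b m => (if h : b < 11 then (if f ⟨b, h⟩ then 2 ^ b else 0) else 0) ^^^ m) 0) < 2048 := by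
      intro L
      induction L with
      | nil => exact Nat.zero_lt_succ _
      | cons b r ih =>
        refine Nat.xor_lt_two_pow (n := 11) ?_ ih
        split
        · split
          · exact Nat.pow_lt_pow_right (a := 2) (by norm_num) ‹_›
          · norm_num
        · norm_num
    exact this _⟩
  refine ⟨k, fun b => ?_⟩
  have key : ∀ (L : List ℕ), L.Nodup →
      (L.foldr (fun b m => (if h : b < 11 then (if f ⟨b, h⟩ then 2 ^ b else 0) else 0) ^^^ m) 0).testBit b.1 =
        (decide (b.1 ∈ L) && f b) := by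
    intro L
    induction L with
    | nil => intro _; simp
    | cons c r ih =>
      intro hnd
      rw [List.nodup_cons] at hnd
      rw [List.foldr_cons, Nat.testBit_xor, ih hnd.2]
      by_cases hc : c = b.1
      · subst hc
        simp only [b.2, dif_pos, List.mem_cons, true_or, decide_true, Bool.true_and, hnd.1, decide_false,
          Bool.false_and, Bool.xor_false]
        cases f b <;> simp
      · have : ((if h : c < 11 then (if f ⟨c, h⟩ then 2 ^ c else 0) else 0)).testBit b.1 = false := by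
          split
          · split
            · exact Nat.testBit_two_pow_of_ne hc
            · exact Nat.zero_testBit _
          · exact Nat.zero_testBit _
        rw [this, Bool.false_xor]
        simp [List.mem_cons, Ne.symm hc]
  rw [key _ List.nodup_range]
  simp [b.2]

/-- The action of the normaliser on the functionals. -/
structure Dual (M : Model F) (g : G) (p : Equiv.Perm (Fin 2048)) : Prop where
  mem : g ∈ NG D
  spec : ∀ (k : Fin 2048) (n m : ℕ), n < 2048 → m < 2048 → g⁻¹ * M.C.psi n * g = M.C.psi m →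
    odd n (p k).1 = odd m k.1

variable (M : Model F)

theorem exists_code_inv {g : G} (hg : g ∈ NG D) {n : ℕ} (hn : n < 2048) :
    ∃ m < 2048, g⁻¹ * M.C.psi n * g = M.C.psi m := by
  have h := (Subgroup.mem_normalizer_iff.1 (inv_mem hg) _).1 (M.C.mem n hn)
  rw [inv_inv] at h
  obtain ⟨m, hm, e⟩ := M.C.surj _ h
  exact ⟨m, hm, e.symm⟩

theorem Dual.unique {g : G} {p p' : Equiv.Perm (Fin 2048)} (h : Dual M g p) (h' : Dual M g p') : p = p' :=
  Equiv.ext fun k => fin_ext fun n hn => by
    obtain ⟨m, hm, e⟩ := exists_code_inv M h.mem hn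
    rw [h.spec k n m hn hm e, h'.spec k n m hn hm e]

theorem exists_dual {g : G} (hg : g ∈ NG D) : ∃ p, Dual M g p := by
  classical
  obtain ⟨π, hπ, hlin, hinj⟩ := exists_perm M (inv_mem hg)
  have hk : ∀ k : Fin 2048, ∃ k' : Fin 2048, ∀ b : Fin 11, k'.1.testBit b.1 = odd (π (2 ^ b.1)) k.1 :=
    fun k => bits11 fun b => odd (π (2 ^ b.1)) k.1
  choose T hT using hk
  have key : ∀ (k : Fin 2048) (n : ℕ), n < 2048 → odd n (T k).1 = odd (π n) k.1 := by
    intro k n hn
    have h0 : π 0 = 0 := by
      have h := hlin 0 (by norm_num) 0 (by norm_num)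
      simp only [Nat.xor_self] at h
      exact h
    have hodd0 : ∀ k, odd 0 k = false := fun k => by
      rw [odd, xl_zero]; exact Nat.zero_testBit _
    have main : ∀ (L : List ℕ) (m : ℕ), (∀ x ∈ L, ∃ b < 11, x = 2 ^ b) →
        xl L m < 2048 ∧ odd (xl L m) (T k).1 = odd (π (xl L m)) k.1 := by
      intro L
      induction L with
      | nil => intro m _; refine ⟨Nat.zero_lt_succ _, ?_⟩; rw [show xl [] m = 0 from rfl, h0, hodd0, hodd0]
      | cons x r ih =>
        intro m hL
        obtain ⟨b, hb, rfl⟩ := hL _ List.mem_cons_self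
        obtain ⟨h1, h2⟩ := ih (m / 2) fun y hy => hL y (List.mem_cons_of_mem _ hy)
        have hb' : 2 ^ b < 2048 := Nat.pow_lt_pow_right (a := 2) (by norm_num) hb
        simp only [xl, Cfsg.Agent.Golay.combAux] at h1 h2 ⊢
        cases m.testBit 0
        · simpa using ⟨h1, h2⟩
        · simp only [if_true]
          refine ⟨Nat.xor_lt_two_pow (n := 11) hb' h1, ?_⟩
          rw [hlin _ hb' _ h1, odd_xor, odd_xor, h2, odd_bit hb (T k).2, hT k ⟨b, hb⟩]
    have h := (main pows n fun x hx => by
      rw [pows_eq, List.mem_map] at hx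
      obtain ⟨b, hb, rfl⟩ := hx
      exact ⟨b, List.mem_range.1 hb, rfl⟩).2
    rwa [show xl pows n = n from xl_pows hn] at h
  have hTinj : Function.Injective T := fun k k' e => fin_ext fun n hn => by
    have hi : Function.Injective fun i : Fin 2048 => (⟨π i.1, (hπ i.1 i.2).1⟩ : Fin 2048) :=
      fun x y e => Fin.ext (hinj x.1 x.2 y.1 y.2 (congrArg Fin.val e))
    obtain ⟨m, hm⟩ := (Finite.injective_iff_surjective.1 hi) ⟨n, hn⟩
    have hm' : π m.1 = n := congrArg Fin.val hm
    rw [← hm', ← key k m.1 m.2, ← key k' m.1 m.2, e]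
  refine ⟨Equiv.ofBijective T (Finite.injective_iff_bijective.1 hTinj), hg, fun k n m hn hm e => ?_⟩
  have h := (hπ n hn).2
  rw [inv_inv, e] at h
  rw [Equiv.ofBijective_apply, key k n hn, M.C.inj _ _ (hπ n hn).1 hm h.symm]

theorem Dual.mul {g h : G} {p q : Equiv.Perm (Fin 2048)} (hg : Dual M g p) (hh : Dual M h q) :
    Dual M (g * h) (p * q) := by
  refine ⟨mul_mem hg.mem hh.mem, fun k n m hn hm e => ?_⟩
  obtain ⟨l, hl, el⟩ := exists_code_inv M hg.mem hn
  rw [Equiv.Perm.mul_apply, hg.spec _ n l hn hl el]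
  refine hh.spec k l m hl hm ?_
  rw [← el, ← e]; group

theorem dual_one : Dual M 1 1 :=
  ⟨one_mem _, fun k n m hn hm e => by
    rw [inv_one, one_mul, mul_one] at e
    rw [M.C.inj n m hn hm e, Equiv.Perm.one_apply]⟩

theorem odd_right {n x k : ℕ} (hn : n < 2048) (hx : x < 2048) (hk : k < 2048) :
    odd n (x ^^^ k) = xor (odd n x) (odd n k) := by
  have hxk : x ^^^ k < 2048 := Nat.xor_lt_two_pow (n := 11) hx hk
  have main : ∀ (L : List ℕ) (m : ℕ), (∀ y ∈ L, ∃ b < 11, y = 2 ^ b) →
      odd (xl L m) (x ^^^ k) = xor (odd (xl L m) x) (odd (xl L m) k) := by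
    intro L
    induction L with
    | nil => intro m _; simp [odd, xl, Cfsg.Agent.Golay.combAux, show Cfsg.Agent.Golay.combAux colMasks 0 = 0 from xl_zero _]
    | cons y r ih =>
      intro m hL
      obtain ⟨b, hb, rfl⟩ := hL _ List.mem_cons_self
      have h := ih (m / 2) fun w hw => hL w (List.mem_cons_of_mem _ hw)
      simp only [xl, Cfsg.Agent.Golay.combAux] at h ⊢
      cases m.testBit 0
      · simpa using h
      · simp only [if_true]
        rw [odd_xor, odd_xor, odd_xor, h, odd_bit hb hxk, odd_bit hb hx, odd_bit hb hk, Nat.testBit_xor]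
        generalize x.testBit b = p
        generalize k.testBit b = q
        generalize odd (Cfsg.Agent.Golay.combAux r (m / 2)) x = u
        generalize odd (Cfsg.Agent.Golay.combAux r (m / 2)) k = v
        revert p q u v; decide
  have h := main pows n fun y hy => by
    rw [pows_eq, List.mem_map] at hy
    obtain ⟨b, hb, rfl⟩ := hy
    exact ⟨b, List.mem_range.1 hb, rfl⟩
  rwa [show xl pows n = n from xl_pows hn] at h

theorem Dual.xor {g : G} {p : Equiv.Perm (Fin 2048)} (h : Dual M g p) (x k : Fin 2048) :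
    p (trP k x) = trP (p k) (p x) := fin_ext fun n hn => by
  obtain ⟨m, hm, e⟩ := exists_code_inv M h.mem hn
  rw [h.spec _ n m hn hm e]
  show odd m (x.1 ^^^ k.1) = odd n ((p x).1 ^^^ (p k).1)
  rw [odd_right hm x.2 k.2, odd_right hn (p x).2 (p k).2, h.spec x n m hn hm e, h.spec k n m hn hm e]

theorem trP_mul (j k : Fin 2048) : trP j * trP k = trP ⟨k.1 ^^^ j.1, Nat.xor_lt_two_pow (n := 11) k.2 j.2⟩ :=
  Equiv.ext fun x => Fin.ext (Nat.xor_assoc _ _ _)

theorem trP_zero : trP 0 = 1 := Equiv.ext fun x => Fin.ext (Nat.xor_zero _)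

theorem trP_inv (k : Fin 2048) : (trP k)⁻¹ = trP k :=
  inv_eq_of_mul_eq_one_left (Equiv.ext fun x => Fin.ext (by
    show (x.1 ^^^ k.1) ^^^ k.1 = x.1
    rw [Nat.xor_assoc, Nat.xor_self, Nat.xor_zero]))

theorem trP_apply_zero (k : Fin 2048) : trP k 0 = k := Fin.ext (Nat.zero_xor _)

theorem Dual.apply_zero {g : G} {p : Equiv.Perm (Fin 2048)} (h : Dual M g p) : p 0 = 0 :=
  fin_ext fun n hn => by
    obtain ⟨m, hm, e⟩ := exists_code_inv M h.mem hn
    rw [h.spec 0 n m hn hm e]
    have : ∀ n, n < 2048 → odd n 0 = false := fun n hn => by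
      have h := odd_right hn (show (0 : ℕ) < 2048 by norm_num) (show (0 : ℕ) < 2048 by norm_num)
      rw [Nat.xor_self] at h
      simpa using h
    show odd m 0 = odd n 0
    rw [this m hm, this n hn]

theorem Dual.conj_tr {g : G} {p : Equiv.Perm (Fin 2048)} (h : Dual M g p) (k : Fin 2048) :
    p * trP k * p⁻¹ = trP (p k) := Equiv.ext fun x => by
  rw [Equiv.Perm.mul_apply, Equiv.Perm.mul_apply, h.xor, show p (p⁻¹ x) = x from p.apply_symm_apply x]

/-- The affine group. -/
def affG : Subgroup (Equiv.Perm (Fin 2048)) where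
  carrier := {p | ∃ k g q, Dual M g q ∧ p = trP k * q}
  one_mem' := ⟨0, 1, 1, dual_one M, by rw [trP_zero, one_mul]⟩
  mul_mem' := by
    rintro _ _ ⟨k, g, q, hq, rfl⟩ ⟨k', g', q', hq', rfl⟩
    refine ⟨⟨(q k').1 ^^^ k.1, Nat.xor_lt_two_pow (n := 11) (q k').2 k.2⟩, g * g', q * q', hq.mul M hq', ?_⟩
    rw [← trP_mul, ← hq.conj_tr M k']
    group
  inv_mem' := by
    rintro _ ⟨k, g, q, hq, rfl⟩
    obtain ⟨q', hq'⟩ := exists_dual M (inv_mem hq.mem)
    have e : q' * q = 1 := by
      refine ((hq'.mul M hq)).unique M ?_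
      rw [inv_mul_cancel]; exact dual_one M
    refine ⟨q' k, g⁻¹, q', hq', ?_⟩
    rw [mul_inv_rev, trP_inv, inv_eq_of_mul_eq_one_left e, ← hq'.conj_tr M k, inv_mul_cancel_right]

/-- A translation in the affine group. -/
def trA (k : Fin 2048) : ↥(affG M) :=
  ⟨trP k, k, 1, 1, dual_one M, by rw [mul_one]⟩

theorem trA_mul (j k : Fin 2048) : trA M j * trA M k = trA M ⟨k.1 ^^^ j.1, Nat.xor_lt_two_pow (n := 11) k.2 j.2⟩ :=
  Subtype.ext (trP_mul j k)

theorem trA_inj {j k : Fin 2048} (h : trA M j = trA M k) : j = k := by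
  have := congrArg (fun p : ↥(affG M) => p.1 0) h
  rwa [show (trA M j).1 0 = j from trP_apply_zero j, show (trA M k).1 0 = k from trP_apply_zero k] at this

/-- The translations. -/
def transl : Subgroup ↥(affG M) where
  carrier := {p | ∃ k, p = trA M k}
  one_mem' := ⟨0, Subtype.ext trP_zero.symm⟩
  mul_mem' := by
    rintro _ _ ⟨j, rfl⟩ ⟨k, rfl⟩
    exact ⟨_, trA_mul M j k⟩
  inv_mem' := by
    rintro _ ⟨k, rfl⟩
    exact ⟨k, Subtype.ext (trP_inv k)⟩

/-- A translation by a duad. -/
def IsDuad (p : ↥(affG M)) : Prop := ∃ k, duad k.1 = true ∧ p = trA M k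

theorem cent_transl : Subgroup.centralizer (transl M : Set ↥(affG M)) ≤ transl M := by
  intro p hp
  refine ⟨p.1 0, Subtype.ext (Equiv.ext fun x => ?_)⟩
  have h := congrArg (fun q : ↥(affG M) => q.1 0) ((Subgroup.mem_centralizer_iff.1 hp) _ ⟨x, rfl⟩)
  simp only [Subgroup.coe_mul, Equiv.Perm.mul_apply] at h
  rw [show (trA M x).1 0 = x from trP_apply_zero x] at h
  rw [← h]
  show trP x (p.1 0) = trP (p.1 0) x
  exact Fin.ext (Nat.xor_comm _ _)

theorem conj_trA (p : ↥(affG M)) (k : Fin 2048) : ∃ g q, Dual M g q ∧ p * trA M k * p⁻¹ = trA M (q k) := by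
  obtain ⟨k0, g, q, hq, e⟩ := p.2
  refine ⟨g, q, hq, Subtype.ext ?_⟩
  show p.1 * trP k * p.1⁻¹ = trP (q k)
  rw [e, show trP k0 * q * trP k * (trP k0 * q)⁻¹ = trP k0 * (q * trP k * q⁻¹) * (trP k0)⁻¹ by group,
    hq.conj_tr M k, trP_inv, trP_mul, trP_mul]
  congr 1
  exact Fin.ext (show k0.1 ^^^ ((q k).1 ^^^ k0.1) = (q k).1 by
    rw [Nat.xor_comm (q k).1, ← Nat.xor_assoc, Nat.xor_self, Nat.zero_xor])

theorem normal_transl : Subgroup.normalizer (transl M : Set ↥(affG M)) = ⊤ := by
  haveI : (transl M).Normal := ⟨fun x hx p => by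
    obtain ⟨k, rfl⟩ := hx
    obtain ⟨g, q, -, e⟩ := conj_trA M p k
    exact ⟨q k, e⟩⟩
  exact Subgroup.normalizer_eq_top _

theorem filter_filter_range (N : ℕ) (p q : ℕ → Bool) : (((List.range N).filter p).filter q).length =
    ((Finset.range N).filter fun n => (p n && q n) = true).card := by
  rw [List.filter_filter, ← length_filter_range]
  congr 1
  exact List.filter_congr fun x _ => Bool.and_comm _ _

theorem duad_dual {g : G} {q : Equiv.Perm (Fin 2048)} (hq : Dual M g q) (k : Fin 2048) :
    duad (q k).1 = duad k.1 := by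
  obtain ⟨π, hπ, -, hinj⟩ := exists_perm M (inv_mem hq.mem)
  have hcount : ∀ k, (oList.filter fun n => odd n k).length =
      ((Finset.range 2048).filter fun n => (inO n && odd n k) = true).card := fun k => by
    exact filter_filter_range 2048 inO fun n => odd n k
  rw [Bool.eq_iff_iff, duad_iff, duad_iff, hcount, hcount]
  suffices h : ((Finset.range 2048).filter fun n => (inO n && odd n (q k).1) = true).card =
      ((Finset.range 2048).filter fun n => (inO n && odd n k.1) = true).card by rw [h]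
  refine Finset.card_bij (fun n _ => π n) ?_ ?_ ?_
  · intro n hn
    simp only [Finset.mem_filter, Finset.mem_range, Bool.and_eq_true] at hn ⊢
    obtain ⟨hn, h1, h2⟩ := hn
    have e := (hπ n hn).2
    refine ⟨(hπ n hn).1, (orbit_z M _ (hπ n hn).1).2 ((inN_conj M (inv_mem hq.mem) e).1 ((orbit_z M n hn).1 h1)), ?_⟩
    rw [inv_inv] at e
    rw [← hq.spec k n _ hn (hπ n hn).1 e]
    exact h2
  · intro m hm n hn e
    simp only [Finset.mem_filter, Finset.mem_range] at hm hn
    exact hinj m hm.1 n hn.1 e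
  · intro m hm
    simp only [Finset.mem_filter, Finset.mem_range, Bool.and_eq_true] at hm
    obtain ⟨hm, h1, h2⟩ := hm
    have hi : Function.Injective fun i : Fin 2048 => (⟨π i.1, (hπ i.1 i.2).1⟩ : Fin 2048) :=
      fun x y e => Fin.ext (hinj x.1 x.2 y.1 y.2 (congrArg Fin.val e))
    obtain ⟨⟨n, hn⟩, hk⟩ := (Finite.injective_iff_surjective.1 hi) ⟨m, hm⟩
    have hk' : π n = m := congrArg Fin.val hk
    have e := (hπ n hn).2
    refine ⟨n, ?_, hk'⟩
    simp only [Finset.mem_filter, Finset.mem_range, Bool.and_eq_true]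
    rw [hk'] at e
    refine ⟨hn, (orbit_z M n hn).2 ((inN_conj M (inv_mem hq.mem) e).2 ((orbit_z M m hm).1 h1)), ?_⟩
    rw [inv_inv] at e
    rw [hq.spec k n m hn hm e]
    exact h2

theorem dualCols_lt (k : ℕ) : xl dualCols k < 2048 := xl_lt _ _ 11 dual_lt

/-- The code of the functional of a point code. -/
def dcode (k : ℕ) : Fin 2048 := ⟨xl dualCols k, dualCols_lt k⟩

theorem duad_range (N : ℕ) (h : ((List.range N).all fun k => duad (xl dualCols k) == LFType10.TM.testBit k) = true)
    {k : ℕ} (hk : k < N) : duad (dcode k).1 = LFType10.TM.testBit k :=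
  beq_iff_eq.1 (List.all_eq_true.1 h k (List.mem_range.2 hk))

theorem dcode_inj_of (N : ℕ) (h : ((List.range N).all fun k => k == 0 || xl dualCols k != 0) = true)
    {a b : ℕ} (hab : a ^^^ b < N) (e : dcode a = dcode b) : a = b := by
  have e' : xl dualCols a = xl dualCols b := congrArg Fin.val e
  have h := List.all_eq_true.1 h (a ^^^ b) (List.mem_range.2 hab)
  rw [xl_xor, e', Nat.xor_self] at h
  simp only [bne_self_eq_false, Bool.or_false, beq_iff_eq] at h
  exact Nat.xor_eq_zero_iff.1 h

theorem dcode_inj {a b : ℕ} (ha : a < 2048) (hb : b < 2048) (e : dcode a = dcode b) : a = b :=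
  dcode_inj_of 2048 dual_inj (Nat.xor_lt_two_pow (n := 11) ha hb) e

/-- Coordinates for the functionals. -/
def dualCoords : LFType10.Coords (transl M) (IsDuad M) where
  psi k := trA M (dcode k)
  mem k _ := ⟨_, rfl⟩
  surj := by
    rintro _ ⟨k, rfl⟩
    have hi : Function.Injective fun i : Fin 2048 => dcode i.1 :=
      fun a b e => Fin.ext (dcode_inj a.2 b.2 e)
    obtain ⟨i, hi'⟩ := (Finite.injective_iff_surjective.1 hi) k
    exact ⟨i.1, i.2, congrArg (trA M) hi'⟩
  hom a b _ _ := by
    rw [trA_mul]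
    congr 1
    exact Fin.ext (show xl dualCols (a ^^^ b) = xl dualCols b ^^^ xl dualCols a by rw [xl_xor, Nat.xor_comm])
  inj a b ha hb e := dcode_inj ha hb (trA_inj M e)
  hT k hk := by
    rw [← duad_range 2048 duad_ok hk]
    exact ⟨fun ⟨j, hj, e⟩ => by rw [trA_inj M e]; exact hj, fun hj => ⟨_, hj, rfl⟩⟩
  conjT p a := by
    have one : ∀ p a, IsDuad M a → IsDuad M (p * a * p⁻¹) := by
      rintro p _ ⟨k, hk, rfl⟩
      obtain ⟨g, q, hq, e⟩ := conj_trA M p k
      exact ⟨q k, by rw [duad_dual M hq]; exact hk, e⟩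
    refine ⟨fun h => ?_, one p a⟩
    have := one p⁻¹ _ h
    rwa [show p⁻¹ * (p * a * p⁻¹) * p⁻¹⁻¹ = a by group] at this

include M in
/-- The quotient of the normaliser. -/
theorem quot_M24 : ∃ _ : ((AG D).subgroupOf (NG D)).Normal,
    Nonempty (↥(NG D) ⧸ (AG D).subgroupOf (NG D) ≃* ↥M24) := by
  classical
  choose p hp using fun g : ↥(NG D) => exists_dual M g.2
  let φ : ↥(NG D) →* ↥(Subgroup.normalizer (transl M : Set ↥(affG M))) :=
    MonoidHom.mk' (fun g => ⟨⟨p g, 0, g.1, p g, hp g, by rw [trP_zero, one_mul]⟩,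
      by rw [normal_transl]; trivial⟩) fun a b =>
      Subtype.ext (Subtype.ext ((hp (a * b)).unique M ((hp a).mul M (hp b))))
  let ψ := (dualCoords M).toM24.comp φ
  have hker : ψ.ker = (AG D).subgroupOf (NG D) := by
    ext g
    rw [MonoidHom.mem_ker, Subgroup.mem_subgroupOf]
    have hk : ψ g = 1 ↔ (⟨p g, 0, g.1, p g, hp g, by rw [trP_zero, one_mul]⟩ : ↥(affG M)) ∈ transl M := by
      show (dualCoords M).toM24 (φ g) = 1 ↔ _
      rw [← MonoidHom.mem_ker, (dualCoords M).ker_toM24 (cent_transl M), Subgroup.mem_subgroupOf]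
      rfl
    rw [hk]
    constructor
    · rintro ⟨k, hk⟩
      have hk' : p g = trP k := congrArg Subtype.val hk
      have hk0 : k = 0 := by
        have := (hp g).apply_zero
        rwa [hk', trP_apply_zero] at this
      subst hk0
      rw [trP_zero] at hk'
      refine cent_AG (Subgroup.mem_centralizer_iff.2 fun a ha => ?_)
      obtain ⟨n, hn, rfl⟩ := M.C.surj a ha
      obtain ⟨m, hm, e⟩ := exists_code_inv M g.2 hn
      have hnm : n = m := Nat.eq_of_testBit_eq fun b => by
        rcases lt_or_ge b 11 with hb | hb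
        · obtain ⟨k, hkb⟩ := bits11 fun i => decide (i.1 = b)
          have hs := (hp g).spec k n m hn hm e
          rw [hk', Equiv.Perm.one_apply] at hs
          have hpow : k.1 = 2 ^ b := Nat.eq_of_testBit_eq fun j => by
            rcases lt_or_ge j 11 with hj | hj
            · rw [hkb ⟨j, hj⟩, Nat.testBit_two_pow]
              simp [eq_comm]
            · rw [Nat.testBit_lt_two_pow (lt_of_lt_of_le k.2 (le_trans (by norm_num)
                (Nat.pow_le_pow_right (by norm_num : 0 < 2) hj))), Nat.testBit_two_pow_of_ne (by omega)]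
          have hsym : ∀ n, n < 2048 → odd n (2 ^ b) = n.testBit b := fun n hn => by
            have h : ∀ b : Fin 11, ∀ i : Fin 11, odd (2 ^ i.1) (2 ^ b.1) = (2 ^ i.1 : ℕ).testBit b.1 := by decide +kernel
            have main : ∀ (L : List ℕ) (m : ℕ), (∀ y ∈ L, ∃ i < 11, y = 2 ^ i) →
                odd (xl L m) (2 ^ b) = (xl L m).testBit b := by
              intro L
              induction L with
              | nil => intro m _; simp [odd, xl, Cfsg.Agent.Golay.combAux,
                  show Cfsg.Agent.Golay.combAux colMasks 0 = 0 from xl_zero _]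
              | cons y r ih =>
                intro m hL
                obtain ⟨i, hi, rfl⟩ := hL _ List.mem_cons_self
                have hr := ih (m / 2) fun w hw => hL w (List.mem_cons_of_mem _ hw)
                simp only [xl, Cfsg.Agent.Golay.combAux] at hr ⊢
                cases m.testBit 0
                · simpa using hr
                · simp only [if_true]
                  rw [odd_xor, hr, Nat.testBit_xor, h ⟨b, hb⟩ ⟨i, hi⟩]
            have h' := main pows n fun y hy => by
              rw [pows_eq, List.mem_map] at hy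
              obtain ⟨i, hi, rfl⟩ := hy
              exact ⟨i, List.mem_range.1 hi, rfl⟩
            rwa [show xl pows n = n from xl_pows hn] at h'
          rw [hpow, hsym n hn, hsym m hm] at hs
          exact hs
        · have hp' : 2048 ≤ 2 ^ b := le_trans (by norm_num) (Nat.pow_le_pow_right (by norm_num : 0 < 2) hb)
          rw [Nat.testBit_lt_two_pow (lt_of_lt_of_le hn hp'), Nat.testBit_lt_two_pow (lt_of_lt_of_le hm hp')]
      rw [← hnm] at e
      calc M.C.psi n * (g : G) = (g : G) * ((g : G)⁻¹ * M.C.psi n * g) := by group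
        _ = (g : G) * M.C.psi n := by rw [e]
    · intro hg
      refine ⟨0, Subtype.ext ?_⟩
      show p g = trP 0
      rw [trP_zero]
      refine (hp g).unique M ⟨g.2, fun k n m hn hm e => ?_⟩
      obtain ⟨j, hj, ej⟩ := M.C.surj _ hg
      rw [← ej] at e
      have e' : M.C.psi n = M.C.psi m := by
        rw [← e, show (M.C.psi j)⁻¹ * M.C.psi n * M.C.psi j = (M.C.psi j)⁻¹ * (M.C.psi n * M.C.psi j) by group,
          (psi_comm M n j).eq, inv_mul_cancel_left]
      rw [M.C.inj n m hn hm e', Equiv.Perm.one_apply]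
  have hsurj : Function.Surjective ψ := by
    haveI : Finite (AG D) := inferInstance
    rw [← MonoidHom.range_eq_top]
    refine Subgroup.eq_top_of_le_card _ ?_
    have h1 := ψ.ker.card_mul_index
    rw [Subgroup.index_ker, hker,
      Nat.card_congr (Subgroup.subgroupOfEquivOfLe Subgroup.le_normalizer).toEquiv] at h1
    rw [Cfsg.Agent.Golay.card_M24]
    have h2 := card_bound M
    rw [← h1, mul_comm] at h2
    exact Nat.le_of_mul_le_mul_left h2 Nat.card_pos
  have hn : ((AG D).subgroupOf (NG D)).Normal := hker ▸ ψ.normal_ker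
  exact ⟨hn, ⟨(QuotientGroup.quotientMulEquivOfEq hker.symm).trans
    (QuotientGroup.quotientKerEquivOfSurjective _ hsurj)⟩⟩

end Cfsg.Agent.CoGolay
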