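import Cfsg.Agent.LargeExt10.Golay.Exact
import Cfsg.Agent.LargeExt10.Golay.Quot
import Cfsg.Agent.Lib.Frobenius.Gaschuetz

/-!
# A complement in a Sylow subgroup, and the complement in the normaliser
-/

set_option autoImplicit false

namespace Cfsg.Agent.CoGolay

open QuadraticMap Cfsg.Agent.Reflections Cfsg.Agent.LargeExtraspecial Cfsg.Agent.LargeExt10
open Cfsg.Agent.LargeExt10.Co Cfsg.Agent.LargeExt10.Co.Frame
open Cfsg.Agent.OrthCohom (bilB)
open scoped Pointwise

variable {G : Type*} [Group G] [Finite G] {z : G} {Q : Subgroup G} {D : Co z Q} {F : Frame D}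

theorem rep_linear {γ : O8} {f : ℕ → ℕ} (h : Rep γ f) :
    ∀ k < 256, f k = xl (imgs8.map f) k ∧ f k < 256 := fun k hk => by
  refine ⟨vc_inj (h k hk).1 (xl_lt _ _ 8 fun b hb => ?_) ?_, (h k hk).1⟩
  · obtain ⟨a, ha, rfl⟩ := List.mem_map.1 hb
    exact (h a (imgs8_lt a ha)).1
  · rw [← (h k hk).2]
    conv_lhs => rw [← xl_imgs8 hk]
    exact vc_xl imgs8 k γ f fun b hb => (h b (imgs8_lt b hb)).2

theorem tv_lin {i : ℕ} (hi : i < 6) : ∀ k < 256, tv i k = xl (imgs8.map (tv i)) k ∧ tv i k < 256 :=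
  fun k hk => by
    have h := List.all_eq_true.1 (List.all_eq_true.1 tv_linear i (List.mem_range.2 hi)) k (List.mem_range.2 hk)
    simpa using h

theorem tv_tv {i : ℕ} (hi : i < 6) : ∀ b ∈ imgs8, tv i (tv i b) = b := fun b hb => by
  have h : ∀ k < 16, tv i (tv i k) = k ∧ tv i (tv i (16 * k)) = 16 * k := fun k hk => by
    have h := List.all_eq_true.1 (List.all_eq_true.1 tv_pres i (List.mem_range.2 hi)) k (List.mem_range.2 hk)
    simp only [Bool.and_eq_true, beq_iff_eq] at h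
    exact ⟨h.1.2, h.2⟩
  simp only [imgs8, List.mem_cons, List.not_mem_nil, or_false] at hb
  rcases hb with rfl | rfl | rfl | rfl | rfl | rfl | rfl | rfl
  exacts [(h 1 (by norm_num)).1, (h 2 (by norm_num)).1, (h 4 (by norm_num)).1, (h 8 (by norm_num)).1,
    (h 1 (by norm_num)).2, (h 2 (by norm_num)).2, (h 4 (by norm_num)).2, (h 8 (by norm_num)).2]

variable (M : Model F)

theorem y_lev : IsLev M.C M.gy (tv 1) :=
  M.levY.congr_basis (tv_lin (by norm_num)) fun b hb => by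
    have h := List.all_eq_true.1 tv_comm b hb
    simp only [Bool.and_eq_true, beq_iff_eq] at h
    exact h.1.1.1.2

theorem y_sq : M.gy * M.gy = 1 := by
  have h64 : B8 (vc 64) v0 = 0 := B_of_orth (by norm_num) (by norm_num) (by decide +kernel)
  obtain ⟨r, hr, hav⟩ := F.exists_r h64
  have hS := sig_of_mem hr
  have hA0 := acts_sig hr (show (64 : ℕ) < 256 by norm_num) hav (by decide +kernel) (by decide +kernel)
  have hy := y_lev M
  have hA : Acts D r (tv 1) := ⟨hA0.cz, hy.acts.rep |> fun h => by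
    rwa [h.ext hA0.rep fun b hb => (show ∀ b ∈ imgs8, tv 1 b = eich 1 64 b by decide +kernel) b hb] at h⟩
  have hr2 : r * r = 1 := by
    rw [sq_sig hr hav h64, Q_of (e := false) (show (64 : ℕ) < 256 by norm_num) (by decide +kernel)]
    exact F.el_zero
  refine inv_of_invol hy hA hr2 (tv_tv (by norm_num)) fun m hm k hk et _ _ => ?_
  have h2 : 2 < 2048 := by norm_num
  have hmA : m < 2048 := by omega
  -- commuting with `s` and with three elements of the complement
  have hgs : Commute M.gy (M.C.psi 2) := by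
    refine mul_inv_eq_iff_eq_mul.1 ?_
    rw [(hy.hu 2 (by norm_num)).2, show gu (tv 1) 2 = 2 by decide +kernel]
  have hrs : Commute r (M.C.psi 2) := by rw [M.C.psi_s]; exact hS.cs
  have hq : M.C.psi m * M.C.w k = M.gy⁻¹ * r := by rw [et]; group
  have hqs : Commute (M.C.psi m * M.C.w k) (M.C.psi 2) := by rw [hq]; exact hgs.inv_left.mul_left hrs
  have hk1 : orth 1 (16 * k) = true := by
    have hw : Commute (M.C.w k) (M.C.psi 2) := by
      have := ((psi_comm M m 2).inv_left).mul_left hqs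
      rwa [inv_mul_cancel_left] at this
    have he : wk k 2 = 2 := M.C.inj _ _ (Crd.wk_lt h2) h2 (by
      rw [← M.C.conj_w k hk 2 h2, hw.eq, mul_inv_cancel_right])
    have h := List.all_eq_true.1 (List.all_eq_true.1 wk_low k (List.mem_range.2 hk)) 2 (List.mem_range.2 (by norm_num))
    rw [beq_iff_eq, he] at h
    by_contra hc
    rw [Bool.not_eq_true] at hc
    rw [show (2 : ℕ) / 2 = 1 from rfl, hc] at h
    simp at h
  have hm2 : ∀ i ∈ [2, 4, 8], orth (m / 2) (16 * i) = true := by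
    intro i hi
    obtain ⟨hi16, ho1, hoB, hfix⟩ : i < 16 ∧ orth (16 * i) 1 = true ∧ orth 64 (16 * i) = true ∧
        tv 1 (16 * i) = 16 * i := by
      simp only [List.mem_cons, List.not_mem_nil, or_false] at hi
      rcases hi with rfl | rfl | rfl <;> decide +kernel
    obtain ⟨hw, hwc⟩ := M.C.w_mem i hi16
    have hrw : Commute r (M.C.w i) := by
      have e := comm_RQ hr hw (commute_s_of_low F hw (by omega) ho1 hwc)
      rw [hwc, hav.polar_eq (B_of_orth (by omega) (by norm_num) ho1), B_of_orth (by norm_num) (by omega) hoB,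
        F.el_zero, mul_inv_eq_one, mul_inv_eq_iff_eq_mul] at e
      exact e
    have hgw : Commute M.gy (M.C.w i) := by
      refine mul_inv_eq_iff_eq_mul.1 ?_
      rw [hy.hw i hi16, hfix, Nat.mul_div_cancel_left i (by norm_num)]
    have hqw : Commute (M.C.psi m * M.C.w k) (M.C.w i) := by rw [hq]; exact hgw.inv_left.mul_left hrw
    have hpw : Commute (M.C.psi m) (M.C.w i) := by
      have := hqw.mul_left (M.C.commute_w (j := k) (k := i)).inv_left
      rwa [mul_inv_cancel_right] at this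
    have he : wk i m = m := M.C.inj _ _ (Crd.wk_lt hmA) hmA (by
      rw [← M.C.conj_w i hi16 m hmA, ← hpw.eq, mul_inv_cancel_right])
    have h := List.all_eq_true.1 (List.all_eq_true.1 wk_low i (List.mem_range.2 hi16)) m (List.mem_range.2 hm)
    rw [beq_iff_eq, he] at h
    by_contra hc
    rw [Bool.not_eq_true] at hc
    rw [hc] at h
    have := Nat.xor_eq_zero_iff.2 h.symm
    simp only [Bool.false_eq_true, if_false] at this
    rw [Nat.xor_comm m 1, Nat.xor_assoc, Nat.xor_self] at this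
    simp at this
  have hj : m / 2 < 2 := by
    have h := List.all_eq_true.1 y_fix (m / 2) (List.mem_range.2 (by omega))
    rw [show (32 : ℕ) = 16 * 2 from rfl, show (64 : ℕ) = 16 * 4 from rfl, show (128 : ℕ) = 16 * 8 from rfl,
      hm2 2 (by simp), hm2 4 (by simp), hm2 8 (by simp)] at h
    simpa using h
  rcases (show m / 2 = 0 ∨ m / 2 = 1 by omega) with e | e <;> rw [e]
  · exact (show ∀ k : Fin 16, orth 0 (16 * k.1) = true by decide +kernel) ⟨k, hk⟩
  · exact hk1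

/-- Conjugation by a word. -/
theorem conj_lev {g : G} {f f' : ℕ → ℕ} {L : List ℕ} (hL : levB L = true) (hR : levB L.reverse = true)
    (hg : IsLev M.C g f) (h2 : g * g = 1) (hlin : ∀ k < 256, f' k = xl (imgs8.map f') k ∧ f' k < 256)
    (e : ∀ b ∈ imgs8, wd L (f (wd L.reverse b)) = f' b ∧ wd L (wd L.reverse b) = b) :
    ∃ x, IsLev M.C x f' ∧ x * x = 1 := by
  obtain ⟨c, hc⟩ := exists_lev M.C hL
  obtain ⟨c', hc'⟩ := exists_lev M.C hR
  have hi := hc.inv hc' fun b hb => (e b hb).2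
  exact ⟨c * g * c⁻¹, ((hc.mul hg).mul hi).congr_basis hlin fun b hb => (e b hb).1, by
    rw [show c * g * c⁻¹ * (c * g * c⁻¹) = c * (g * g) * c⁻¹ by group, h2]; group⟩

theorem exists_tv {i : ℕ} (hi : i < 6) : ∃ x, IsLev M.C x (tv i) ∧ x * x = 1 := by
  have h := List.all_eq_true.1 tv_words i (List.mem_range.2 hi)
  simp only [Bool.and_eq_true, List.all_eq_true, beq_iff_eq] at h
  exact conj_lev M h.1.1 h.1.2 (y_lev M) (y_sq M) (tv_lin hi) fun b hb => h.2 b hb

theorem allInv_tv {i : ℕ} (hi : i < 6) : AllInv M.C (tv i) := by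
  obtain ⟨x, hx, h2⟩ := exists_tv M hi
  exact allInv_of hx h2 (tv_tv hi)

theorem exists_sk {t0 : G} (ht : Acts D t0 gs) (h2 : t0 * t0 = 1) :
    ∃ x, IsLev M.C x sk ∧ x * x = 1 := by
  obtain ⟨x0, hx0, -⟩ := exists_tv M (show 0 < 6 by norm_num)
  obtain ⟨x5, hx5, -⟩ := exists_tv M (show 5 < 6 by norm_num)
  have hx : IsLev M.C (x0 * x5) sk := (hx0.mul hx5).congr fun k _ => rfl
  refine ⟨_, hx, ?_⟩
  have hsk2 : ∀ b ∈ imgs8, sk (sk b) = b := by decide +kernel
  obtain ⟨c, hc⟩ := exists_acts (D := D) [34, 136] (by decide +kernel)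
  have hA : Acts D (c * t0 * c⁻¹) sk := hc.conj ht (rep_linear hx.acts.rep) fun b hb => by
    have h := List.all_eq_true.1 tv_comm b hb
    simp only [Bool.and_eq_true, beq_iff_eq, decide_eq_true_eq] at h
    exact ⟨h.2, h.1.2, h.1.1.2⟩
  refine inv_of_invol hx hA (by
    rw [show c * t0 * c⁻¹ * (c * t0 * c⁻¹) = c * (t0 * t0) * c⁻¹ by group, h2]; group) hsk2
    fun m hm k hk _ hfk hlt => ?_
  have hjlt : m / 2 < 16 := by omega
  have hw := List.all_eq_true.1 (List.all_eq_true.1 wk_low k (List.mem_range.2 hk)) m (List.mem_range.2 hm)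
  rw [beq_iff_eq] at hw
  have hj : sk (m / 2) = m / 2 := by
    rw [hw] at hlt
    obtain ⟨d, hd, hdl⟩ : ∃ d, gu sk m = m ^^^ d ∧ d < 2 := by
      refine ⟨gu sk m ^^^ m, by rw [Nat.xor_comm (gu sk m), ← Nat.xor_assoc, Nat.xor_self, Nat.zero_xor], ?_⟩
      have hb : (if orth (m / 2) (16 * k) then 0 else 1) < 2 := by split <;> norm_num
      have := Nat.xor_lt_two_pow (n := 1) hlt hb
      rwa [Nat.xor_assoc, Nat.xor_assoc, Nat.xor_self, Nat.xor_zero] at this
    have h1 : gu sk m / 2 = m / 2 := by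
      rw [hd, Nat.xor_div_two, Nat.div_eq_of_lt hdl, Nat.xor_zero]
    rw [gu, Nat.xor_div_two, Nat.div_eq_of_lt (Nat.mod_lt _ (by norm_num : 2 > 0)), Nat.zero_xor,
      Nat.mul_div_cancel_left _ (by norm_num : 0 < 2), Nat.mod_eq_of_lt hjlt] at h1
    exact h1
  have h := List.all_eq_true.1 (List.all_eq_true.1 sk_fix (m / 2) (List.mem_range.2 hjlt)) k (List.mem_range.2 hk)
  simpa [hj, hfk] using h

/-- The six transvection lifts with their relations. -/
structure Uni (C : Crd F) where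
  g : Fin 6 → G
  lev : ∀ i, IsLev C (g i) (tv i.1)
  sq : ∀ i, g i * g i = 1
  comm : ∀ a b : Fin 6, (a.1, b.1) ∈ [(2, 4), (2, 5), (4, 5), (0, 2), (0, 5), (1, 2), (1, 4), (3, 2), (3, 4),
    (1, 3), (0, 1)] → Commute (g a) (g b)
  r03 : g 0 * g 3 * g 0 * g 3 = g 1
  r35 : g 3 * g 5 * g 3 * g 5 = g 4
  r04 : g 0 * g 4 * g 0 * g 4 = g 2

theorem exists_uni {t0 : G} (ht : Acts D t0 gs) (h2 : t0 * t0 = 1) : Nonempty (Uni M.C) := by
  obtain ⟨g0, l0, s0⟩ := exists_tv M (show 0 < 6 by norm_num)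
  obtain ⟨g3, l3, s3⟩ := exists_tv M (show 3 < 6 by norm_num)
  obtain ⟨g5, l5, s5⟩ := exists_tv M (show 5 < 6 by norm_num)
  obtain ⟨xs, hxs, sxs⟩ := exists_sk M ht h2
  have hc := fun b hb => List.all_eq_true.1 tv_comm b hb
  simp only [Bool.and_eq_true, beq_iff_eq] at hc
  have l1 : IsLev M.C (g0 * g3 * g0 * g3) (tv 1) :=
    (((l0.mul l3).mul l0).mul l3).congr_basis (tv_lin (by norm_num)) fun b hb => (hc b hb).1.1.1.1.1.1
  have l4 : IsLev M.C (g3 * g5 * g3 * g5) (tv 4) :=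
    (((l3.mul l5).mul l3).mul l5).congr_basis (tv_lin (by norm_num)) fun b hb => (hc b hb).1.1.1.1.1.2
  set g1 := g0 * g3 * g0 * g3
  set g4 := g3 * g5 * g3 * g5
  have l2 : IsLev M.C (g0 * g4 * g0 * g4) (tv 2) :=
    (((l0.mul l4).mul l0).mul l4).congr_basis (tv_lin (by norm_num)) fun b hb => (hc b hb).1.1.1.1.2
  set g2 := g0 * g4 * g0 * g4
  let g : Fin 6 → G := ![g0, g1, g2, g3, g4, g5]
  have lev : ∀ i, IsLev M.C (g i) (tv i.1) := by
    intro i; fin_cases i
    exacts [l0, l1, l2, l3, l4, l5]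
  have sq : ∀ i, g i * g i = 1 := fun i => allInv_tv M i.2 _ (lev i)
  refine ⟨⟨g, lev, sq, fun a b hab => ?_, rfl, rfl, rfl⟩⟩
  rw [← pair_codes, List.mem_map] at hab
  obtain ⟨p, hp, e⟩ := hab
  obtain ⟨ea, eb⟩ := Prod.mk.injEq _ _ _ _ |>.mp e
  have hw := List.all_eq_true.1 pair_words p hp
  simp only [Bool.and_eq_true, List.all_eq_true, beq_iff_eq, ea, eb] at hw
  have hprod := (lev a).mul (lev b)
  obtain ⟨x, hx, hx2⟩ : ∃ x, IsLev M.C x (tv a.1 ∘ tv b.1) ∧ x * x = 1 := by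
    cases hk : p.2.2.1
    · refine conj_lev M hw.1.1 hw.1.2 (y_lev M) (y_sq M) (rep_linear hprod.acts.rep) fun b hb => ?_
      simpa [hk] using hw.2 b hb
    · refine conj_lev M hw.1.1 hw.1.2 hxs sxs (rep_linear hprod.acts.rep) fun b hb => ?_
      simpa [hk] using hw.2 b hb
  obtain ⟨c, hc2, ec⟩ := lev_id (hprod.mul hx) (fun v hv => by
    have h1 := (hprod.mul hx).acts.rep v (imgs8_lt v hv)
    have h3 : D.ρ (g a * g b * x) = 1 := by
      rw [D.ρ_mul hprod.acts.cz hx.acts.cz, hprod.acts.rep.ext hx.acts.rep fun _ _ => rfl,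
        ← D.ρ_mul hx.acts.cz hx.acts.cz, hx2, D.rho_one]
    rw [h3, OrthCohom.act_one'] at h1
    exact (vc_inj (imgs8_lt v hv) h1.1 h1.2).symm)
  have hi : (M.C.psi c)⁻¹ = M.C.psi c := inv_eq_of_mul_eq_one_left (by rw [← M.C.hom, Nat.xor_self, M.C.psi_zero])
  have hab : g a * g b = M.C.psi c * x := by rw [← ec, mul_assoc (g a * g b), hx2, mul_one]
  have h4 : g a * g b * (g a * g b) = 1 := by
    rw [hab, show M.C.psi c * x * (M.C.psi c * x) = M.C.psi c * (x * M.C.psi c) * x by group,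
      ← ((lev_z (C := M.C) hc2).2 x hx.acts.cz).eq, ← mul_assoc, ← M.C.hom, Nat.xor_self, M.C.psi_zero,
      one_mul, hx2]
  show g a * g b = g b * g a
  rw [← inv_eq_of_mul_eq_one_left h4, mul_inv_rev, inv_eq_of_mul_eq_one_left (sq a),
    inv_eq_of_mul_eq_one_left (sq b)]

/-- Products over the bits of commuting involutions form a subgroup. -/
def bitsSub {H : Type*} [Group H] [Finite H] (L : List H) (h : ∀ a ∈ L, a * a = 1 ∧ ∀ b ∈ L, Commute a b) : Subgroup H where
  carrier := {x | ∃ n < 2 ^ L.length, x = cg L n}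
  one_mem' := ⟨0, Nat.two_pow_pos _, by
    have : ∀ L : List H, cg L 0 = 1 := fun L => by
      induction L with
      | nil => rfl
      | cons b r ih => simpa [cg] using ih
    exact (this L).symm⟩
  mul_mem' := by
    rintro _ _ ⟨m, hm, rfl⟩ ⟨n, hn, rfl⟩
    exact ⟨m ^^^ n, Nat.xor_lt_two_pow hm hn, (cg_hom L m n h).symm⟩
  inv_mem' := by
    rintro _ ⟨n, hn, rfl⟩
    refine ⟨n, hn, inv_eq_of_mul_eq_one_left ?_⟩
    have : ∀ L : List H, cg L 0 = 1 := fun L => by
      induction L with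
      | nil => rfl
      | cons b r ih => simpa [cg] using ih
    rw [← cg_hom L n n h, Nat.xor_self, this]

theorem card_bitsSub {H : Type*} [Group H] [Finite H] (L : List H) (h : ∀ a ∈ L, a * a = 1 ∧ ∀ b ∈ L, Commute a b) :
    Nat.card (bitsSub L h) ≤ 2 ^ L.length := by
  have hs : Function.Surjective fun n : Fin (2 ^ L.length) => (⟨cg L n.1, n.1, n.2, rfl⟩ : bitsSub L h) := by
    rintro ⟨x, n, hn, rfl⟩
    exact ⟨⟨n, hn⟩, rfl⟩
  refine (Nat.card_le_card_of_surjective _ hs).trans ?_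
  rw [Nat.card_eq_fintype_card, Fintype.card_fin]

theorem bitsSub_le_normalizer {H : Type*} [Group H] [Finite H] (L : List H) (h : ∀ a ∈ L, a * a = 1 ∧ ∀ b ∈ L, Commute a b)
    {g : H} (hg2 : g * g = 1) (hg : ∀ a ∈ L, g * a * g⁻¹ ∈ bitsSub L h) :
    g ∈ Subgroup.normalizer (bitsSub L h : Set H) := by
  have key : ∀ x ∈ bitsSub L h, g * x * g⁻¹ ∈ bitsSub L h := by
    rintro _ ⟨n, -, rfl⟩
    rw [conj_cg]
    refine cg_mem _ _ fun b hb => ?_
    obtain ⟨a, ha, rfl⟩ := List.mem_map.1 hb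
    exact hg a ha
  refine Subgroup.mem_normalizer_iff.2 fun x => ⟨key x, fun hx => ?_⟩
  have := key _ hx
  have hi : g⁻¹ = g := inv_eq_of_mul_eq_one_left hg2
  rwa [hi, show g * (g * x * g) * g = (g * g) * x * (g * g) by group, hg2, one_mul, mul_one] at this

theorem mem_bitsSub {H : Type*} [Group H] [Finite H] (L : List H) (h : ∀ a ∈ L, a * a = 1 ∧ ∀ b ∈ L, Commute a b) :
    ∀ a ∈ L, a ∈ bitsSub L h := fun a ha => by
  obtain ⟨i, hi, rfl⟩ := List.getElem_of_mem ha
  exact ⟨2 ^ i, Nat.pow_lt_pow_right (by norm_num) hi, by rw [cg_two_pow, List.getD_eq_getElem _ _ hi]⟩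

theorem card_sup_le {H : Type*} [Group H] [Finite H] (A B : Subgroup H)
    (h : A ≤ Subgroup.normalizer (B : Set H)) : Nat.card ↥(A ⊔ B) ≤ Nat.card A * Nat.card B := by
  have e : ((A ⊔ B : Subgroup H) : Set H) = (A : Set H) * (B : Set H) :=
    Subgroup.coe_mul_of_left_le_normalizer_right A B h
  have := Set.natCard_mul_le (s := (A : Set H)) (t := (B : Set H))
  rw [← e] at this
  exact this

include M in
theorem exists_sylow_compl {t0 : G} (ht : Acts D t0 gs) (h2 : t0 * t0 = 1) :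
    ∃ K : Subgroup G, K ≤ NG D ∧ Nat.card K = 1024 ∧ AG D ⊓ K = ⊥ := by
  classical
  obtain ⟨U⟩ := exists_uni M ht h2
  have cm := U.comm
  have c24 := cm 2 4 (by decide)
  have c25 := cm 2 5 (by decide)
  have c45 := cm 4 5 (by decide)
  have c02 := cm 0 2 (by decide)
  have c05 := cm 0 5 (by decide)
  have c12 := cm 1 2 (by decide)
  have c14 := cm 1 4 (by decide)
  have c32 := cm 3 2 (by decide)
  have c34 := cm 3 4 (by decide)
  have c13 := cm 1 3 (by decide)
  have c01 := cm 0 1 (by decide)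
  have inv : ∀ i, (U.g i)⁻¹ = U.g i := fun i => inv_eq_of_mul_eq_one_left (U.sq i)
  let L1 : List G := [U.g 2, U.g 4, U.g 5]
  let L2 : List G := [U.g 1, U.g 3]
  let L3 : List G := [U.g 0]
  have h1 : ∀ a ∈ L1, a * a = 1 ∧ ∀ b ∈ L1, Commute a b := by
    simp only [L1, List.mem_cons, List.not_mem_nil, or_false, forall_eq_or_imp, forall_eq]
    exact ⟨⟨U.sq 2, Commute.refl _, c24, c25⟩, ⟨U.sq 4, c24.symm, Commute.refl _, c45⟩,
      ⟨U.sq 5, c25.symm, c45.symm, Commute.refl _⟩⟩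
  have h2' : ∀ a ∈ L2, a * a = 1 ∧ ∀ b ∈ L2, Commute a b := by
    simp only [L2, List.mem_cons, List.not_mem_nil, or_false, forall_eq_or_imp, forall_eq]
    exact ⟨⟨U.sq 1, Commute.refl _, c13⟩, ⟨U.sq 3, c13.symm, Commute.refl _⟩⟩
  have h3 : ∀ a ∈ L3, a * a = 1 ∧ ∀ b ∈ L3, Commute a b := by
    simp only [L3, List.mem_cons, List.not_mem_nil, or_false, forall_eq]
    exact ⟨U.sq 0, Commute.refl _⟩
  set B1 := bitsSub L1 h1
  set B2 := bitsSub L2 h2'
  set B3 := bitsSub L3 h3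
  have m1 : ∀ i ∈ ([2, 4, 5] : List (Fin 6)), U.g i ∈ B1 := fun i hi => mem_bitsSub L1 h1 _ (by
    simp only [List.mem_cons, List.not_mem_nil, or_false] at hi
    rcases hi with rfl | rfl | rfl <;> simp [L1])
  have m2 : ∀ i ∈ ([1, 3] : List (Fin 6)), U.g i ∈ B2 := fun i hi => mem_bitsSub L2 h2' _ (by
    simp only [List.mem_cons, List.not_mem_nil, or_false] at hi
    rcases hi with rfl | rfl <;> simp [L2])
  have fixd : ∀ {a b : G}, Commute a b → a * b * a⁻¹ = b := fun {a b} h => by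
    rw [h.eq, mul_inv_cancel_right]
  have r03 : U.g 0 * U.g 3 * (U.g 0)⁻¹ = U.g 1 * U.g 3 := by
    rw [← U.r03, inv, mul_assoc (U.g 0 * U.g 3 * U.g 0), U.sq 3, mul_one]
  have r04 : U.g 0 * U.g 4 * (U.g 0)⁻¹ = U.g 2 * U.g 4 := by
    rw [← U.r04, inv, mul_assoc (U.g 0 * U.g 4 * U.g 0), U.sq 4, mul_one]
  have r35 : U.g 3 * U.g 5 * (U.g 3)⁻¹ = U.g 4 * U.g 5 := by
    rw [← U.r35, inv, mul_assoc (U.g 3 * U.g 5 * U.g 3), U.sq 5, mul_one]
  have e53 : U.g 5 * U.g 3 * U.g 5 = U.g 3 * U.g 4 := by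
    rw [← U.r35]
    simp only [← mul_assoc, U.sq 3, one_mul]
  have e40 : U.g 4 * U.g 0 = U.g 0 * U.g 2 * U.g 4 := by
    rw [mul_assoc, ← r04, inv]
    simp only [← mul_assoc, U.sq 0, one_mul]
  have e51 : U.g 5 * U.g 1 * U.g 5 = U.g 1 * U.g 2 := by
    rw [← U.r03]
    calc U.g 5 * (U.g 0 * U.g 3 * U.g 0 * U.g 3) * U.g 5
        = (U.g 5 * U.g 0) * (U.g 3 * (U.g 0 * U.g 3)) * U.g 5 := by group
      _ = (U.g 0 * U.g 5) * (U.g 3 * (U.g 0 * U.g 3)) * U.g 5 := by rw [c05.symm.eq]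
      _ = U.g 0 * (U.g 5 * U.g 3) * (U.g 0 * U.g 3 * U.g 5) := by group
      _ = U.g 0 * (U.g 5 * U.g 3 * (U.g 5 * U.g 5)) * (U.g 0 * U.g 3 * U.g 5) := by rw [U.sq 5, mul_one]
      _ = U.g 0 * (U.g 5 * U.g 3 * U.g 5) * (U.g 5 * U.g 0) * (U.g 3 * U.g 5) := by group
      _ = U.g 0 * (U.g 3 * U.g 4) * (U.g 0 * U.g 5) * (U.g 3 * U.g 5) := by rw [e53, c05.symm.eq]
      _ = U.g 0 * U.g 3 * (U.g 4 * U.g 0) * (U.g 5 * U.g 3 * U.g 5) := by group
      _ = U.g 0 * U.g 3 * (U.g 0 * U.g 2 * U.g 4) * (U.g 3 * U.g 4) := by rw [e53, e40]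
      _ = U.g 0 * U.g 3 * U.g 0 * U.g 2 * (U.g 4 * U.g 3) * U.g 4 := by group
      _ = U.g 0 * U.g 3 * U.g 0 * U.g 2 * (U.g 3 * U.g 4) * U.g 4 := by rw [c34.symm.eq]
      _ = U.g 0 * U.g 3 * U.g 0 * (U.g 2 * U.g 3) * (U.g 4 * U.g 4) := by group
      _ = U.g 0 * U.g 3 * U.g 0 * (U.g 3 * U.g 2) := by rw [U.sq 4, mul_one, c32.symm.eq]
      _ = U.g 0 * U.g 3 * U.g 0 * U.g 3 * U.g 2 := by group
  have r15 : U.g 1 * U.g 5 * (U.g 1)⁻¹ = U.g 2 * U.g 5 := by
    rw [inv]
    calc U.g 1 * U.g 5 * U.g 1 = U.g 1 * (U.g 5 * U.g 1 * (U.g 5 * U.g 5)) := by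
          rw [U.sq 5, mul_one, mul_assoc]
      _ = U.g 1 * (U.g 5 * U.g 1 * U.g 5) * U.g 5 := by group
      _ = (U.g 1 * U.g 1) * U.g 2 * U.g 5 := by rw [e51]; group
      _ = U.g 2 * U.g 5 := by rw [U.sq 1, one_mul]
  have n1 : B2 ⊔ B3 ≤ Subgroup.normalizer (B1 : Set G) := by
    have hgen : ∀ i ∈ ([0, 1, 3] : List (Fin 6)), U.g i ∈ Subgroup.normalizer (B1 : Set G) := by
      intro i hi
      refine bitsSub_le_normalizer L1 h1 (U.sq i) ?_
      simp only [List.mem_cons, List.not_mem_nil, or_false] at hi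
      intro a ha
      simp only [L1, List.mem_cons, List.not_mem_nil, or_false] at ha
      rcases hi with rfl | rfl | rfl <;> rcases ha with rfl | rfl | rfl
      · rw [fixd c02]; exact m1 2 (by simp)
      · rw [r04]; exact mul_mem (m1 2 (by simp)) (m1 4 (by simp))
      · rw [fixd c05]; exact m1 5 (by simp)
      · rw [fixd c12]; exact m1 2 (by simp)
      · rw [fixd c14]; exact m1 4 (by simp)
      · rw [r15]; exact mul_mem (m1 2 (by simp)) (m1 5 (by simp))
      · rw [fixd c32]; exact m1 2 (by simp)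
      · rw [fixd c34]; exact m1 4 (by simp)
      · rw [r35]; exact mul_mem (m1 4 (by simp)) (m1 5 (by simp))
    refine sup_le ?_ ?_
    · rintro _ ⟨n, -, rfl⟩
      refine cg_mem _ _ fun b hb => ?_
      simp only [L2, List.mem_cons, List.not_mem_nil, or_false] at hb
      rcases hb with rfl | rfl <;> exact hgen _ (by simp)
    · rintro _ ⟨n, -, rfl⟩
      refine cg_mem _ _ fun b hb => ?_
      simp only [L3, List.mem_cons, List.not_mem_nil, or_false] at hb
      subst hb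
      exact hgen _ (by simp)
  have n2 : B3 ≤ Subgroup.normalizer (B2 : Set G) := by
    rintro _ ⟨n, -, rfl⟩
    refine cg_mem _ _ fun b hb => ?_
    simp only [L3, List.mem_cons, List.not_mem_nil, or_false] at hb
    subst hb
    refine bitsSub_le_normalizer L2 h2' (U.sq 0) fun a ha => ?_
    simp only [L2, List.mem_cons, List.not_mem_nil, or_false] at ha
    rcases ha with rfl | rfl
    · rw [fixd c01]; exact m2 1 (by simp)
    · rw [r03]; exact mul_mem (m2 1 (by simp)) (m2 3 (by simp))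
  set S := (B3 ⊔ B2) ⊔ B1
  have hS : Nat.card S ≤ 64 := by
    refine (card_sup_le _ _ (by rw [sup_comm]; exact n1)).trans ?_
    refine (Nat.mul_le_mul (card_sup_le _ _ n2) (le_refl _)).trans ?_
    calc Nat.card B3 * Nat.card B2 * Nat.card B1 ≤ 2 ^ L3.length * 2 ^ L2.length * 2 ^ L1.length :=
          Nat.mul_le_mul (Nat.mul_le_mul (card_bitsSub _ _) (card_bitsSub _ _)) (card_bitsSub _ _)
      _ = 64 := rfl
  let LW : List G := [M.C.w 1, M.C.w 2, M.C.w 4, M.C.w 8]
  have hLW : ∀ a ∈ LW, a * a = 1 ∧ ∀ b ∈ LW, Commute a b := by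
    intro a ha
    have hw : ∀ x ∈ LW, ∃ j, x = M.C.w j := fun x hx => by
      simp only [LW, List.mem_cons, List.not_mem_nil, or_false] at hx
      rcases hx with rfl | rfl | rfl | rfl <;> exact ⟨_, rfl⟩
    obtain ⟨j, rfl⟩ := hw a ha
    refine ⟨by rw [← M.C.w_hom, Nat.xor_self, M.C.w_zero], fun b hb => ?_⟩
    obtain ⟨i, rfl⟩ := hw b hb
    exact M.C.commute_w
  set BW := bitsSub LW hLW
  have hwk : ∀ k < 16, M.C.w k ∈ BW := fun k hk => ⟨k, hk, by
    have h := cg_map_hom M.C.w_hom [1, 2, 4, 8] k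
    rw [(show ∀ k : Fin 16, xl [1, 2, 4, 8] k.1 = k.1 by decide +kernel) ⟨k, hk⟩] at h
    exact h⟩
  have nW : ∀ i : Fin 6, U.g i ∈ Subgroup.normalizer (BW : Set G) := fun i => by
    refine bitsSub_le_normalizer LW hLW (U.sq i) fun a ha => ?_
    obtain ⟨j, hj, rfl⟩ : ∃ j, j < 16 ∧ a = M.C.w j := by
      simp only [LW, List.mem_cons, List.not_mem_nil, or_false] at ha
      rcases ha with rfl | rfl | rfl | rfl <;> exact ⟨_, by norm_num, rfl⟩
    obtain ⟨k', hk', e⟩ := ((U.lev i).pres j hj).2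
    rw [(U.lev i).hw j hj, e, Nat.mul_div_cancel_left k' (by norm_num)]
    exact hwk k' hk'
  have hSgen : ∀ (L : List G) (h : ∀ a ∈ L, a * a = 1 ∧ ∀ b ∈ L, Commute a b) (H : Subgroup G),
      (∀ a ∈ L, a ∈ H) → bitsSub L h ≤ H := by
    intro L h H hL x hx
    obtain ⟨n, -, rfl⟩ := hx
    exact cg_mem L n hL
  have hgU : ∀ a ∈ L3 ++ L2 ++ L1, ∃ i, a = U.g i := by
    intro a ha
    simp only [L1, L2, L3, List.cons_append, List.nil_append, List.mem_cons, List.not_mem_nil, or_false] at ha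
    rcases ha with rfl | rfl | rfl | rfl | rfl | rfl <;> exact ⟨_, rfl⟩
  have hSle : ∀ H : Subgroup G, (∀ i, U.g i ∈ H) → S ≤ H := fun H hH =>
    sup_le (sup_le (hSgen _ _ _ fun a ha => by
        obtain ⟨i, rfl⟩ := hgU a (by simp [ha]); exact hH i)
      (hSgen _ _ _ fun a ha => by obtain ⟨i, rfl⟩ := hgU a (by simp [ha]); exact hH i))
      (hSgen _ _ _ fun a ha => by obtain ⟨i, rfl⟩ := hgU a (by simp [ha]); exact hH i)
  set K := S ⊔ BW
  have hKle : K ≤ NG D := by
    refine sup_le (hSle _ fun i => lev_NG M (U.lev i)) (hSgen _ _ _ fun a ha => ?_)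
    simp only [LW, List.mem_cons, List.not_mem_nil, or_false] at ha
    rcases ha with rfl | rfl | rfl | rfl <;> exact Q_le_NG (M.C.w_mem _ (by norm_num)).1
  have hKc : Nat.card K ≤ 1024 :=
    (card_sup_le S BW (hSle _ nW)).trans (Nat.mul_le_mul hS (card_bitsSub LW hLW))
  -- the normal form
  let E : Fin 64 × Fin 16 → G := fun x =>
    M.C.w x.2.1 * ((if x.1.1.testBit 0 then U.g 0 else 1) * ((if x.1.1.testBit 1 then U.g 1 else 1) *
      ((if x.1.1.testBit 2 then U.g 3 else 1) * ((if x.1.1.testBit 3 then U.g 2 else 1) *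
        ((if x.1.1.testBit 4 then U.g 4 else 1) * (if x.1.1.testBit 5 then U.g 5 else 1))))))
  have hgK : ∀ i : Fin 6, U.g i ∈ K := by
    intro i
    apply Subgroup.mem_sup_left
    fin_cases i
    · exact Subgroup.mem_sup_left (Subgroup.mem_sup_left (mem_bitsSub L3 h3 _ (by simp [L3])))
    · exact Subgroup.mem_sup_left (Subgroup.mem_sup_right (m2 1 (by simp)))
    · exact Subgroup.mem_sup_right (m1 2 (by simp))
    · exact Subgroup.mem_sup_left (Subgroup.mem_sup_right (m2 3 (by simp)))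
    · exact Subgroup.mem_sup_right (m1 4 (by simp))
    · exact Subgroup.mem_sup_right (m1 5 (by simp))
  have hite : ∀ (b : Bool) (i : Fin 6), (if b then U.g i else 1) ∈ K := fun b i => by
    cases b
    exacts [one_mem K, hgK i]
  have hEK : ∀ x, E x ∈ K := fun x => mul_mem (Subgroup.mem_sup_right (hwk _ x.2.2)) (mul_mem (hite _ 0)
    (mul_mem (hite _ 1) (mul_mem (hite _ 3) (mul_mem (hite _ 2) (mul_mem (hite _ 4) (hite _ 5))))))
  have hEa : ∀ x, Acts D (E x) (nf x.1.1) := fun x => by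
    have hb : ∀ (b : Bool) (i : Fin 6), Acts D (if b then U.g i else 1) fun v => if b then tv i.1 v else v :=
      fun b i => by
        cases b
        · exact (acts_Q (one_mem Q)).congr fun k _ => rfl
        · exact (U.lev i).acts.congr fun k _ => rfl
    exact ((acts_Q (M.C.w_mem _ x.2.2).1).mul ((hb _ 0).mul ((hb _ 1).mul ((hb _ 3).mul ((hb _ 2).mul
      ((hb _ 4).mul (hb _ 5))))))).congr fun k _ => rfl
  have hval : ∀ x y, (∀ b ∈ [1, 2, 4, 8], nf x b = nf y b) → x < 64 → y < 64 → x = y := fun x y h hx hy => by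
    have hn := of_decide_eq_true nf_inj
    have e : [1, 2, 4, 8].map (nf x) = [1, 2, 4, 8].map (nf y) := List.map_congr_left h
    exact (List.nodup_map_iff_inj_on List.nodup_range).1 hn x (List.mem_range.2 hx) y (List.mem_range.2 hy) e
  have hEinj : Function.Injective E := fun x y e => by
    have hn : x.1 = y.1 := Fin.ext (hval _ _ (fun b hb => by
      have hb' : b < 256 := by
        simp only [List.mem_cons, List.not_mem_nil, or_false] at hb
        rcases hb with rfl | rfl | rfl | rfl <;> norm_num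
      refine vc_inj ((hEa x).rep b hb').1 ((hEa y).rep b hb').1 ?_
      rw [← ((hEa x).rep b hb').2, ← ((hEa y).rep b hb').2, e]) x.1.2 y.1.2)
    obtain ⟨n, k⟩ := x
    obtain ⟨n', k'⟩ := y
    obtain rfl : n = n' := hn
    have e' : M.C.w k.1 = M.C.w k'.1 := mul_right_cancel e
    have hc := congrArg D.c e'
    rw [(M.C.w_mem _ k.2).2, (M.C.w_mem _ k'.2).2] at hc
    have := vc_inj (by omega) (by omega) hc
    rw [show k = k' from Fin.ext (by omega)]
  have hK : Nat.card K = 1024 := by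
    refine le_antisymm hKc ?_
    have h := Nat.card_le_card_of_injective (fun x => (⟨E x, hEK x⟩ : K))
      fun x y e => hEinj (congrArg Subtype.val e)
    simpa [Nat.card_eq_fintype_card] using h
  have hbij : Function.Bijective fun x => (⟨E x, hEK x⟩ : K) := by
    rw [Nat.bijective_iff_injective_and_card]
    exact ⟨fun x y e => hEinj (congrArg Subtype.val e), by rw [hK]; simp [Nat.card_eq_fintype_card]⟩
  refine ⟨K, hKle, hK, (Subgroup.eq_bot_iff_forall _).2 fun a ha => ?_⟩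
  obtain ⟨haA, haK⟩ : a ∈ AG D ∧ a ∈ K := ha
  obtain ⟨x, hx⟩ := hbij.2 ⟨a, haK⟩
  have hxa : E x = a := congrArg Subtype.val hx
  obtain ⟨p, hp, hap⟩ := AG_acts haA
  have hn : x.1.1 = 0 := hval _ 0 (fun b hb => by
    have hb' : b < 16 := by
      simp only [List.mem_cons, List.not_mem_nil, or_false] at hb
      rcases hb with rfl | rfl | rfl | rfl <;> norm_num
    have h0 : nf 0 b = b := (show ∀ b : Fin 16, nf 0 b.1 = b.1 by decide +kernel) ⟨b, hb'⟩
    have hp6 : p6 p b = b :=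
      (show ∀ (p : Fin 64) (b : Fin 16), p6 p.1 b.1 = b.1 by decide +kernel) ⟨p, hp⟩ ⟨b, hb'⟩
    rw [h0]
    refine vc_inj ((hEa x).rep b (by omega)).1 (by omega) ?_
    rw [← ((hEa x).rep b (by omega)).2, hxa, (hap.rep b (by omega)).2, hp6]) x.1.2 (by norm_num)
  have hE : E x = M.C.w x.2.1 := by
    simp only [E, hn, Nat.zero_testBit, Bool.false_eq_true, if_false, mul_one]
  rw [← hxa, hE]
  rw [← hxa, hE] at haA
  obtain ⟨hwQ, hwc⟩ := M.C.w_mem _ x.2.2
  obtain ⟨j, hj, hjc⟩ := (mem_AG_Q hwQ).1 haA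
  have := vc_inj (by omega) (by omega) (hwc.symm.trans hjc)
  rw [show x.2.1 = 0 by omega, M.C.w_zero]

include M in
/-- The complement in the normaliser. -/
theorem exists_complement {t0 : G} (ht : Acts D t0 gs) (h2 : t0 * t0 = 1) :
    ∃ K : Subgroup ↥(NG D), ((AG D).subgroupOf (NG D)).IsComplement' K := by
  classical
  obtain ⟨hn, ⟨e⟩⟩ := quot_M24 M
  obtain ⟨K, hK, hKc, hKA⟩ := exists_sylow_compl M ht h2
  haveI := hn
  set A' := (AG D).subgroupOf (NG D)
  set K' := K.subgroupOf (NG D)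
  have hA' : Nat.card A' = 2048 := by
    rw [Nat.card_congr (Subgroup.subgroupOfEquivOfLe Subgroup.le_normalizer).toEquiv, card_AG M.C]
  have hK' : Nat.card K' = 1024 := by
    rw [Nat.card_congr (Subgroup.subgroupOfEquivOfLe hK).toEquiv, hKc]
  have hdis : A' ⊓ K' = ⊥ := (Subgroup.eq_bot_iff_forall _).2 fun x hx => by
    have : (x : G) ∈ AG D ⊓ K := ⟨hx.1, hx.2⟩
    rw [hKA, Subgroup.mem_bot] at this
    exact Subtype.ext this
  haveI : IsMulCommutative A' := ⟨⟨fun a b => Subtype.ext (Subtype.ext (by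
    obtain ⟨m, -, em⟩ := M.C.surj _ a.2
    obtain ⟨n, -, en⟩ := M.C.surj _ b.2
    show ((a : ↥(NG D)) : G) * ((b : ↥(NG D)) : G) = ((b : ↥(NG D)) : G) * ((a : ↥(NG D)) : G)
    rw [← show M.C.psi m = ((a : ↥(NG D)) : G) from em, ← show M.C.psi n = ((b : ↥(NG D)) : G) from en]
    exact (psi_comm M m n).eq))⟩⟩
  have hU : Nat.card ↥(A' ⊔ K') = 2097152 := by
    let f : A' × K' → ↥(A' ⊔ K') := fun x =>
      ⟨(x.1 : ↥(NG D)) * (x.2 : ↥(NG D)), mul_mem (Subgroup.mem_sup_left x.1.2) (Subgroup.mem_sup_right x.2.2)⟩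
    have hb : Function.Bijective f := by
      refine ⟨fun x y e => Subgroup.mul_injective_of_disjoint (disjoint_iff.2 hdis) (congrArg Subtype.val e), ?_⟩
      rintro ⟨u, hu⟩
      have hu' : u ∈ ((A' ⊔ K' : Subgroup ↥(NG D)) : Set ↥(NG D)) := hu
      rw [Subgroup.normal_mul] at hu'
      obtain ⟨a, ha, k, hk, he⟩ := hu'
      exact ⟨(⟨a, ha⟩, ⟨k, hk⟩), Subtype.ext he⟩
    rw [← Nat.card_eq_of_bijective f hb, Nat.card_prod, hA', hK']
  have hN : Nat.card ↥(NG D) = 244823040 * 2048 := by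
    rw [← A'.index_mul_card, hA', Subgroup.index, Nat.card_congr e.toEquiv, Cfsg.Agent.Golay.card_M24]
  have hidx : (A' ⊔ K').index = 239085 := by
    have h := (A' ⊔ K').card_mul_index
    rw [hU, hN] at h
    omega
  obtain ⟨H, hH⟩ := Cfsg.Agent.Frobenius.gaschuetz_exists A' (A' ⊔ K') le_sup_left
    (by rw [hA', hidx]; norm_num) K' le_sup_right (by rw [inf_comm]; exact hdis) rfl
  exact ⟨H, hH⟩

end Cfsg.Agent.CoGolay
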